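import Groth.Agent.L27.PBC.FieldInv

/-! # Vanishing of higher direct images is stable under base change for proper morphisms -/

set_option autoImplicit false
set_option linter.style.haveILetI false
set_option linter.unusedSectionVars false
set_option backward.isDefEq.respectTransparency.types false

universe u

open CategoryTheory CategoryTheory.Limits AlgebraicGeometry Opposite IsLocalRing

noncomputable section

namespace Groth.L27.PBC

open Groth.L27.LimCoh

/-- Residue fields of strict henselizations map along local homomorphisms. -/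
theorem exists_residue_hom {O O₀ : Type u} [CommRing O] [IsLocalRing O] [CommRing O₀] [IsLocalRing O₀]
    (φ : O →+* O₀) [IsLocalHom φ]
    (B : Type u) [CommRing B] [IsLocalRing B] [Algebra O B] [IsLocalHom (algebraMap O B)]
    [hB : Hensel.IsStrictHenselization O B]
    (R : Type u) [CommRing R] [IsLocalRing R] [Algebra O₀ R] [IsLocalHom (algebraMap O₀ R)]
    [hR : Hensel.IsStrictHenselization O₀ R] :
    ∃ τ : ResidueField B →+* ResidueField R,
      ∀ o : O, τ (residue B (algebraMap O B o)) = residue R (algebraMap O₀ R (φ o)) := by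
  haveI := hR.isSepClosure.sep_closed
  haveI := hB.isSepClosure.separable
  letI : Algebra (ResidueField O) (ResidueField R) :=
    ((algebraMap (ResidueField O₀) (ResidueField R)).comp (ResidueField.map φ)).toAlgebra
  let τ : ResidueField B →ₐ[ResidueField O] ResidueField R := IsSepClosed.lift
  exact ⟨τ.toRingHom, fun o => (τ.commutes (residue O o)).trans rfl⟩

/-- Geometric points of strict henselizations map along morphisms. -/
theorem exists_geomPt_hom {X X₀ : Scheme.{u}} (i : X₀ ⟶ X) (x : X₀)
    (B : Type u) [CommRing B] [IsLocalRing B] [Algebra (X.presheaf.stalk (i x)) B]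
    [IsLocalHom (algebraMap (X.presheaf.stalk (i x)) B)] [Hensel.IsStrictHenselization (X.presheaf.stalk (i x)) B]
    (R : Type u) [CommRing R] [IsLocalRing R] [Algebra (X₀.presheaf.stalk x) R]
    [IsLocalHom (algebraMap (X₀.presheaf.stalk x) R)] [Hensel.IsStrictHenselization (X₀.presheaf.stalk x) R] :
    ∃ τ : ResidueField B →+* ResidueField R,
      Spec.map (CommRingCat.ofHom τ) ≫ Hens2.geomPt X (i x) B = Hens2.geomPt X₀ x R ≫ i := by
  haveI : IsLocalHom (i.stalkMap x).hom := inferInstance
  obtain ⟨τ, hτ⟩ := exists_residue_hom (i.stalkMap x).hom B R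
  refine ⟨τ, ?_⟩
  show Spec.map (CommRingCat.ofHom τ) ≫ Spec.map (CommRingCat.ofHom (residue B)) ≫
      Spec.map (CommRingCat.ofHom (algebraMap (X.presheaf.stalk (i x)) B)) ≫ X.fromSpecStalk (i x) =
    (Spec.map (CommRingCat.ofHom (residue R)) ≫
      Spec.map (CommRingCat.ofHom (algebraMap (X₀.presheaf.stalk x) R)) ≫ X₀.fromSpecStalk x) ≫ i
  rw [Category.assoc, Category.assoc, ← Scheme.SpecMap_stalkMap_fromSpecStalk i]
  simp only [← Category.assoc, ← Spec.map_comp]
  refine congrArg (· ≫ X.fromSpecStalk (i x)) (congrArg Spec.map (CommRingCat.hom_ext (RingHom.ext fun o => ?_)))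
  exact hτ o

variable {X' X X₀ X'₀ : Scheme.{u}} (p : X' ⟶ X) {i : X₀ ⟶ X} {i' : X'₀ ⟶ X'} {p₀ : X'₀ ⟶ X₀}

/-- Vanishing on a geometric fibre passes to a bigger separably closed field. -/
theorem subsingleton_fibre_ext [IsProper p] {k K : Type u} [Field k] [IsSepClosed k] [Field K] [IsSepClosed K]
    (φ : k →+* K) (s : Spec (CommRingCat.of k) ⟶ X) (G : EtCoh.Ab X') (hG : EtCoh.IsTorsion G) (q : ℕ)
    (h : Subsingleton (EtCoh.H (pullback p s) ((EtCoh.pull (pullback.fst p s)).obj G) q)) :
    Subsingleton (EtCoh.H (pullback p (Spec.map (CommRingCat.ofHom φ) ≫ s))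
      ((EtCoh.pull (pullback.fst p (Spec.map (CommRingCat.ofHom φ) ≫ s))).obj G) q) := by
  letI : Algebra k K := φ.toAlgebra
  let a := pullback.snd p s
  let g := Spec.map (CommRingCat.ofHom φ)
  haveI : IsProper a := MorphismProperty.pullback_snd (P := @IsProper) _ _ ‹IsProper p›
  let m := pullback.fst a g
  haveI := EtSite.preservesFiniteLimits_pull m
  let sq : IsPullback (m ≫ pullback.fst p s) (pullback.snd a g) p (g ≫ s) :=
    (IsPullback.of_hasPullback a g).paste_horiz (IsPullback.of_hasPullback p s)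
  have hb : Function.Bijective (EtCore.Hpull m ((EtCoh.pull (pullback.fst p s)).obj G) q) :=
    bijective_field (K := K) a q _ (L28.CurveCd.isTorsion_pull _ hG)
  have h1 := (subsingleton_of_bijective m (pullback.fst p s) rfl G q hb).1 h
  exact (subsingleton_of_schemeIso sq.isoPullback (pullback.fst p (g ≫ s)) sq.isoPullback_hom_fst G q).2 h1

/-- Higher direct images vanishing downstairs vanish after any base change. -/
theorem isZero_Rpush_baseChange [IsProper p] (sq : IsPullback i' p₀ p i)
    (G : EtCoh.Ab X') (hG : EtCoh.IsTorsion G) (q : ℕ) (hR : IsZero ((EtCoh.Rpush p q).obj G)) :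
    IsZero ((EtCoh.Rpush p₀ q).obj ((EtCoh.pull i').obj G)) := by
  haveI : IsProper p₀ := MorphismProperty.of_isPullback (P := @IsProper) sq ‹IsProper p›
  refine EtSite.isZero_of_stalks _ fun x => ?_
  obtain ⟨R, _, _, _, _, hR'⟩ := Groth.Agent.S0537.result (X₀.presheaf.stalk x)
  haveI := hR'.henselian
  haveI : IsSepClosed (IsLocalRing.ResidueField R) := hR'.isSepClosure.sep_closed
  obtain ⟨B, _, _, _, _, hB'⟩ := Groth.Agent.S0537.result (X.presheaf.stalk (i x))
  haveI := hB'.henselian
  haveI : IsSepClosed (IsLocalRing.ResidueField B) := hB'.isSepClosure.sep_closed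
  refine ⟨IsLocalRing.ResidueField R, inferInstance, inferInstance, Hens2.geomPt X₀ x R, geomPt_default X₀ x R, ?_⟩
  let jB := Hens2.specOf X (i x) B
  let jR := Hens2.specOf X₀ x R
  obtain ⟨nB⟩ := Groth.Agent.S6186.result p (i x) B q
  obtain ⟨nR⟩ := Groth.Agent.S6186.result p₀ x R q
  haveI h1 : Subsingleton ((EtCoh.HF (pullback p jB) q).obj ((EtCoh.pull (pullback.fst p jB)).obj G)) :=
    AddCommGrpCat.subsingleton_of_isZero
      (IsZero.of_iso ((EtCoh.stalk (Hens2.geomPt X (i x) B)).map_isZero hR) (nB.app G).symm)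
  have h2 := (subsingleton_iff_closedFibre p (univ p) G hG _ _ jB (IsPullback.of_hasPullback p jB) q).1 h1
  obtain ⟨τ, hτ⟩ := exists_geomPt_hom i x B R
  have h3' := subsingleton_fibre_ext p τ (clA B ≫ jB) G hG q h2
  have h3 : Subsingleton (EtCoh.H (pullback p (clA R ≫ jR ≫ i))
      ((EtCoh.pull (pullback.fst p (clA R ≫ jR ≫ i))).obj G) q) := by
    have e : Spec.map (CommRingCat.ofHom τ) ≫ clA B ≫ jB = clA R ≫ jR ≫ i := hτ.trans (Category.assoc _ _ _)
    rw [← e]
    exact h3'
  have sqR : IsPullback (pullback.fst p₀ jR ≫ i') (pullback.snd p₀ jR) p (jR ≫ i) :=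
    (IsPullback.of_hasPullback p₀ jR).paste_horiz sq
  have h5 := (subsingleton_iff_closedFibre p (univ p) G hG _ _ _ sqR q).2 h3
  haveI h6 : Subsingleton ((EtCoh.HF (pullback p₀ jR) q).obj
      ((EtCoh.pull (pullback.fst p₀ jR)).obj ((EtCoh.pull i').obj G))) :=
    (subsingleton_pull_comp (pullback.fst p₀ jR) i' rfl G q).2 h5
  exact IsZero.of_iso (AddCommGrpCat.isZero_of_subsingleton
    ((EtCoh.HF (pullback p₀ jR) q).obj ((EtCoh.pull (pullback.fst p₀ jR)).obj ((EtCoh.pull i').obj G))))
    (nR.app ((EtCoh.pull i').obj G))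

end Groth.L27.PBC
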