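import Groth.Agent.L27.PBC.TorQis
import Groth.Agent.L27.PBC.BaseChangeVanish
import Groth.Agent.L27.BigSets.ProperBC
import Groth.Agent.L27.AffineEfface.Effacement
import Groth.Agent.L27.Colim.RpushTorsion
import Groth.Agent.L10.EtLocalBC.DerEtale
import Groth.Agent.L17.AcyclicMap
import Mathlib.Algebra.Homology.Factorizations.CM5a

/-! # Derived proper base change -/

universe u

open CategoryTheory CategoryTheory.Limits AlgebraicGeometry

attribute [local instance] HasDerivedCategory.standard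

set_option autoImplicit false
set_option backward.isDefEq.respectTransparency false
set_option backward.isDefEq.respectTransparency.types false
set_option backward.defeqAttrib.useBackward true
set_option linter.style.haveILetI false
set_option linter.unusedSectionVars false
set_option synthInstance.maxHeartbeats 100000

noncomputable section

namespace Groth.L27.PBC

open Groth.L10.EtBCComp.DComp Groth.L10.EtLocalBC DerivedCategory

variable {X S X' S' : Scheme.{u}} (f : X ⟶ S) (g : S' ⟶ S) (f' : X' ⟶ S') (g' : X' ⟶ X)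

/-- Bounded below complexes of acyclic sheaves compute the derived direct image. -/
theorem isIso_unit_bddBelow [DCoh.HasRpushEt X f] (F : CochainComplex (EtCoh.Ab X) ℤ) (a : ℤ) [F.IsStrictlyGE a]
    (hac : ∀ n, Groth.L17.GrothSS.RAcyclic (EtCoh.push f) (F.X n)) :
    IsIso ((U f).app ((HomotopyCategory.quotient (EtCoh.Ab X) (ComplexShape.up ℤ)).obj F)) := by
  haveI : (EtCoh.push f).IsRightAdjoint := (EtCoh.pullPushAdj f).isRightAdjoint
  haveI : PreservesFiniteLimits (EtCoh.push f) := inferInstance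
  let η := U f
  obtain ⟨I, i, hi, hI, hge⟩ := CochainComplex.Plus.modelCategoryQuillen.exists_quasiIso_injective F a
  have : ∀ m, Injective (I.X m) := hI
  haveI := CochainComplex.isKInjective_of_injective I a
  haveI := L10.KInjDerived.isIso_app_quotient (RF := DCoh.RpushEt X f) η I
  haveI : QuasiIso (((EtCoh.push f).mapHomologicalComplex (ComplexShape.up ℤ)).map i) :=
    Groth.L17.GrothSS.quasiIso_map (EtCoh.push f) i a a hac fun n q hq => by
      obtain ⟨k, rfl⟩ : ∃ k, q = k + 1 := ⟨q - 1, by omega⟩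
      exact (EtCoh.push f).isZero_rightDerived_obj_injective_succ k _
  let w := (HomotopyCategory.quotient (EtCoh.Ab X) (ComplexShape.up ℤ)).map i
  haveI : IsIso ((DCoh.pushEtKh X f).map w) := by
    change IsIso (DerivedCategory.Qh.map ((HomotopyCategory.quotient (EtCoh.Ab S) (ComplexShape.up ℤ)).map
      (((EtCoh.push f).mapHomologicalComplex (ComplexShape.up ℤ)).map i)))
    exact Localization.inverts DerivedCategory.Qh (HomotopyCategory.quasiIso _ (ComplexShape.up ℤ)) _
      ((HomotopyCategory.quotient_map_mem_quasiIso_iff _).2 ((HomologicalComplex.mem_quasiIso_iff _).2 inferInstance))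
  haveI : IsIso ((DerivedCategory.Qh ⋙ DCoh.RpushEt X f).map w) :=
    haveI := Localization.inverts DerivedCategory.Qh (HomotopyCategory.quasiIso _ (ComplexShape.up ℤ)) w
      ((HomotopyCategory.quotient_map_mem_quasiIso_iff _).2 ((HomologicalComplex.mem_quasiIso_iff _).2 inferInstance))
    inferInstanceAs (IsIso ((DCoh.RpushEt X f).map (DerivedCategory.Qh.map w)))
  haveI : IsIso (η.app _ ≫ (DerivedCategory.Qh ⋙ DCoh.RpushEt X f).map w) := by
    rw [← η.naturality w]; exact IsIso.comp_isIso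
  exact IsIso.of_isIso_comp_right (η.app _) ((DerivedCategory.Qh ⋙ DCoh.RpushEt X f).map w)

theorem isIso_bcC' (w : g' ≫ f = f' ≫ g) (C : CochainComplex (EtCoh.Ab X) ℤ)
    (hbc : ∀ n, IsIso (EtCoh.baseChange0 f g f' g' w (C.X n))) : IsIso (bcC f g f' g' w C) := by
  haveI : ∀ n, IsIso ((bcC f g f' g' w C).f n) := fun n => by
    have e : (bcC f g f' g' w C).f n = EtCoh.baseChange0 f g f' g' w (C.X n) := by
      simp only [bcC, EtBC.pushToPushPull, EtCoh.baseChange0]
      congr 1
    rw [e]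
    exact hbc n
  exact HomologicalComplex.Hom.isIso_of_components _

variable [DCoh.HasRpushEt X f] [DCoh.HasRpushEt X' f'] [DCoh.HasRpushEt S' g]
  [PreservesFiniteLimits (EtCoh.pull g)] [PreservesFiniteLimits (EtCoh.pull g')]

/-- Base change maps of bounded below complexes of acyclic sheaves. -/
theorem isIso_bcMap_of_acyclic (h : IsPullback g' f' f g) (adj : EtBC.pullD g ⊣ DCoh.RpushEt S' g)
    (C : CochainComplex (EtCoh.Ab X) ℤ) (a : ℤ) [C.IsStrictlyGE a]
    (hac : ∀ n, Groth.L17.GrothSS.RAcyclic (EtCoh.push f) (C.X n))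
    (hac' : ∀ n, Groth.L17.GrothSS.RAcyclic (EtCoh.push f') ((EtCoh.pull g').obj (C.X n)))
    (hbc : ∀ n, IsIso (EtCoh.baseChange0 f g f' g' h.w (C.X n))) :
    IsIso (EtBC.bcMap f g f' g' h.w adj (Qh.obj ((HomotopyCategory.quotient _ _).obj C))) := by
  let A : HomotopyCategory (EtCoh.Ab X) (ComplexShape.up ℤ) := (HomotopyCategory.quotient _ _).obj C
  haveI hUf : IsIso ((U f).app A) := isIso_unit_bddBelow f C a hac
  haveI : CochainComplex.IsStrictlyGE (((EtCoh.pull g').mapHomologicalComplex _).obj C) a :=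
    (CochainComplex.isStrictlyGE_iff _ _).2 fun i hi =>
      (EtCoh.pull g').map_isZero (CochainComplex.isZero_of_isStrictlyGE C a i hi)
  haveI hUf' : IsIso ((U f').app ((P g').obj A)) :=
    isIso_unit_bddBelow f' (((EtCoh.pull g').mapHomologicalComplex _).obj C) a hac'
  let e : Qh.obj ((H f').obj ((P g').obj A)) ⟶ (DCoh.RpushEt X' f').obj ((EtBC.pullD g').obj (Qh.obj A)) :=
    (U f').app ((P g').obj A) ≫ (DCoh.RpushEt X' f').map ((EtCoh.pull g').mapDerivedCategoryFactorsh.inv.app A)
  haveI : IsIso e := by infer_instance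
  rw [isIso_iff_coyoneda_map_bijective]
  intro M
  obtain ⟨D, hD, ⟨eM⟩⟩ : ∃ D : CochainComplex (EtCoh.Ab S') ℤ, D.IsKInjective ∧
      Nonempty (Qh.obj ((HomotopyCategory.quotient _ _).obj D) ≅ M) :=
    ⟨_, (((L10.KInjDerived.kInj (EtCoh.Ab S')).ι ⋙ Qh).objPreimage M).property,
      ⟨((L10.KInjDerived.kInj (EtCoh.Ab S')).ι ⋙ Qh).objObjPreimageIso M⟩⟩
  let B : HomotopyCategory (EtCoh.Ab S') (ComplexShape.up ℤ) := (HomotopyCategory.quotient _ _).obj D
  haveI hUg := L10.KInjDerived.isIso_app_of_isKInjective (U g) B hD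
  haveI : CochainComplex.IsKInjective (((EtCoh.push g).mapHomologicalComplex _).obj D) :=
    L10.KInjTransfer.isKInjective_map (EtCoh.pullPushAdj g) D
  let Γ : ((H f').obj ((P g').obj A) ⟶ B) → ((H f).obj A ⟶ (H g).obj B) := fun ψ =>
    (EtBC.pushToPushPullH f g f' g' h.w).app A ≫ (H g).map ψ
  have hΓ : Function.Bijective Γ := by
    haveI := isIso_bcC' f g f' g' h.w C hbc
    have hc : unitC (EtCoh.pullPushAdj g) (((EtCoh.push f).mapHomologicalComplex _).obj C) ≫
        ((EtCoh.push g).mapHomologicalComplex _).map (bcC f g f' g' h.w C) =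
        (NatTrans.mapHomologicalComplex (EtBC.pushToPushPull f g f' g' h.w) _).app C :=
      HomologicalComplex.hom_ext _ _ fun n => ((EtCoh.pullPushAdj g).homEquiv_unit _ _ _).symm.trans
        (Equiv.apply_symm_apply _ _)
    have e' : Γ = (fun x => (HomotopyCategory.quotient _ _).map
          (unitC (EtCoh.pullPushAdj g) (((EtCoh.push f).mapHomologicalComplex _).obj C)) ≫ (H g).map x) ∘
        (fun ψ => (HomotopyCategory.quotient _ _).map (bcC f g f' g' h.w C) ≫ ψ) := by
      funext ψ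
      refine (congrArg (· ≫ (H g).map ψ) ((pushToPushPullH_app f g f' g' h.w C).trans ?_)).trans
        ((Category.assoc _ _ _).trans (congrArg (_ ≫ ·) ((H g).map_comp _ _).symm))
      exact (congrArg _ hc.symm).trans ((HomotopyCategory.quotient _ _).map_comp _ _)
    rw [e']
    exact (bijective_homotopy_transpose _ _ _).comp
      (Iso.homFromEquiv (asIso ((HomotopyCategory.quotient _ _).map (bcC f g f' g' h.w C))).symm).bijective
  have hQ : Function.Bijective (fun ψ : (H f').obj ((P g').obj A) ⟶ B => inv e ≫ Qh.map ψ ≫ eM.hom) :=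
    (Iso.homFromEquiv (asIso e)).bijective.comp
      ((Iso.homToEquiv eM).bijective.comp (L10.KInjDerived.qh_bijective _ ⟨B, hD⟩))
  let Rg := DCoh.RpushEt S' g
  let Φ : ((H f).obj A ⟶ (H g).obj B) → ((DCoh.RpushEt X f).obj (Qh.obj A) ⟶ Rg.obj M) := fun m =>
    inv ((U f).app A) ≫ Qh.map m ≫ (U g).app B ≫ Rg.map eM.hom
  have hΦ : Function.Bijective Φ :=
    (Iso.homFromEquiv (asIso ((U f).app A))).bijective.comp ((Iso.homToEquiv (asIso ((U g).app B ≫ Rg.map eM.hom))).bijective.comp
      (L10.KInjDerived.qh_bijective _ ⟨(H g).obj B, ‹_›⟩))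
  have key : ∀ ψ, (EtBC.bcAdj f g f' g' h.w).app (Qh.obj A) ≫ Rg.map (inv e ≫ Qh.map ψ ≫ eM.hom) = Φ (Γ ψ) := by
    intro ψ
    rw [← cancel_epi ((U f).app A)]
    simp only [Φ, IsIso.hom_inv_id_assoc]
    rw [reassoc_of% (U_fac f g f' g' h.w A), bcUnit_app]
    simp only [Category.assoc, ← Functor.map_comp]
    erw [← Functor.map_comp (DCoh.RpushEt S' g) e, IsIso.hom_inv_id_assoc]
    simp only [Functor.map_comp]
    simp only [Γ, Functor.map_comp, Category.assoc]
    refine congrArg (Qh.map _ ≫ ·) ?_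
    exact ((U g).naturality_assoc ψ (Rg.map eM.hom)).symm
  have hb : Function.Bijective (fun φ : (DCoh.RpushEt X' f').obj ((EtBC.pullD g').obj (Qh.obj A)) ⟶ M =>
      (EtBC.bcAdj f g f' g' h.w).app (Qh.obj A) ≫ Rg.map φ) := by
    refine (Function.Bijective.of_comp_iff _ hQ).1 ?_
    rw [show (fun φ : (DCoh.RpushEt X' f').obj ((EtBC.pullD g').obj (Qh.obj A)) ⟶ M => (EtBC.bcAdj f g f' g' h.w).app (Qh.obj A) ≫ Rg.map φ) ∘
        (fun ψ : (H f').obj ((P g').obj A) ⟶ B => inv e ≫ Qh.map ψ ≫ eM.hom) = Φ ∘ Γ from funext key]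
    exact hΦ.comp hΓ
  have heq : (fun φ => EtBC.bcMap f g f' g' h.w adj (Qh.obj A) ≫ φ) = (adj.homEquiv _ M).symm ∘
      (fun φ => (EtBC.bcAdj f g f' g' h.w).app (Qh.obj A) ≫ Rg.map φ) :=
    funext fun φ => (adj.homEquiv_naturality_right_symm _ φ).symm
  show Function.Bijective (fun φ => EtBC.bcMap f g f' g' h.w adj (Qh.obj A) ≫ φ)
  rw [heq]
  exact (Equiv.bijective _).comp hb

/-- Derived proper base change for bounded below complexes with torsion cohomology. -/
theorem isIso_bcMap [IsProper f] (h : IsPullback g' f' f g) (adj : EtBC.pullD g ⊣ DCoh.RpushEt S' g)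
    (E : DCoh.DEt X) (n : ℤ) [E.IsGE n] (hE : ∀ i : ℤ, EtCoh.IsTorsion (DCoh.HDEt E i)) :
    IsIso (EtBC.bcMap f g f' g' h.w adj E) := by
  haveI : IsProper f' := MorphismProperty.of_isPullback (P := @IsProper) h ‹IsProper f›
  obtain ⟨L, hL, ⟨e⟩⟩ := DerivedCategory.exists_iso_Q_obj_of_isGE E n
  obtain ⟨I, i, hi, hI, hge⟩ := CochainComplex.Plus.modelCategoryQuillen.exists_quasiIso_injective L n
  haveI : ∀ m, Injective (I.X m) := hI
  let eI : DerivedCategory.Q.obj I ≅ E := (asIso (DerivedCategory.Q.map i)).symm ≪≫ e.symm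
  have hH : ∀ m, EtAcyc.IsLTorsion Set.univ (I.homology m) := fun m =>
    AffineEfface.isLTorsion_univ
      (Colim.isTorsion_of_iso ((homologyFunctor _ m).mapIso eI.symm ≪≫ (homologyFunctorFactors _ m).app I) (hE m))
  haveI := quasiIso_torCι I hH
  haveI : (torC I).IsStrictlyGE n := (CochainComplex.isStrictlyGE_iff _ _).2 fun m hm =>
    (torFun X).map_isZero (CochainComplex.isZero_of_isStrictlyGE I n m hm)
  let eT : Qh.obj ((HomotopyCategory.quotient _ _).obj (torC I)) ≅ E :=
    (quotientCompQhIso (EtCoh.Ab X)).app (torC I) ≪≫ asIso (DerivedCategory.Q.map (torCι I)) ≪≫ eI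
  rw [← isIso_bcMap_iff f g f' g' h.w adj eT]
  have hac : ∀ m, Groth.L17.GrothSS.RAcyclic (EtCoh.push f) ((torC I).X m) := fun m q hq =>
    CompTransfer.isZero_Rpush_of_acyc f _ (CompTransfer.acyc_tor Set.univ (I.X m)) q hq
  exact isIso_bcMap_of_acyclic f g f' g' h adj (torC I) n hac
    (fun m q hq => isZero_Rpush_baseChange f h _ (AffineEfface.isTorsion_of_isLTorsion (CompTransfer.isLTorsion_tor Set.univ (I.X m))) q (hac m q hq))
    (fun m => BigSets.isIso_baseChange0 h _)

end Groth.L27.PBC
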