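import Groth.Agent.L17.AcyclicMap
import Mathlib.Algebra.Homology.Factorizations.CM5a
import Mathlib.Algebra.Homology.DerivedCategory.KInjective

/-! # Quasi-isomorphisms to acyclic complexes preserved by a left exact functor -/

set_option autoImplicit false
set_option linter.style.haveILetI false
set_option linter.unusedSectionVars false
set_option backward.isDefEq.respectTransparency false

universe w v u v' u'

open CategoryTheory CategoryTheory.Limits

attribute [local instance] HasDerivedCategory.standard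

namespace Groth.L27.PBC

variable {C : Type u} [Category.{v} C] [Abelian C] {D : Type u'} [Category.{v'} D] [Abelian D]
  [EnoughInjectives C] (F : C ⥤ D) [F.Additive] [PreservesFiniteLimits F]

theorem quasiIso_of_quotient_map_eq {E : Type*} [Category E] [Abelian E] {K L : CochainComplex E ℤ} {f g : K ⟶ L}
    (h : (HomotopyCategory.quotient E (ComplexShape.up ℤ)).map f = (HomotopyCategory.quotient E _).map g)
    [QuasiIso f] : QuasiIso g :=
  (HomotopyCategory.quotient_map_mem_quasiIso_iff g).1
    (h ▸ (HomotopyCategory.quotient_map_mem_quasiIso_iff f).2 (inferInstanceAs (QuasiIso f)))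

/-- If `K` is connected to an acyclic complex by quasi-isomorphisms preserved by `F`, then so is
any quasi-isomorphism from `K` to an acyclic complex. -/
theorem quasiIso_map_of_chain {K J T M : CochainComplex C ℤ} (m : ℤ) [J.IsStrictlyGE m] [T.IsStrictlyGE m] [M.IsStrictlyGE m]
    (i : K ⟶ J) [QuasiIso i] (a : K ⟶ M) [QuasiIso a] (b : T ⟶ M) [QuasiIso b]
    (hJ : ∀ n, Groth.L17.GrothSS.RAcyclic F (J.X n)) (hT : ∀ n, Groth.L17.GrothSS.RAcyclic F (T.X n))
    (ha : QuasiIso ((F.mapHomologicalComplex (ComplexShape.up ℤ)).map a))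
    (hb : QuasiIso ((F.mapHomologicalComplex (ComplexShape.up ℤ)).map b)) :
    QuasiIso ((F.mapHomologicalComplex (ComplexShape.up ℤ)).map i) := by
  obtain ⟨L, c, hc, hL, hge⟩ := CochainComplex.Plus.modelCategoryQuillen.exists_quasiIso_injective M m
  haveI : ∀ n, Injective (L.X n) := hL
  haveI := CochainComplex.isKInjective_of_injective L m
  have hLa : ∀ n, Groth.L17.GrothSS.RAcyclic F (L.X n) := fun n q hq => by
    obtain ⟨k, rfl⟩ : ∃ k, q = k + 1 := ⟨q - 1, by omega⟩
    exact F.isZero_rightDerived_obj_injective_succ k _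
  let F' := F.mapHomologicalComplex (ComplexShape.up ℤ)
  haveI : QuasiIso (F'.map b) := hb
  haveI : QuasiIso (F'.map a) := ha
  haveI : QuasiIso (F'.map b ≫ F'.map c) := by
    rw [← F'.map_comp]; exact Groth.L17.GrothSS.quasiIso_map F (b ≫ c) m m hT hLa
  haveI : QuasiIso (F'.map c) := quasiIso_of_comp_left (F'.map b) (F'.map c)
  haveI : QuasiIso (F'.map (a ≫ c)) := by rw [F'.map_comp]; infer_instance
  let Q := HomotopyCategory.quotient C (ComplexShape.up ℤ)
  have hi : IsIso (DerivedCategory.Qh.map (Q.map i)) :=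
    Localization.inverts DerivedCategory.Qh (HomotopyCategory.quasiIso _ (ComplexShape.up ℤ)) _
      ((HomotopyCategory.quotient_map_mem_quasiIso_iff _).2 (inferInstanceAs (QuasiIso i)))
  obtain ⟨k, hk⟩ := (CochainComplex.IsKInjective.Qh_map_bijective (Q.obj J) L).2
    (inv (DerivedCategory.Qh.map (Q.map i)) ≫ DerivedCategory.Qh.map (Q.map (a ≫ c)))
  obtain ⟨k₀, rfl⟩ := Q.map_surjective k
  have e : Q.map (a ≫ c) = Q.map (i ≫ k₀) := by
    apply (CochainComplex.IsKInjective.Qh_map_bijective (Q.obj K) L).1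
    refine Eq.trans ?_ ((congrArg DerivedCategory.Qh.map (Q.map_comp i k₀)).trans
      (DerivedCategory.Qh.map_comp _ _)).symm
    erw [hk]
    exact (IsIso.hom_inv_id_assoc _ _).symm
  haveI : QuasiIso (i ≫ k₀) := quasiIso_of_quotient_map_eq e
  haveI : QuasiIso k₀ := quasiIso_of_comp_left i k₀
  haveI : QuasiIso (F'.map k₀) := Groth.L17.GrothSS.quasiIso_map F k₀ m m hJ hLa
  haveI : QuasiIso (F'.map i ≫ F'.map k₀) := by
    rw [← F'.map_comp]
    exact quasiIso_of_quotient_map_eq (f := F'.map (a ≫ c))
      (congrArg (F.mapHomotopyCategory (ComplexShape.up ℤ)).map e)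
  exact quasiIso_of_comp_right (F'.map i) (F'.map k₀)

end Groth.L27.PBC
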