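import Groth.Agent.L27.PBC.ModPull
import Groth.Agent.L27.PBC.QisChain
import Groth.Agent.L27.PBC.BcMap
import Groth.Agent.L00.RPlusUnit
import Groth.Agent.L10.DerivedAdjPlus
import Groth.Agent.L10.ModCmp.Compare
import Groth.Agent.L28.Strata.EtMod

/-! # Derived proper base change for sheaves of modules -/

universe u

open CategoryTheory CategoryTheory.Limits AlgebraicGeometry Opposite

attribute [local instance] HasDerivedCategory.standard

set_option autoImplicit false
set_option backward.isDefEq.respectTransparency false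
set_option backward.isDefEq.respectTransparency.types false
set_option backward.defeqAttrib.useBackward true
set_option linter.style.haveILetI false
set_option linter.unusedSectionVars false
set_option synthInstance.maxHeartbeats 100000

noncomputable section

namespace Groth.L27.PBC.ModBc

open Groth.L10.EtLocalBC

variable {Λ : Type (u + 1)} [CommRing Λ]

instance preservesFiniteLimits_forget (X : Scheme.{u}) : PreservesFiniteLimits (EtModD.forgetToAb Λ X) :=
  ⟨fun J _ _ => by
    haveI : PreservesLimitsOfShape J (EtModD.forgetToAb Λ X ⋙ sheafToPresheaf _ _) :=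
      inferInstanceAs (PreservesLimitsOfShape J (sheafToPresheaf X.smallEtaleTopology (ModuleCat.{u + 1} Λ) ⋙
        (Functor.whiskeringRight _ _ _).obj (forget₂ (ModuleCat.{u + 1} Λ) AddCommGrpCat.{u + 1})))
    exact preservesLimitsOfShape_of_reflects_of_preserves (EtModD.forgetToAb Λ X) (sheafToPresheaf _ _)⟩

instance preservesFiniteColimits_forget (X : Scheme.{u}) : PreservesFiniteColimits (EtModD.forgetToAb Λ X) :=
  haveI := (ModPull.forgetAdj Λ X).leftAdjoint_preservesColimits
  inferInstance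

instance additive_forget (X : Scheme.{u}) : (EtModD.forgetToAb Λ X).Additive where
  map_add := Sheaf.hom_ext (NatTrans.ext (funext fun _ => (forget₂ (ModuleCat.{u + 1} Λ) AddCommGrpCat.{u + 1}).map_add))

variable {X S X' S' : Scheme.{u}} (f : X ⟶ S) (g : S' ⟶ S) (f' : X' ⟶ S') (g' : X' ⟶ X)

/-- The degree zero base change as a natural transformation. -/
def bc0Nat (w : g' ≫ f = f' ≫ g) : EtCoh.push f ⋙ EtCoh.pull g ⟶ EtCoh.pull g' ⋙ EtCoh.push f' where
  app F := EtCoh.baseChange0 f g f' g' w F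
  naturality F G φ := by
    have h : ∀ F, EtCoh.baseChange0 f g f' g' w F =
        ((EtCoh.pullPushAdj g).homEquiv _ _).symm ((EtBC.pushToPushPull f g f' g' w).app F) := fun F => by
      simp only [EtCoh.baseChange0, EtBC.pushToPushPull]
      congr 1
    rw [h, h]
    exact ((EtCoh.pullPushAdj g).homEquiv_naturality_left_symm _ _).symm.trans
      ((congrArg ((EtCoh.pullPushAdj g).homEquiv _ _).symm ((EtBC.pushToPushPull f g f' g' w).naturality φ)).trans
        ((EtCoh.pullPushAdj g).homEquiv_naturality_right_symm ((EtBC.pushToPushPull f g f' g' w).app F)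
          ((EtCoh.pull g' ⋙ EtCoh.push f').map φ)))

variable {f g f' g'}

/-- Direct images of pulled back injective resolutions compute derived direct images. -/
theorem quasiIso_push_resolution [IsProper f] (h : IsPullback g' f' f g) (I : CochainComplex (EtModW.Mod Λ X) ℤ)
    (m : ℤ) [I.IsStrictlyGE m] [∀ n, Injective (I.X n)]
    (hI : ∀ n, EtCoh.IsTorsion ((EtModD.forgetToAb Λ X).obj (I.homology n)))
    (J : CochainComplex (EtModW.Mod Λ X') ℤ) [J.IsStrictlyGE m] [∀ n, Injective (J.X n)]
    (i : ((EtModW.pull Λ g').mapHomologicalComplex _).obj I ⟶ J) [QuasiIso i] :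
    QuasiIso (((EtModW.push Λ f').mapHomologicalComplex (ComplexShape.up ℤ)).map i) := by
  haveI : IsProper f' := MorphismProperty.of_isPullback (P := @IsProper) h ‹IsProper f›
  haveI := EtSite.preservesFiniteLimits_pull g'
  haveI := EtSite.preservesFiniteLimits_pull g
  haveI : PreservesFiniteColimits (EtCoh.pull g') :=
    haveI := (EtCoh.pullPushAdj g').leftAdjoint_preservesColimits
    inferInstance
  haveI : PreservesFiniteColimits (EtCoh.pull g) :=
    haveI := (EtCoh.pullPushAdj g).leftAdjoint_preservesColimits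
    inferInstance
  haveI : PreservesFiniteLimits (EtCoh.push f') :=
    haveI := (EtCoh.pullPushAdj f').rightAdjoint_preservesLimits
    inferInstance
  haveI : PreservesFiniteLimits (EtCoh.push f) :=
    haveI := (EtCoh.pullPushAdj f).rightAdjoint_preservesLimits
    inferInstance
  let A := ((EtModD.forgetToAb Λ X).mapHomologicalComplex (ComplexShape.up ℤ)).obj I
  haveI : CochainComplex.IsStrictlyGE A m := (CochainComplex.isStrictlyGE_iff _ _).2 fun n hn =>
    (EtModD.forgetToAb Λ X).map_isZero (CochainComplex.isZero_of_isStrictlyGE I m n hn)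
  obtain ⟨I', j, hj, hI', hge⟩ := CochainComplex.Plus.modelCategoryQuillen.exists_quasiIso_injective A m
  haveI : ∀ n, Injective (I'.X n) := hI'
  have hH : ∀ n, EtAcyc.IsLTorsion Set.univ (I'.homology n) := fun n =>
    AffineEfface.isLTorsion_univ (Colim.isTorsion_of_iso
      (((I.sc n).mapHomologyIso (EtModD.forgetToAb Λ X)).symm ≪≫
        @asIso _ _ _ _ (HomologicalComplex.homologyMap j n) ((quasiIsoAt_iff_isIso_homologyMap j n).1 (hj.quasiIsoAt n))) (hI n))
  haveI := quasiIso_torCι I' hH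
  haveI : (torC I').IsStrictlyGE m := (CochainComplex.isStrictlyGE_iff _ _).2 fun n hn =>
    (torFun X).map_isZero (CochainComplex.isZero_of_isStrictlyGE I' m n hn)
  have hA : ∀ n, Groth.L17.GrothSS.RAcyclic (EtCoh.push f) (A.X n) := fun n q hq =>
    CompTransfer.isZero_Rpush_of_acyc f _ (fun K L p _ _ hp => L10.ModCmp.acycA_forget (I.X n) K L p trivial trivial hp) q hq
  have hT : ∀ n, Groth.L17.GrothSS.RAcyclic (EtCoh.push f) ((torC I').X n) := fun n q hq =>
    CompTransfer.isZero_Rpush_of_acyc f _ (CompTransfer.acyc_tor Set.univ (I'.X n)) q hq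
  have hIi : ∀ n, Groth.L17.GrothSS.RAcyclic (EtCoh.push f) (I'.X n) := fun n q hq => by
    obtain ⟨k, rfl⟩ : ∃ k, q = k + 1 := ⟨q - 1, by omega⟩
    exact (EtCoh.push f).isZero_rightDerived_obj_injective_succ k _
  let P := (EtCoh.pull g').mapHomologicalComplex (ComplexShape.up ℤ)
  let F' := (EtCoh.push f').mapHomologicalComplex (ComplexShape.up ℤ)
  haveI : IsIso (bc0Nat f g f' g' h.w) :=
    haveI : ∀ F, IsIso ((bc0Nat f g f' g' h.w).app F) := fun F => BigSets.isIso_baseChange0 h F
    NatIso.isIso_of_isIso_app _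
  have hq : ∀ {K L : CochainComplex (EtCoh.Ab X) ℤ} (k : K ⟶ L),
      QuasiIso (((EtCoh.push f).mapHomologicalComplex (ComplexShape.up ℤ)).map k) → QuasiIso (F'.map (P.map k)) :=
    fun {K L} k hk => by
      let ε := NatIso.mapHomologicalComplex (asIso (bc0Nat f g f' g' h.w)) (ComplexShape.up ℤ)
      haveI : QuasiIso (((EtCoh.pull g).mapHomologicalComplex (ComplexShape.up ℤ)).map
          (((EtCoh.push f).mapHomologicalComplex (ComplexShape.up ℤ)).map k)) := inferInstance
      haveI : QuasiIso (((EtCoh.push f ⋙ EtCoh.pull g).mapHomologicalComplex (ComplexShape.up ℤ)).map k) := this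
      exact ((HomologicalComplex.quasiIso (EtCoh.Ab S') (ComplexShape.up ℤ)).arrow_mk_iso_iff
        (((Functor.mapArrowFunctor _ _).mapIso ε).app (Arrow.mk k))).1
        ((HomologicalComplex.mem_quasiIso_iff _).2 this)
  have hj' : QuasiIso (F'.map (P.map j)) := hq j (Groth.L17.GrothSS.quasiIso_map (EtCoh.push f) j m m hA hIi)
  have hb' : QuasiIso (F'.map (P.map (torCι I'))) :=
    hq _ (Groth.L17.GrothSS.quasiIso_map (EtCoh.push f) (torCι I') m m hT hIi)
  let ψ : P.obj A ≅ ((EtModD.forgetToAb Λ X').mapHomologicalComplex _).obj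
      (((EtModW.pull Λ g').mapHomologicalComplex _).obj I) :=
    (NatIso.mapHomologicalComplex (ModPull.pullIso Λ g') (ComplexShape.up ℤ)).app I
  let J' := ((EtModD.forgetToAb Λ X').mapHomologicalComplex (ComplexShape.up ℤ)).obj J
  haveI : CochainComplex.IsStrictlyGE J' m := (CochainComplex.isStrictlyGE_iff _ _).2 fun n hn =>
    (EtModD.forgetToAb Λ X').map_isZero (CochainComplex.isZero_of_isStrictlyGE J m n hn)
  haveI : CochainComplex.IsStrictlyGE (P.obj I') m := (CochainComplex.isStrictlyGE_iff _ _).2 fun n hn =>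
    (EtCoh.pull g').map_isZero (CochainComplex.isZero_of_isStrictlyGE I' m n hn)
  haveI : CochainComplex.IsStrictlyGE (P.obj (torC I')) m := (CochainComplex.isStrictlyGE_iff _ _).2 fun n hn =>
    (EtCoh.pull g').map_isZero (CochainComplex.isZero_of_isStrictlyGE (torC I') m n hn)
  have key := quasiIso_map_of_chain (EtCoh.push f') m (J := J') (T := P.obj (torC I')) (M := P.obj I')
    (((EtModD.forgetToAb Λ X').mapHomologicalComplex _).map i) (ψ.inv ≫ P.map j) (P.map (torCι I'))
    (fun n q hq => CompTransfer.isZero_Rpush_of_acyc f' _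
      (fun K L p _ _ hp => L10.ModCmp.acycA_forget (J.X n) K L p trivial trivial hp) q hq)
    (fun n q hq => isZero_Rpush_baseChange f h _
      (AffineEfface.isTorsion_of_isLTorsion (CompTransfer.isLTorsion_tor Set.univ (I'.X n))) q (hT n q hq))
    (by rw [Functor.map_comp]; haveI := hj'; infer_instance) hb'
  have key' : QuasiIso (((EtModD.forgetToAb Λ S').mapHomologicalComplex _).map
      (((EtModW.push Λ f').mapHomologicalComplex (ComplexShape.up ℤ)).map i)) := key
  exact (HomologicalComplex.quasiIso_map_iff_of_preservesHomology _ _).1 key'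

section Main

variable (f g f' g')

/-- The termwise base change maps for modules. -/
def bcC (w : g' ≫ f = f' ≫ g) (C : CochainComplex (EtModW.Mod Λ X) ℤ) :
    ((EtModW.pull Λ g).mapHomologicalComplex _).obj (((EtModW.push Λ f).mapHomologicalComplex _).obj C) ⟶
      ((EtModW.push Λ f').mapHomologicalComplex _).obj (((EtModW.pull Λ g').mapHomologicalComplex _).obj C) where
  f n := EtSix.baseChange0Mod Λ f g f' g' w (C.X n)
  comm' i j _ := (Adjunction.homEquiv_naturality_right_symm _ _ _).symm.trans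
    ((congrArg _ ((EtSix.pushToPushPullMod Λ f g f' g' w).naturality (C.d i j)).symm).trans
      (Adjunction.homEquiv_naturality_left_symm _ _ _))

theorem unitC_comp_bcC (w : g' ≫ f = f' ≫ g) (C : CochainComplex (EtModW.Mod Λ X) ℤ) :
    unitC (EtSix.pullPushModAdj Λ g) (((EtModW.push Λ f).mapHomologicalComplex _).obj C) ≫
      ((EtModW.push Λ g).mapHomologicalComplex _).map (bcC f g f' g' w C) =
      (NatTrans.mapHomologicalComplex (EtSix.pushToPushPullMod Λ f g f' g' w) _).app C :=
  HomologicalComplex.hom_ext _ _ fun _ => ((EtSix.pullPushModAdj Λ g).homEquiv_unit _ _ _).symm.trans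
    (Equiv.apply_symm_apply _ _)

/-- Derived proper base change for sheaves of modules. -/
theorem isIso_bcMapMod [IsProper f] (h : IsPullback g' f' f g)
    (adj : (EtModW.pull Λ g).rightDerivedFunctorPlus ⊣ (EtModW.push Λ g).rightDerivedFunctorPlus)
    (K : DerivedCategory.Plus (EtModW.Mod Λ X))
    (hK : ∀ i : ℤ, EtCoh.IsTorsion ((EtModD.forgetToAb Λ X).obj
      ((DerivedCategory.Plus.homologyFunctor (EtModW.Mod Λ X) i).obj K))) :
    IsIso (EtSix.bcMapMod Λ f g f' g' h.w adj K) := by
  haveI := L28.Strata.preservesFiniteLimits_pullMod (Λ := Λ) g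
  haveI := L28.Strata.preservesFiniteLimits_pullMod (Λ := Λ) g'
  let T : (EtModW.push Λ f).rightDerivedFunctorPlus ⋙ (EtModW.pull Λ g).rightDerivedFunctorPlus ⟶
      (EtModW.pull Λ g').rightDerivedFunctorPlus ⋙ (EtModW.push Λ f').rightDerivedFunctorPlus :=
    Functor.whiskerRight (EtSix.bcAdjMod Λ f g f' g' h.w) _ ≫ (Functor.associator _ _ _).hom ≫
      Functor.whiskerLeft _ ((Functor.associator _ _ _).hom ≫ Functor.whiskerLeft _ adj.counit ≫
        (Functor.rightUnitor _).hom)
  have hT : ∀ M, EtSix.bcMapMod Λ f g f' g' h.w adj M = T.app M := fun M => by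
    simp [T, EtSix.bcMapMod, Adjunction.homEquiv_counit]
  obtain ⟨L₀, ⟨e₀⟩⟩ : ∃ L : CochainComplex.Plus (EtModW.Mod Λ X),
      Nonempty (DerivedCategory.Plus.Qh.obj ((HomotopyCategory.Plus.quotient _).obj L) ≅ K) := by
    obtain ⟨L, hL⟩ := HomotopyCategory.Plus.quotient_obj_surjective (DerivedCategory.Plus.Qh.objPreimage K)
    exact ⟨L, ⟨eqToIso (by rw [hL]) ≪≫ DerivedCategory.Plus.Qh.objObjPreimageIso K⟩⟩
  obtain ⟨L₀', m, hm⟩ := L₀
  obtain ⟨I, j, hj, hI, hge⟩ := CochainComplex.Plus.modelCategoryQuillen.exists_quasiIso_injective L₀' m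
  haveI : ∀ n, Injective (I.X n) := hI
  let L : CochainComplex.Plus (EtModW.Mod Λ X) := ⟨I, m, inferInstance⟩
  let A := (HomotopyCategory.Plus.quotient _).obj L
  haveI : IsIso (DerivedCategory.Plus.Q.map (ObjectProperty.homMk j :
      (⟨L₀', m, hm⟩ : CochainComplex.Plus (EtModW.Mod Λ X)) ⟶ L)) :=
    (L00.RPlusUnit.isIso_plusQ_iff _).2 hj
  let eA : DerivedCategory.Plus.Qh.obj A ≅ K :=
    (asIso (DerivedCategory.Plus.Q.map (ObjectProperty.homMk j :
      (⟨L₀', m, hm⟩ : CochainComplex.Plus (EtModW.Mod Λ X)) ⟶ L))).symm ≪≫ e₀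
  have hH : ∀ n, EtCoh.IsTorsion ((EtModD.forgetToAb Λ X).obj (I.homology n)) := fun n =>
    Colim.isTorsion_of_iso ((EtModD.forgetToAb Λ X).mapIso
      ((DerivedCategory.Plus.homologyFunctor _ n).mapIso eA.symm ≪≫
        (DerivedCategory.homologyFunctorFactorsh _ n).app ((HomotopyCategory.quotient _ _).obj I) ≪≫
        (HomotopyCategory.homologyFunctorFactors _ _ n).app I)) (hK n)
  rw [hT, ← NatTrans.isIso_app_iff_of_iso T eA, ← hT]
  -- the units
  haveI hUf : IsIso ((EtModW.push Λ f).rightDerivedFunctorPlusUnit.app A) :=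
    (L00.RPlusUnit.unit_isIso_iff (EtModW.push Λ f) (𝟙 L) (fun n => hI n)).2
      (by rw [ObjectProperty.FullSubcategory.id_hom, CategoryTheory.Functor.map_id]; infer_instance)
  let PL := (EtModW.pull Λ g').mapCochainComplexPlus.obj L
  haveI : CochainComplex.IsStrictlyGE (((EtModW.pull Λ g').mapHomologicalComplex (ComplexShape.up ℤ)).obj I) m :=
    (CochainComplex.isStrictlyGE_iff _ _).2 fun n hn =>
      (EtModW.pull Λ g').map_isZero (CochainComplex.isZero_of_isStrictlyGE I m n hn)
  obtain ⟨J, i, hi, hJ, hgeJ⟩ := CochainComplex.Plus.modelCategoryQuillen.exists_quasiIso_injective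
    (((EtModW.pull Λ g').mapHomologicalComplex (ComplexShape.up ℤ)).obj I) m
  haveI : ∀ n, Injective (J.X n) := hJ
  let i' : PL ⟶ ⟨J, m, inferInstance⟩ := ObjectProperty.homMk i
  haveI : QuasiIso i'.hom := hi
  haveI hUf' : IsIso ((EtModW.push Λ f').rightDerivedFunctorPlusUnit.app
      ((EtModW.pull Λ g').mapHomotopyCategoryPlus.obj A)) :=
    (L00.RPlusUnit.unit_isIso_iff (EtModW.push Λ f') i' (fun n => hJ n)).2 (quasiIso_push_resolution h I m hH J i)
  let e := (EtModW.push Λ f').rightDerivedFunctorPlusUnit.app ((EtModW.pull Λ g').mapHomotopyCategoryPlus.obj A) ≫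
    (EtModW.push Λ f').rightDerivedFunctorPlus.map ((EtModW.pull Λ g').rightDerivedFunctorPlusUnit.app A)
  haveI : IsIso e := inferInstance
  let P := (EtModW.push Λ f').mapHomotopyCategoryPlus.obj ((EtModW.pull Λ g').mapHomotopyCategoryPlus.obj A)
  let θ := EtSix.pushToPushPullMod Λ f g f' g' h.w
  let θA := (EtSix.plusNatTrans θ ≫
      (Functor.mapHomotopyCategoryPlusCompIso
        (Iso.refl (EtModW.pull Λ g' ⋙ EtModW.push Λ f' ⋙ EtModW.push Λ g))).inv ≫
      Functor.whiskerLeft (EtModW.pull Λ g').mapHomotopyCategoryPlus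
        (Functor.mapHomotopyCategoryPlusCompIso (Iso.refl (EtModW.push Λ f' ⋙ EtModW.push Λ g))).inv).app A
  have hθ : (HomotopyCategory.Plus.ι _).map θA =
      (HomotopyCategory.quotient _ _).map ((NatTrans.mapHomologicalComplex θ _).app I) := by
    have e1 := congr_app (((HomotopyCategory.plus (EtModW.Mod Λ S)).fullyFaithfulι.whiskeringRight
      (HomotopyCategory.Plus (EtModW.Mod Λ X))).map_preimage
        (X := (EtModW.push Λ f).mapHomotopyCategoryPlus)
        (Y := (EtModW.pull Λ g' ⋙ EtModW.push Λ f' ⋙ EtModW.push Λ g).mapHomotopyCategoryPlus)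
        (Functor.whiskerLeft (HomotopyCategory.Plus.ι (EtModW.Mod Λ X))
          (NatTrans.mapHomotopyCategory θ (ComplexShape.up ℤ)))) A
    simp only [θA, NatTrans.comp_app, Functor.map_comp]
    refine (congrArg₂ (· ≫ ·) e1 ?_).trans (Category.comp_id _)
    refine Eq.trans ?_ (Category.comp_id _)
    refine congrArg₂ (· ≫ ·) ?_ ?_ <;>
    · simp [Functor.mapHomotopyCategoryPlusCompIso, Functor.mapHomotopyCategoryCompIso,
        Functor.mapHomologicalComplexCompIso, Quotient.natIsoLift]
      rfl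
  have hfac : (EtModW.push Λ f).rightDerivedFunctorPlusUnit.app A ≫
      (EtSix.bcAdjMod Λ f g f' g' h.w).app (DerivedCategory.Plus.Qh.obj A) =
      DerivedCategory.Plus.Qh.map θA ≫ (EtModW.push Λ g).rightDerivedFunctorPlusUnit.app P ≫
        (EtModW.push Λ g).rightDerivedFunctorPlus.map e := by
    refine ((EtModW.push Λ f).rightDerivedFunctorPlus.rightDerived_fac_app
      (EtModW.push Λ f).rightDerivedFunctorPlusUnit (HomotopyCategory.Plus.quasiIso (EtModW.Mod Λ X)) _ _ A).trans ?_
    simp [EtSix.rPlusUnit₃, θA, e, P, θ]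
    try rfl
  rw [isIso_iff_coyoneda_map_bijective]
  intro M
  obtain ⟨D₀, ⟨eD⟩⟩ : ∃ L : CochainComplex.Plus (EtModW.Mod Λ S'),
      Nonempty (DerivedCategory.Plus.Qh.obj ((HomotopyCategory.Plus.quotient _).obj L) ≅ M) := by
    obtain ⟨L, hL⟩ := HomotopyCategory.Plus.quotient_obj_surjective (DerivedCategory.Plus.Qh.objPreimage M)
    exact ⟨L, ⟨eqToIso (by rw [hL]) ≪≫ DerivedCategory.Plus.Qh.objObjPreimageIso M⟩⟩
  obtain ⟨D₀', m', hm'⟩ := D₀
  obtain ⟨D, k, hk, hD, hgeD⟩ := CochainComplex.Plus.modelCategoryQuillen.exists_quasiIso_injective D₀' m'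
  haveI : ∀ n, Injective (D.X n) := hD
  haveI := CochainComplex.isKInjective_of_injective D m'
  let LD : CochainComplex.Plus (EtModW.Mod Λ S') := ⟨D, m', inferInstance⟩
  let B := (HomotopyCategory.Plus.quotient _).obj LD
  haveI : IsIso (DerivedCategory.Plus.Q.map (ObjectProperty.homMk k :
      (⟨D₀', m', hm'⟩ : CochainComplex.Plus (EtModW.Mod Λ S')) ⟶ LD)) :=
    (L00.RPlusUnit.isIso_plusQ_iff _).2 hk
  let eM : DerivedCategory.Plus.Qh.obj B ≅ M :=
    (asIso (DerivedCategory.Plus.Q.map (ObjectProperty.homMk k :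
      (⟨D₀', m', hm'⟩ : CochainComplex.Plus (EtModW.Mod Λ S')) ⟶ LD))).symm ≪≫ eD
  haveI hUg : IsIso ((EtModW.push Λ g).rightDerivedFunctorPlusUnit.app B) :=
    (L00.RPlusUnit.unit_isIso_iff (EtModW.push Λ g) (𝟙 LD) (fun n => hD n)).2
      (by rw [ObjectProperty.FullSubcategory.id_hom, CategoryTheory.Functor.map_id]; infer_instance)
  haveI : CochainComplex.IsKInjective (((EtModW.push Λ g).mapHomologicalComplex _).obj D) :=
    L10.KInjTransfer.isKInjective_map (EtSix.pullPushModAdj Λ g) D
  let Γ : (P ⟶ B) → ((EtModW.push Λ f).mapHomotopyCategoryPlus.obj A ⟶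
      (EtModW.push Λ g).mapHomotopyCategoryPlus.obj B) := fun ψ =>
    θA ≫ (EtModW.push Λ g).mapHomotopyCategoryPlus.map ψ
  have hΓ : Function.Bijective Γ := by
    haveI : IsIso (bcC f g f' g' h.w I) :=
      haveI : ∀ n, IsIso ((bcC f g f' g' h.w I).f n) := fun n => ModPull.isIso_baseChange0Mod Λ f g f' g' h (I.X n)
      HomologicalComplex.Hom.isIso_of_components _
    rw [← Function.Bijective.of_comp_iff' ((HomotopyCategory.Plus.fullyFaithfulι _).map_bijective _ _)]
    have e' : (HomotopyCategory.Plus.ι _).map ∘ Γ = (fun x => (HomotopyCategory.quotient _ _).map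
          (unitC (EtSix.pullPushModAdj Λ g) (((EtModW.push Λ f).mapHomologicalComplex _).obj I)) ≫
            ((EtModW.push Λ g).mapHomotopyCategory _).map x) ∘
        ((fun ψ => (HomotopyCategory.quotient _ _).map (bcC f g f' g' h.w I) ≫ ψ) ∘
          (HomotopyCategory.Plus.ι _).map) := by
      funext ψ
      refine (Functor.map_comp _ _ _).trans ((congrArg (· ≫ _) (hθ.trans
        (congrArg _ (unitC_comp_bcC f g f' g' h.w I).symm))).trans ?_)
      refine ((congrArg (· ≫ _) ((HomotopyCategory.quotient _ _).map_comp _ _)).trans (Category.assoc _ _ _)).trans ?_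
      exact congrArg (_ ≫ ·) (((EtModW.push Λ g).mapHomotopyCategory (ComplexShape.up ℤ)).map_comp
        ((HomotopyCategory.quotient _ _).map (bcC f g f' g' h.w I)) ((HomotopyCategory.Plus.ι _).map ψ)).symm
    rw [e']
    exact (bijective_homotopy_transpose _ _ _).comp
      ((Iso.homFromEquiv (asIso ((HomotopyCategory.quotient _ _).map (bcC f g f' g' h.w I))).symm).bijective.comp
        ((HomotopyCategory.Plus.fullyFaithfulι _).map_bijective _ _))
  let Rg := (EtModW.push Λ g).rightDerivedFunctorPlus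
  let Φ : ((EtModW.push Λ f).mapHomotopyCategoryPlus.obj A ⟶ (EtModW.push Λ g).mapHomotopyCategoryPlus.obj B) →
      ((EtModW.push Λ f).rightDerivedFunctorPlus.obj (DerivedCategory.Plus.Qh.obj A) ⟶ Rg.obj M) := fun x =>
    inv ((EtModW.push Λ f).rightDerivedFunctorPlusUnit.app A) ≫ DerivedCategory.Plus.Qh.map x ≫
      (EtModW.push Λ g).rightDerivedFunctorPlusUnit.app B ≫ Rg.map eM.hom
  have hΦ : Function.Bijective Φ :=
    (Iso.homFromEquiv (asIso ((EtModW.push Λ f).rightDerivedFunctorPlusUnit.app A))).bijective.comp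
      ((Iso.homToEquiv (asIso ((EtModW.push Λ g).rightDerivedFunctorPlusUnit.app B ≫ Rg.map eM.hom))).bijective.comp
        (DerivedCategory.Plus.Qh_map_bijective_of_isKInjective _ ((EtModW.push Λ g).mapHomotopyCategoryPlus.obj B) ‹_›))
  have hQ : Function.Bijective (fun ψ : P ⟶ B => inv e ≫ DerivedCategory.Plus.Qh.map ψ ≫ eM.hom) :=
    (Iso.homFromEquiv (asIso e)).bijective.comp
      ((Iso.homToEquiv eM).bijective.comp (DerivedCategory.Plus.Qh_map_bijective_of_isKInjective P B ‹_›))
  have key : ∀ ψ, (EtSix.bcAdjMod Λ f g f' g' h.w).app (DerivedCategory.Plus.Qh.obj A) ≫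
      Rg.map (inv e ≫ DerivedCategory.Plus.Qh.map ψ ≫ eM.hom) = Φ (Γ ψ) := by
    intro ψ
    rw [← cancel_epi ((EtModW.push Λ f).rightDerivedFunctorPlusUnit.app A)]
    simp only [Φ, IsIso.hom_inv_id_assoc]
    rw [reassoc_of% hfac]
    erw [← Functor.map_comp Rg e, IsIso.hom_inv_id_assoc]
    simp only [Γ, Functor.map_comp, Category.assoc]
    refine congrArg (DerivedCategory.Plus.Qh.map θA ≫ ·) ?_
    exact ((EtModW.push Λ g).rightDerivedFunctorPlusUnit.naturality_assoc ψ (Rg.map eM.hom)).symm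
  have hb : Function.Bijective (fun φ : (EtModW.push Λ f').rightDerivedFunctorPlus.obj
      ((EtModW.pull Λ g').rightDerivedFunctorPlus.obj (DerivedCategory.Plus.Qh.obj A)) ⟶ M =>
      (EtSix.bcAdjMod Λ f g f' g' h.w).app (DerivedCategory.Plus.Qh.obj A) ≫ Rg.map φ) := by
    refine (Function.Bijective.of_comp_iff _ hQ).1 ?_
    rw [show (fun φ : (EtModW.push Λ f').rightDerivedFunctorPlus.obj
      ((EtModW.pull Λ g').rightDerivedFunctorPlus.obj (DerivedCategory.Plus.Qh.obj A)) ⟶ M =>
      (EtSix.bcAdjMod Λ f g f' g' h.w).app (DerivedCategory.Plus.Qh.obj A) ≫ Rg.map φ) ∘ (fun ψ : P ⟶ B => inv e ≫ DerivedCategory.Plus.Qh.map ψ ≫ eM.hom) = Φ ∘ Γ from funext key]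
    exact hΦ.comp hΓ
  have heq : (fun φ => EtSix.bcMapMod Λ f g f' g' h.w adj (DerivedCategory.Plus.Qh.obj A) ≫ φ) =
      (adj.homEquiv _ M).symm ∘
      (fun φ => (EtSix.bcAdjMod Λ f g f' g' h.w).app (DerivedCategory.Plus.Qh.obj A) ≫ Rg.map φ) :=
    funext fun φ => (adj.homEquiv_naturality_right_symm _ φ).symm
  show Function.Bijective (fun φ => EtSix.bcMapMod Λ f g f' g' h.w adj (DerivedCategory.Plus.Qh.obj A) ≫ φ)
  rw [heq]
  exact (Equiv.bijective _).comp hb

end Main

end Groth.L27.PBC.ModBc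

end
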