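import Groth.Agent.L27.PBC.ShriekProperPush
import Groth.Agent.L27.ExtZero.Recollement
import Groth.Agent.L27.ExtZero.ToShriek
import Groth.Agent.L27.EtSite.HofPush
import Groth.Agent.L27.EtSite.PropB
import Groth.Agent.L28.Divisor.Sky
import Groth.Agent.S6641
import Groth.Agent.S0642
import Mathlib.AlgebraicGeometry.ZariskisMainTheorem
import Mathlib.AlgebraicGeometry.AlgClosed.Basic

/-! # Acyclicity of direct images with proper support of acyclic torsion sheaves -/

set_option autoImplicit false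
set_option linter.style.haveILetI false
set_option linter.unusedSectionVars false
set_option backward.isDefEq.respectTransparency.types false

universe u

open CategoryTheory CategoryTheory.Limits AlgebraicGeometry Opposite

noncomputable section

namespace Groth.L27.PBC

theorem stalk_map_cofan {X : Scheme.{u}} {ι : Type u} {F : ι → EtCoh.Ab X} {G : EtCoh.Ab X} {c : Cofan F}
    (hc : IsColimit c) (θ : c.pt ⟶ G) (m : ∀ i, F i ⟶ G) (hm : ∀ i, c.inj i ≫ θ = m i)
    {Ω : Type u} [Field Ω] [IsSepClosed Ω] (ξ : Spec (CommRingCat.of Ω) ⟶ X) (i₀ : ι)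
    [IsIso ((EtCoh.stalk ξ).map (m i₀))] (hz : ∀ i, i ≠ i₀ → IsZero ((EtCoh.stalk ξ).obj (F i))) :
    IsIso ((EtCoh.stalk ξ).map θ) := by
  have hfac : (EtCoh.stalk ξ).map (c.inj i₀) ≫ (EtCoh.stalk ξ).map θ = (EtCoh.stalk ξ).map (m i₀) := by
    rw [← Functor.map_comp, hm]
  haveI : Epi ((EtCoh.stalk ξ).map (c.inj i₀)) := (AddCommGrpCat.epi_iff_surjective _).2 fun z => by
    refine L28.Sky.mem_range_of_cofan ξ hc ((EtCoh.stalk ξ).map (c.inj i₀)).hom.range (fun i w => ?_) z
    by_cases hi : i = i₀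
    · subst hi; exact ⟨w, rfl⟩
    · rw [@Subsingleton.elim _ (AddCommGrpCat.subsingleton_of_isZero (hz i hi)) w 0, map_zero]
      exact zero_mem _
  haveI : Mono ((EtCoh.stalk ξ).map (c.inj i₀) ≫ (EtCoh.stalk ξ).map θ) := hfac ▸ inferInstance
  haveI := mono_of_mono ((EtCoh.stalk ξ).map (c.inj i₀)) ((EtCoh.stalk ξ).map θ)
  haveI := isIso_of_mono_of_epi ((EtCoh.stalk ξ).map (c.inj i₀))
  haveI : IsIso ((EtCoh.stalk ξ).map (c.inj i₀) ≫ (EtCoh.stalk ξ).map θ) := hfac ▸ inferInstance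
  exact IsIso.of_isIso_comp_left ((EtCoh.stalk ξ).map (c.inj i₀)) _

/-- Cohomology of a finite direct image vanishes with that of the sheaf. -/
theorem subsingleton_H_push_finite {X Y : Scheme.{u}} (φ : X ⟶ Y) [IsFinite φ] (F : EtCoh.Ab X) (q : ℕ)
    (h : Subsingleton (EtCoh.H X F q)) : Subsingleton (EtCoh.H Y ((EtCoh.push φ).obj F) q) :=
  haveI := h
  haveI := EtSite.preservesFiniteLimits_pull φ
  (EtSite.bijective_HofPush φ F
    (fun s hs => EtSite.isZero_Rpush_of_propB φ (EtSite.propB_of_isIntegralHom φ) F s hs) q).1.subsingleton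

/-- The counit of extension by zero along an open. -/
abbrev piece {X : Scheme.{u}} (U : X.Opens) [EtShriek.JCont U.ι] (G : EtCoh.Ab X) : EtCoh.Ab X :=
  (EtShriek.extZero U.ι).obj ((EtShriek.restrAlong U.ι).obj G)

/-- Cohomology of direct images with proper support along a decomposed scheme. -/
theorem subsingleton_H_shriek_disjoint {X X₀ : Scheme.{u}} [CompactSpace X₀] [QuasiSeparatedSpace X₀]
    (φ : X ⟶ X₀) [IsSeparated φ] [LocallyOfFiniteType φ] [LocallyQuasiFinite φ]
    {ι : Type u} (U : ι → X.Opens) [∀ i, IsFinite ((U i).ι ≫ φ)] (hd : ∀ i j, ∀ x, x ∈ U i → x ∈ U j → i = j)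
    (hcov : ∀ x, ∃ i, x ∈ U i) (G : EtCoh.Ab X) (q : ℕ)
    (hG : ∀ i, Subsingleton (EtCoh.H (U i).toScheme ((EtCoh.pull (U i).ι).obj G) q)) :
    Subsingleton (EtCoh.H X₀ ((EtShriek.lowerShriek φ).obj G) q) := by
  haveI : ∀ i, EtShriek.JCont (U i).ι := fun i => Groth.L27.ExtZero.jCont _
  haveI : HasColimitsOfSize.{u, u} (EtCoh.Ab X) := hasColimitsOfSizeShrink.{u, u, u + 1, u + 1} _
  let F := fun i => piece (U i) G
  let c : Cofan F := colimit.cocone _
  let hc : IsColimit c := colimit.isColimit _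
  let m := fun i => (EtShriek.extZeroAdj (U i).ι).counit.app G
  let θ := Cofan.IsColimit.desc hc m
  have key : ∀ (Ω : Type u) [Field Ω] [IsSepClosed Ω] (ξ : Spec (CommRingCat.of Ω) ⟶ X),
      IsIso ((EtCoh.stalk ξ).map θ) := by
    intro Ω _ _ ξ
    obtain ⟨i₀, hi₀⟩ := hcov (ξ default)
    haveI : IsIso ((EtCoh.stalk ξ).map (m i₀)) :=
      Groth.L27.ExtZero.isIso_stalk_counit_inside (U i₀).ι G ξ (by rw [Scheme.Opens.range_ι]; exact hi₀)
    refine stalk_map_cofan hc θ m (fun i => Cofan.IsColimit.fac hc _ i) ξ i₀ fun i hi => ?_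
    refine Groth.L27.ExtZero.isZero_stalk_extZero_of_outside (U i).ι ξ ?_ _
    rintro - ⟨z, rfl⟩
    rw [Subsingleton.elim (α := Spec (CommRingCat.of Ω)) z default, Set.mem_compl_iff, Scheme.Opens.range_ι]
    exact fun hz => hi (hd i i₀ _ hz hi₀)
  haveI : Mono θ := (EtSite.mono_iff_stalks θ).2 fun Ω _ _ ξ =>
    haveI := key Ω ξ; (ConcreteCategory.bijective_of_isIso ((EtCoh.stalk ξ).map θ)).1
  haveI : Epi θ := (EtSite.epi_iff_stalks θ).2 fun Ω _ _ ξ =>
    haveI := key Ω ξ; (ConcreteCategory.bijective_of_isIso ((EtCoh.stalk ξ).map θ)).2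
  haveI := isIso_of_mono_of_epi θ
  haveI := Groth.L27.Lqf.isLeftAdjoint_lowerShriek φ
  refine L28.CurveCd.subsingleton_H_of_iso ((EtShriek.lowerShriek φ).mapIso (asIso θ)) q ?_
  refine Groth.Agent.S6641.subsingleton_coprod X₀ (fun i => (EtShriek.lowerShriek φ).obj (F i)) q (fun i => ?_)
    (Cofan.mk _ fun i => (EtShriek.lowerShriek φ).map (c.inj i))
    (isColimitCofanMkObjOfIsColimit (EtShriek.lowerShriek φ) F _ hc)
  let e : (EtShriek.lowerShriek φ).obj (F i) ≅ (EtCoh.push ((U i).ι ≫ φ)).obj ((EtCoh.pull (U i).ι).obj G) :=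
    (EtShriek.lowerShriek φ).mapIso ((Groth.L27.ExtZero.shriekIso (U i).ι).app _) ≪≫
      ((Groth.L27.Supp.compIso (U i).ι φ).app _).symm ≪≫
      (Groth.L27.Supp.shriekPushIso ((U i).ι ≫ φ)).app _ ≪≫
      (EtCoh.push ((U i).ι ≫ φ)).mapIso ((Groth.L27.ExtZero.pullRestr (U i).ι).app G).symm
  exact L28.CurveCd.subsingleton_H_of_iso e.symm q (subsingleton_H_push_finite _ _ q (hG i))

section Main

variable {X Y X' Y' : Scheme.{u}} (f : X ⟶ Y) (g : Y' ⟶ Y) (f' : X' ⟶ Y') (g' : X' ⟶ X) (w : g' ≫ f = f' ≫ g)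
  [IsProper f] [IsProper f'] [IsSeparated g] [LocallyOfFiniteType g] [LocallyQuasiFinite g]
  [IsSeparated g'] [LocallyOfFiniteType g'] [LocallyQuasiFinite g']

include w in
/-- `g'_!` carries torsion `f'_*`-acyclic sheaves to `f_*`-acyclic sheaves. -/
theorem isZero_Rpush_shriek_acyclic (T : EtCoh.Ab X') (hT : EtCoh.IsTorsion T) (q : ℕ)
    (hac : IsZero ((EtCoh.Rpush f' q).obj T)) :
    IsZero ((EtCoh.Rpush f q).obj ((EtShriek.lowerShriek g').obj T)) := by
  refine EtSite.isZero_of_stalks _ fun z => ?_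
  obtain ⟨K, _, _, ξ, hξ⟩ := Lqf.exists_algClosed_point z
  refine ⟨K, inferInstance, inferInstance, ξ, hξ, ?_⟩
  obtain ⟨e⟩ := nonempty_stalk_iso K f ξ _ (isTorsion_lowerShriek g' hT) q
  refine IsZero.of_iso ?_ e
  let pr := pullback.fst f ξ
  let a := pullback.snd f ξ
  let k := pullback.fst g' pr
  let φ := pullback.snd g' pr
  let b := pullback.snd g ξ
  have hw : (k ≫ f') ≫ g = (φ ≫ a) ≫ ξ := by
    simp only [k, φ, a, pr, Category.assoc]
    rw [← w, pullback.condition_assoc, pullback.condition]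
  let ψ : pullback g' pr ⟶ pullback g ξ := pullback.lift (k ≫ f') (φ ≫ a) hw
  have sq0 : IsPullback k (φ ≫ a) (g' ≫ f) ξ :=
    (IsPullback.of_hasPullback g' pr).paste_vert (IsPullback.of_hasPullback f ξ)
  have sq : IsPullback k ψ f' (pullback.fst g ξ) := by
    refine IsPullback.of_bot ?_ (pullback.lift_fst _ _ hw).symm (IsPullback.of_hasPullback g ξ)
    rw [pullback.lift_snd, ← w]
    exact sq0
  haveI : IsProper ψ := MorphismProperty.of_isPullback (P := @IsProper) sq ‹IsProper f'›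
  haveI : IsLocallyArtinian (pullback g ξ) := IsLocallyArtinian.of_locallyQuasiFinite b
  haveI : DiscreteTopology ↥(pullback g ξ) := inferInstance
  haveI : CompactSpace ↥(pullback f ξ) := QuasiCompact.compactSpace_of_compactSpace a
  haveI : QuasiSeparatedSpace ↥(pullback f ξ) := quasiSeparatedSpace_of_quasiSeparated a
  let eT := ShriekBC.bcIso (IsPullback.of_hasPullback g' pr) T
  let V : ↥(pullback g ξ) → (pullback g ξ).Opens := fun y => ⟨{y}, isOpen_discrete _⟩
  let U : ↥(pullback g ξ) → (pullback g' pr).Opens := fun y => ψ ⁻¹ᵁ V y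
  haveI hVc : ∀ y, CompactSpace (V y).toScheme := fun y => isCompact_iff_compactSpace.mp isCompact_singleton
  haveI hVfin : ∀ y, IsFinite ((V y).ι ≫ b) := fun y => by
    haveI : QuasiCompact ((V y).ι ≫ b) := by
      rw [HasAffineProperty.iff_of_isAffine (P := @QuasiCompact)]
      exact hVc y
    exact IsFinite.of_locallyQuasiFinite _
  haveI : ∀ y, IsFinite ((U y).ι ≫ φ) := fun y => by
    haveI : IsProper (((U y).ι ≫ φ) ≫ a) := by
      have : ((U y).ι ≫ φ) ≫ a = (ψ ∣_ V y) ≫ (V y).ι ≫ b := by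
        rw [morphismRestrict_ι_assoc, Category.assoc, pullback.lift_snd]
      rw [this]
      haveI : IsProper (ψ ∣_ V y) :=
        MorphismProperty.of_isPullback (P := @IsProper) (isPullback_morphismRestrict ψ (V y)).flip ‹IsProper ψ›
      infer_instance
    haveI : IsProper ((U y).ι ≫ φ) := IsProper.of_comp ((U y).ι ≫ φ) a
    exact IsFinite.of_isProper_of_locallyQuasiFinite _
  refine AddCommGrpCat.isZero_iff_subsingleton.2 (L28.CurveCd.subsingleton_H_of_iso eT.symm q
    (subsingleton_H_shriek_disjoint φ U (fun i j x hi hj => hi.symm.trans hj) (fun x => ⟨ψ x, rfl⟩) _ q fun y => ?_))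
  -- the geometric point over `y`
  have hyc : IsClosed ({y} : Set ↥(pullback g ξ)) := isClosed_discrete _
  obtain ⟨ηy, hηy⟩ : ∃ ηy : Spec (CommRingCat.of K) ⟶ pullback g ξ, Set.range ηy = {y} ∧ ηy ≫ b = 𝟙 _ :=
    ⟨pointOfClosedPoint b y hyc, Set.ext fun z => ⟨by rintro ⟨a, rfl⟩; exact pointOfClosedPoint_apply b y hyc a,
      fun hz => ⟨default, (pointOfClosedPoint_apply b y hyc _).trans hz.symm⟩⟩, pointOfClosedPoint_comp b y hyc⟩
  let η := ηy ≫ pullback.fst g ξ
  have hW : Subsingleton (EtCoh.H (pullback f' η) ((EtCoh.pull (pullback.fst f' η)).obj T) q) := by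
    obtain ⟨e'⟩ := nonempty_stalk_iso K f' η T hT q
    exact AddCommGrpCat.subsingleton_of_isZero (((EtCoh.stalk η).map_isZero hac).of_iso e'.symm)
  have hr : Set.range ηy ⊆ Set.range (V y).ι := by
    rw [Scheme.Opens.range_ι, hηy.1]; exact subset_rfl
  let ηV := IsOpenImmersion.lift (V y).ι ηy hr
  have hηV : ηV ≫ (V y).ι = ηy := IsOpenImmersion.lift_fac _ _ _
  have sqU : IsPullback ((U y).ι ≫ k) (ψ ∣_ V y) f' ((V y).ι ≫ pullback.fst g ξ) :=
    (isPullback_morphismRestrict ψ (V y)).flip.paste_horiz sq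
  haveI : IsClosedImmersion ηV := by
    haveI : IsClosedImmersion (ηV ≫ (V y).ι ≫ b) := by
      rw [reassoc_of% hηV, hηy.2]; infer_instance
    exact IsClosedImmersion.of_comp ηV ((V y).ι ≫ b)
  haveI : Surjective ηV := ⟨fun v => ⟨default, (V y).ι.isOpenEmbedding.injective (by
    have h1 : (V y).ι v ∈ Set.range (V y).ι := ⟨v, rfl⟩
    rw [Scheme.Opens.range_ι] at h1
    have h2 : ηy default ∈ Set.range ηy := ⟨default, rfl⟩
    rw [hηy.1] at h2
    exact ((Scheme.Hom.comp_apply _ _ _).symm.trans congr($hηV default)).trans (h2.trans h1.symm))⟩⟩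
  have e1 : η = ηV ≫ (V y).ι ≫ pullback.fst g ξ := by rw [reassoc_of% hηV]
  rw [e1] at hW
  let i := pullback.fst (ψ ∣_ V y) ηV
  let sqW : IsPullback (i ≫ (U y).ι ≫ k) (pullback.snd (ψ ∣_ V y) ηV) f' (ηV ≫ (V y).ι ≫ pullback.fst g ξ) :=
    (IsPullback.of_hasPullback (ψ ∣_ V y) ηV).paste_horiz sqU
  haveI : IsClosedImmersion i := MorphismProperty.pullback_fst _ _ inferInstance
  haveI : Surjective i := MorphismProperty.pullback_fst _ _ inferInstance
  haveI := EtSite.preservesFiniteLimits_pull i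
  have h1 := (subsingleton_of_schemeIso sqW.isoPullback (pullback.fst f' _) sqW.isoPullback_hom_fst T q).1 hW
  have h2 := (subsingleton_of_bijective i ((U y).ι ≫ k) rfl T q (Groth.Agent.S0642.result i _ q)).2 h1
  exact (subsingleton_pull_comp (U y).ι k rfl T q).2 h2

end Main

end Groth.L27.PBC
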