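import Groth.Agent.L27.CompTransfer.Torsion
import Groth.Agent.L27.LimCoh.HMaps
import Groth.Agent.L28.GmTorsion.Basic

/-! # Injective sheaves among sheaves killed by an integer are acyclic -/

set_option autoImplicit false
set_option linter.style.haveILetI false
set_option linter.unusedSectionVars false
set_option backward.isDefEq.respectTransparency.types false

universe u

open CategoryTheory CategoryTheory.Limits AlgebraicGeometry Opposite CategoryTheory.Abelian

noncomputable section

namespace Groth.L27.PBC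

open Groth.L27.LimCoh

variable {X : Scheme.{u}}

theorem nsmul_id_app (F : EtCoh.Ab X) (m : ℕ) (U : X.Etale) (s : F.obj.obj (op U)) :
    (m • 𝟙 F).hom.app (op U) s = m • s := by
  induction m with
  | zero => simp
  | succ k ih => rw [succ_nsmul, succ_nsmul, ← ih]; rfl

theorem epi_nsmul_id (J : EtCoh.Ab X) [Injective J] {m : ℕ} (hm : 0 < m) : Epi (m • 𝟙 J) := by
  refine (Sheaf.isLocallySurjective_iff_epi' AddCommGrpCat.{u + 1} _).mp ⟨fun {T} s => ?_⟩
  obtain ⟨a, ha⟩ := CompTransfer.exists_div_section J T s hm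
  refine GrothendieckTopology.superset_covering _ (fun V g _ => ?_) (GrothendieckTopology.top_mem _ T)
  exact ⟨J.obj.map g.op a, (nsmul_id_app J m V _).trans (by rw [← map_nsmul, ha])⟩

theorem comp_nsmul_id (J : EtCoh.Ab X) (m n : ℕ) (x : EtCoh.H X J n) :
    x.comp (Ext.mk₀ (m • 𝟙 J)) (add_zero n) = m • x := by
  let e : (J ⟶ J) →+ EtCoh.H X J n :=
    AddMonoidHom.mk' (fun f => x.comp (Ext.mk₀ f) (add_zero n)) fun a b => by rw [Ext.mk₀_add, Ext.comp_add]
  show e (m • 𝟙 J) = _
  rw [map_nsmul]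
  exact congrArg (m • ·) (Ext.comp_mk₀_id x)

/-- The kernel of multiplication on an injective sheaf is acyclic. -/
theorem subsingleton_kernel (J : EtCoh.Ab X) [Injective J] {m : ℕ} (hm : 0 < m) (n : ℕ) :
    Subsingleton (EtCoh.H X (kernel (m • 𝟙 J)) (n + 1)) := by
  haveI := epi_nsmul_id J hm
  let S : ShortComplex (EtCoh.Ab X) := ShortComplex.mk (kernel.ι (m • 𝟙 J)) (m • 𝟙 J) (kernel.condition _)
  have hS : S.ShortExact :=
    { exact := ShortComplex.exact_of_f_is_kernel _ (kernelIsKernel _)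
      mono_f := inferInstanceAs (Mono (kernel.ι _))
      epi_g := ‹_› }
  refine subsingleton_iff.2 fun a b => sub_eq_zero.1 ?_
  obtain ⟨y, hy⟩ := exists_δH hS n (a - b) (@Subsingleton.elim (EtCoh.H X J (n + 1))
    ⟨fun p q => (Ext.eq_zero_of_injective p).trans (Ext.eq_zero_of_injective q).symm⟩ _ _)
  rw [← hy]
  obtain ⟨z, hz⟩ : ∃ z, (EtCoh.HF X n).map S.g z = y := by
    cases n with
    | succ k => exact ⟨0, (map_zero _).trans ((Ext.eq_zero_of_injective y).symm)⟩
    | zero =>
      obtain ⟨y', hy'⟩ : ∃ y' : EtCoh.H X J 0, m • y' = y := by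
        let e := Sheaf.H.equiv₀ J (EtCore.topIsTerminal X)
        obtain ⟨a', ha'⟩ := CompTransfer.exists_div_section J _ (e y) hm
        exact ⟨e.symm a', by rw [← map_nsmul, ha', AddEquiv.symm_apply_apply]⟩
      exact ⟨y', ((EtSite.HF_map_apply _ 0 y').trans (comp_nsmul_id J m 0 y')).trans hy'⟩
  rw [← hz]
  exact δH_map_g hS n z

/-- A sheaf killed by `m` and injective among such sheaves is acyclic. -/
theorem subsingleton_of_injective_killed {m : ℕ} (hm : 0 < m) (I : EtCoh.Ab X) (hI : EtCoh.KilledBy m I)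
    (hinj : Injective (ObjectProperty.FullSubcategory.mk (P := fun F : EtCoh.Ab X => EtCoh.KilledBy m F) I hI)) (n : ℕ) :
    Subsingleton (EtCoh.H X I (n + 1)) := by
  let J := Injective.under I
  let φ : I ⟶ J := Injective.ι I
  have h0 : φ ≫ (m • 𝟙 J) = 0 := Sheaf.hom_ext (NatTrans.ext (funext fun U => ConcreteCategory.hom_ext _ _ fun s => by
    refine (nsmul_id_app J m U.unop (φ.hom.app U s)).trans ?_
    rw [← map_nsmul, hI U.unop s, map_zero]
    rfl))
  let ψ : I ⟶ kernel (m • 𝟙 J) := kernel.lift _ φ h0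
  haveI : Mono ψ := mono_of_mono_fac (kernel.lift_ι _ φ h0)
  have hK : EtCoh.KilledBy m (kernel (m • 𝟙 J)) := fun U s => by
    haveI : Mono ((kernel.ι (m • 𝟙 J)).hom.app (op U)) := by
      haveI : Mono ((sheafToPresheaf X.smallEtaleTopology AddCommGrpCat.{u + 1}).map (kernel.ι (m • 𝟙 J))) :=
        Functor.map_mono _ _
      exact (NatTrans.mono_iff_mono_app _).1 this (op U)
    refine (AddCommGrpCat.mono_iff_injective _).1 this ?_
    rw [map_nsmul, map_zero]
    refine (nsmul_id_app J m U _).symm.trans ?_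
    exact congr($(congr_app (congrArg InducedCategory.Hom.hom (kernel.condition (m • 𝟙 J))) (op U)) s)
  let a : ObjectProperty.FullSubcategory.mk (P := fun F : EtCoh.Ab X => EtCoh.KilledBy m F) I hI ⟶ ⟨_, hK⟩ :=
    ObjectProperty.homMk ψ
  haveI : Mono a := (ObjectProperty.ι _).mono_of_mono_map (show Mono ψ from inferInstance)
  let r : kernel (m • 𝟙 J) ⟶ I := (hinj.factors (𝟙 _) a).choose.hom
  have hr : ψ ≫ r = 𝟙 I := congrArg InducedCategory.Hom.hom (hinj.factors (𝟙 _) a).choose_spec
  haveI := subsingleton_kernel J hm n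
  refine subsingleton_iff.2 fun x y => ?_
  have h : ∀ z : EtCoh.H X I (n + 1), z = (EtCoh.HF X (n + 1)).map r ((EtCoh.HF X (n + 1)).map ψ z) := fun z => by
    rw [← HF_map_comp, hr, CategoryTheory.Functor.map_id]; rfl
  rw [h x, h y]
  exact congrArg _ (Subsingleton.elim (α := EtCoh.H X (kernel (m • 𝟙 J)) (n + 1)) _ _)

end Groth.L27.PBC
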