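import Groth.Agent.L27.PBC.BcQ
import Groth.Agent.L27.PBC.InjectiveEll
import Groth.Agent.L27.AffineEfface.Effacement
import Groth.Agent.L00.RDerLES
import Groth.Prelude.Def_PBC

/-! # Cohomology commutes with base change for proper morphisms -/

set_option autoImplicit false
set_option linter.style.haveILetI false
set_option linter.unusedSectionVars false
set_option backward.isDefEq.respectTransparency.types false

universe u

open CategoryTheory CategoryTheory.Limits AlgebraicGeometry Opposite

namespace Groth.L27.PBC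

/-- Cohomology of proper morphisms commutes with base change. -/
theorem cohCommutesWithBC {X Y : Scheme.{u}} (f : X ⟶ Y) [IsProper f] [EtCoh.BCCont f] :
    EtPBC.CohCommutesWithBC f := by
  intro X' Y' f' g' g _ _ _ h F hF q
  haveI := Groth.L27.EtSite.preservesFiniteLimits_pull g'
  haveI := isIso_bcQ f g f' g' h q F hF
  exact ⟨asIso (EtBC.bcQ f g f' g' h.w q F)⟩

/-- Kernels of multiplication on injective sheaves are acyclic for direct images. -/
theorem isZero_Rpush_kernel {X Y : Scheme.{u}} (f : X ⟶ Y) (J : EtCoh.Ab X) [Injective J] {m : ℕ} (hm : 0 < m)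
    (q : ℕ) (hq : 0 < q) : IsZero ((EtCoh.Rpush f q).obj (kernel (m • 𝟙 J))) := by
  obtain ⟨q, rfl⟩ : ∃ k, q = k + 1 := ⟨q - 1, by omega⟩
  haveI : PreservesLimitsOfSize.{0, 0} (EtCoh.push f) := (EtCoh.pullPushAdj f).rightAdjoint_preservesLimits
  haveI : PreservesFiniteLimits (EtCoh.push f) := PreservesLimitsOfSize.preservesFiniteLimits _
  letI := HasDerivedCategory.standard (EtCoh.Ab X)
  haveI := epi_nsmul_id J hm
  let S : ShortComplex (EtCoh.Ab X) := ShortComplex.mk (kernel.ι (m • 𝟙 J)) (m • 𝟙 J) (kernel.condition _)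
  have hS : S.ShortExact :=
    { exact := ShortComplex.exact_of_f_is_kernel _ (kernelIsKernel _)
      mono_f := inferInstanceAs (Mono (kernel.ι _))
      epi_g := ‹_› }
  haveI : Epi (((EtCoh.push f).rightDerived q).map S.g) := by
    rcases Nat.eq_zero_or_pos q with rfl | hq
    · haveI := Groth.L27.EtSite.preservesFiniteLimits_pull f
      haveI : Injective ((EtCoh.push f).obj J) := Injective.injective_of_adjoint (EtCoh.pullPushAdj f) J
      haveI : Epi ((EtCoh.push f).map S.g) := by
        rw [show (EtCoh.push f).map S.g = m • 𝟙 ((EtCoh.push f).obj J) by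
          rw [← CategoryTheory.Functor.map_id]; exact Functor.map_nsmul _]
        exact epi_nsmul_id _ hm
      rw [← NatIso.naturality_2 (EtCoh.push f).rightDerivedZeroIsoSelf S.g]
      infer_instance
    · obtain ⟨k, rfl⟩ : ∃ k, q = k + 1 := ⟨q - 1, by omega⟩
      exact ⟨fun a b _ => ((EtCoh.push f).isZero_rightDerived_obj_injective_succ k J).eq_of_src a b⟩
  exact Groth.L00.RDerLES.isZero_X₁ (EtCoh.push f) hS q
    ((EtCoh.push f).isZero_rightDerived_obj_injective_succ q J)

/-- Sheaves killed by `m` and injective among such sheaves are acyclic for direct images. -/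
theorem isZero_Rpush_injective_killed {X Y : Scheme.{u}} (f : X ⟶ Y) {m : ℕ} (hm : 0 < m) (I : EtCoh.Ab X)
    (hI : EtCoh.KilledBy m I)
    (hinj : ∀ (G : EtCoh.Ab X), EtCoh.KilledBy m G → ∀ (a : G ⟶ I) {G' : EtCoh.Ab X} (j : G ⟶ G'),
      EtCoh.KilledBy m G' → Mono j → ∃ b : G' ⟶ I, j ≫ b = a)
    (q : ℕ) (hq : 0 < q) : IsZero ((EtCoh.Rpush f q).obj I) := by
  let J := Injective.under I
  let φ : I ⟶ J := Injective.ι I
  have h0 : φ ≫ (m • 𝟙 J) = 0 := Sheaf.hom_ext (NatTrans.ext (funext fun U => ConcreteCategory.hom_ext _ _ fun s => by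
    refine (nsmul_id_app J m U.unop (φ.hom.app U s)).trans ?_
    rw [← map_nsmul, hI U.unop s, map_zero]
    rfl))
  let ψ : I ⟶ kernel (m • 𝟙 J) := kernel.lift _ φ h0
  haveI : Mono ψ := mono_of_mono_fac (kernel.lift_ι _ φ h0)
  have hK : EtCoh.KilledBy m (kernel (m • 𝟙 J)) := fun U s => by
    haveI : Mono ((kernel.ι (m • 𝟙 J)).hom.app (op U)) := by
      haveI : Mono ((sheafToPresheaf X.smallEtaleTopology AddCommGrpCat.{u + 1}).map (kernel.ι (m • 𝟙 J))) :=
        Functor.map_mono _ _
      exact (NatTrans.mono_iff_mono_app _).1 this (op U)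
    refine (AddCommGrpCat.mono_iff_injective _).1 this ?_
    rw [map_nsmul, map_zero]
    refine (nsmul_id_app J m U _).symm.trans ?_
    exact congr($(congr_app (congrArg InducedCategory.Hom.hom (kernel.condition (m • 𝟙 J))) (op U)) s)
  obtain ⟨r, hr⟩ := hinj I hI (𝟙 I) ψ hK inferInstance
  refine (IsZero.iff_id_eq_zero _).2 ?_
  rw [← (EtCoh.Rpush f q).map_id, ← hr, Functor.map_comp,
    (isZero_Rpush_kernel f J hm q hq).eq_of_tgt ((EtCoh.Rpush f q).map ψ) 0, zero_comp]

end Groth.L27.PBC
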