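import Groth.Agent.L27.PBC.IsoOver
import Groth.Agent.L27.PBC.CohBC
import Groth.Agent.L27.EtSite.ClosedCover
import Groth.Agent.L27.BigSets.ProperBC
import Groth.Agent.L27.LimCoh.HComp
import Groth.Agent.L27.CompTransfer.Descend
import Groth.Agent.S0071

/-! # The long exact sequence of an abstract blow-up square -/

set_option autoImplicit false
set_option linter.style.haveILetI false
set_option linter.unusedSectionVars false
set_option backward.isDefEq.respectTransparency.types false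

universe u

open CategoryTheory CategoryTheory.Limits AlgebraicGeometry Opposite

noncomputable section

namespace Groth.L27.ModSquare

open Groth.L27.LimCoh

section Algebra

variable {K A Q K' B Q' C D : ℕ → Type*}
  [∀ n, AddCommGroup (K n)] [∀ n, AddCommGroup (A n)] [∀ n, AddCommGroup (Q n)] [∀ n, AddCommGroup (K' n)]
  [∀ n, AddCommGroup (B n)] [∀ n, AddCommGroup (Q' n)] [∀ n, AddCommGroup (C n)] [∀ n, AddCommGroup (D n)]
  (a : ∀ n, K n →+ A n) (q : ∀ n, A n →+ Q n) (d : ∀ n, Q n →+ K (n + 1))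
  (a' : ∀ n, K' n →+ B n) (q' : ∀ n, B n →+ Q' n) (d' : ∀ n, Q' n →+ K' (n + 1))
  (k : ∀ n, K n ≃+ K' n) (hb : ∀ n, A n →+ B n) (rb : ∀ n, Q n →+ Q' n)
  (φ : ∀ n, Q n ≃+ C n) (ψ : ∀ n, Q' n ≃+ D n)
  (rC : ∀ n, A n →+ C n) (jB : ∀ n, B n →+ D n) (πC : ∀ n, C n →+ D n)

/-- A ladder with bijective kernels gives a Mayer–Vietoris sequence. -/
theorem exists_delta (ha : ∀ n, Function.Exact (a n) (q n)) (hq : ∀ n, Function.Exact (q n) (d n))
    (hd : ∀ n, Function.Exact (d n) (a (n + 1)))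
    (ha' : ∀ n, Function.Exact (a' n) (q' n)) (hq' : ∀ n, Function.Exact (q' n) (d' n))
    (hd' : ∀ n, Function.Exact (d' n) (a' (n + 1))) (hinj : Function.Injective (a' 0))
    (hka : ∀ n x, a' n (k n x) = hb n (a n x)) (hkq : ∀ n x, q' n (hb n x) = rb n (q n x))
    (hkd : ∀ n x, d' n (rb n x) = k (n + 1) (d n x))
    (hrC : ∀ n x, φ n (q n x) = rC n x) (hjB : ∀ n x, ψ n (q' n x) = jB n x)
    (hπ : ∀ n x, ψ n (rb n x) = πC n (φ n x)) :
    ∃ δ : ∀ n, D n →+ A (n + 1),
      Function.Injective (fun e : A 0 => (hb 0 e, rC 0 e)) ∧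
      ∀ n, Function.Exact (fun e : A n => (hb n e, rC n e)) (fun uv : B n × C n => jB n uv.1 - πC n uv.2) ∧
        Function.Exact (fun uv : B n × C n => jB n uv.1 - πC n uv.2) (δ n) ∧
        Function.Exact (δ n) (fun e : A (n + 1) => (hb (n + 1) e, rC (n + 1) e)) := by
  refine ⟨fun n => (a (n + 1)).comp ((k (n + 1)).symm.toAddMonoidHom.comp ((d' n).comp (ψ n).symm.toAddMonoidHom)),
    ?_, fun n => ⟨?_, ?_, ?_⟩⟩
  · intro e e' he
    simp only [Prod.mk.injEq] at he
    obtain ⟨he1, he2⟩ := he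
    have h1 : q 0 (e - e') = 0 := (φ 0).injective (by rw [hrC, map_zero, map_sub, he2, sub_self])
    obtain ⟨m, hm⟩ := (ha 0 _).1 h1
    have h2 : a' 0 (k 0 m) = 0 := by rw [hka, hm, map_sub, he1, sub_self]
    have h3 : m = 0 := (k 0).injective ((hinj (h2.trans (map_zero _).symm)).trans (map_zero _).symm)
    rw [h3, map_zero] at hm
    exact sub_eq_zero.1 hm.symm
  · rintro ⟨u, v⟩
    constructor
    · intro h
      obtain ⟨x, rfl⟩ := (φ n).surjective v
      have h1 : q' n u = rb n x := (ψ n).injective (by rw [hjB, hπ]; exact sub_eq_zero.1 h)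
      have h2 : d n x = 0 := (k (n + 1)).injective (by rw [← hkd, ← h1, (hq' n).apply_apply_eq_zero, map_zero])
      obtain ⟨e0, rfl⟩ := (hq n _).1 h2
      obtain ⟨k', hk'⟩ := (ha' n (u - hb n e0)).1 (by rw [map_sub, hkq, h1, sub_self])
      obtain ⟨m, rfl⟩ := (k n).surjective k'
      refine ⟨e0 + a n m, Prod.ext ?_ ?_⟩
      · show hb n (e0 + a n m) = u
        rw [map_add, ← hka, hk', add_sub_cancel]
      · show rC n (e0 + a n m) = φ n (q n e0)
        rw [← hrC, map_add (q n), (ha n).apply_apply_eq_zero, add_zero]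
    · rintro ⟨e, he⟩
      obtain ⟨rfl, rfl⟩ := Prod.mk.injEq _ _ _ _ ▸ he
      show jB n (hb n e) - πC n (rC n e) = 0
      rw [← hjB, hkq, hπ, hrC, sub_self]
  · intro y
    obtain ⟨r, rfl⟩ := (ψ n).surjective y
    simp only [AddMonoidHom.comp_apply, AddEquiv.coe_toAddMonoidHom, AddEquiv.symm_apply_apply]
    constructor
    · intro h
      obtain ⟨x, hx⟩ := (hd n _).1 h
      have h1 : d' n (r - rb n x) = 0 := by rw [map_sub, hkd, hx, AddEquiv.apply_symm_apply, sub_self]
      obtain ⟨u, hu⟩ := (hq' n _).1 h1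
      refine ⟨(u, -φ n x), ?_⟩
      show jB n u - πC n (-φ n x) = ψ n r
      rw [map_neg, sub_neg_eq_add, ← hπ, ← hjB, hu, ← map_add, sub_add_cancel]
    · rintro ⟨⟨u, v⟩, h⟩
      obtain ⟨x, rfl⟩ := (φ n).surjective v
      have h1 : r = q' n u - rb n x := (ψ n).injective (by rw [map_sub, hjB, hπ]; exact h.symm)
      rw [h1, map_sub, (hq' n).apply_apply_eq_zero, hkd, zero_sub, map_neg, AddEquiv.symm_apply_apply, map_neg,
        (hd n).apply_apply_eq_zero, neg_zero]
  · intro e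
    simp only [AddMonoidHom.comp_apply, AddEquiv.coe_toAddMonoidHom]
    constructor
    · intro h
      simp only [Prod.mk_eq_zero] at h
      obtain ⟨h1, h2⟩ := h
      obtain ⟨m, rfl⟩ := (ha (n + 1) e).1 ((φ (n + 1)).injective (by rw [hrC, h2, map_zero]))
      obtain ⟨r, hr⟩ := (hd' n _).1 ((hka _ m).trans h1)
      exact ⟨ψ n r, by
        simp only [AddMonoidHom.comp_apply, AddEquiv.coe_toAddMonoidHom, AddEquiv.symm_apply_apply, hr]⟩
    · rintro ⟨y, rfl⟩
      simp only [AddMonoidHom.comp_apply, AddEquiv.coe_toAddMonoidHom]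
      refine Prod.ext ?_ ?_
      · show hb (n + 1) (a (n + 1) _) = 0
        rw [← hka, AddEquiv.apply_symm_apply, (hd' n).apply_apply_eq_zero]
      · show rC (n + 1) (a (n + 1) _) = 0
        rw [← hrC, (ha (n + 1)).apply_apply_eq_zero, map_zero]

end Algebra

section Sheaves

variable {X : Scheme.{u}}

theorem isTorsion_of_mono {F G : EtCoh.Ab X} (φ : F ⟶ G) [Mono φ] (hG : EtCoh.IsTorsion G) :
    EtCoh.IsTorsion F := fun U s x => by
  obtain ⟨V, g, hv, hfin⟩ := hG U (φ.hom.app (op U) s) x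
  refine ⟨V, g, hv, ?_⟩
  have hinj : Function.Injective (φ.hom.app (op V)) := by
    haveI : Mono ((sheafToPresheaf _ _).map φ) := Functor.map_mono _ _
    exact (AddCommGrpCat.mono_iff_injective _).1 ((NatTrans.mono_iff_mono_app _).1 this (op V))
  rw [isOfFinAddOrder_iff_nsmul_eq_zero] at hfin ⊢
  obtain ⟨m, hm, h0⟩ := hfin
  refine ⟨m, hm, hinj ?_⟩
  rw [map_nsmul, map_zero, NatTrans.naturality_apply]
  exact h0

theorem HpullVia_map {A B : Scheme.{u}} (f : A ⟶ B) (t : B ⟶ X) (f₀ : A ⟶ X) (w : f ≫ t = f₀)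
    [PreservesFiniteLimits (EtCoh.pull f)] {F G : EtCoh.Ab X} (φ : F ⟶ G) (n : ℕ)
    (e : EtCoh.H B ((EtCoh.pull t).obj F) n) :
    EtCore.HpullVia f t f₀ w G n ((EtCoh.HF B n).map ((EtCoh.pull t).map φ) e) =
      (EtCoh.HF A n).map ((EtCoh.pull f₀).map φ) (EtCore.HpullVia f t f₀ w F n e) := by
  rw [CompTransfer.HpullVia_eq_map, CompTransfer.HpullVia_eq_map, Hpull_map, ← HF_map_comp, ← HF_map_comp]
  exact congrArg (fun m => (EtCoh.HF A n).map m (EtCore.Hpull f _ n e))
    (((EtCore.pullComp f t).symm ≪≫ EtCore.pullCongr w).hom.naturality φ)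

theorem HpullVia_Hpull {A B : Scheme.{u}} (f : A ⟶ B) (t : B ⟶ X) (f₀ : A ⟶ X) (w : f ≫ t = f₀)
    [PreservesFiniteLimits (EtCoh.pull f)] [PreservesFiniteLimits (EtCoh.pull t)] [PreservesFiniteLimits (EtCoh.pull f₀)]
    (F : EtCoh.Ab X) (n : ℕ) (e : EtCoh.H X F n) :
    EtCore.HpullVia f t f₀ w F n (EtCore.Hpull t F n e) = EtCore.Hpull f₀ F n e := by
  rw [CompTransfer.HpullVia_eq_map, Hpull_comp f t w, ← HF_map_comp, ← CompTransfer.inv_eq_gamma, Iso.inv_hom_id,
    CategoryTheory.Functor.map_id]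
  rfl

theorem exists_map_of_map_eq_zero {E : ShortComplex (EtCoh.Ab X)} (hE : E.ShortExact) (n : ℕ)
    (y : EtCoh.H X E.X₂ n) (h : (EtCoh.HF X n).map E.g y = 0) : ∃ z, (EtCoh.HF X n).map E.f z = y := by
  rw [EtSite.HF_map_apply] at h
  obtain ⟨z, hz⟩ := CategoryTheory.Abelian.Ext.covariant_sequence_exact₂ _ hE y h
  exact ⟨z, (EtSite.HF_map_apply _ _ _).trans hz⟩

theorem map_comp_eq_zero {E : ShortComplex (EtCoh.Ab X)} (n : ℕ) (y : EtCoh.H X E.X₁ n) :
    (EtCoh.HF X n).map E.g ((EtCoh.HF X n).map E.f y) = 0 := by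
  rw [← HF_map_comp, E.zero]
  rw [EtSite.HF_map_apply, CategoryTheory.Abelian.Ext.mk₀_zero, CategoryTheory.Abelian.Ext.comp_zero]
  rfl

theorem map_δH_eq_zero {E : ShortComplex (EtCoh.Ab X)} (hE : E.ShortExact) (n : ℕ) (y : EtCoh.H X E.X₃ n) :
    (EtCoh.HF X (n + 1)).map E.f (δH hE n y) = 0 := by
  rw [EtSite.HF_map_apply, δH_apply, CategoryTheory.Abelian.Ext.comp_assoc _ _ _ rfl (add_zero 1) (by omega),
    hE.extClass_comp, CategoryTheory.Abelian.Ext.comp_zero]
  rfl

theorem injective_map_zero {E : ShortComplex (EtCoh.Ab X)} (hE : E.ShortExact) :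
    Function.Injective ((EtCoh.HF X 0).map E.f) := fun y z h => by
  rw [EtSite.HF_map_apply, EtSite.HF_map_apply] at h
  haveI := hE.mono_f
  exact CategoryTheory.Abelian.Ext.postcomp_mk₀_injective_of_mono _ E.f h

variable {Z X' : Scheme.{u}} (i : Z ⟶ X) [IsClosedImmersion i] (b : X' ⟶ X) [IsProper b]
  (U₀ : X.Opens) (hU : (U₀ : Set X) = (Set.range i)ᶜ) (hiso : IsIso (b ∣_ U₀))

theorem isZero_pull_pull (K : EtCoh.Ab X) {W : Scheme.{u}} (g' : W ⟶ X')
    (hg : ∀ w, b (g' w) ∈ Set.range i)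
    (hK : ∀ (Ω : Type u) [Field Ω] [IsSepClosed Ω] (η : Spec (CommRingCat.of Ω) ⟶ X),
      η default ∈ Set.range i → IsZero ((EtCoh.stalk η).obj K)) :
    IsZero ((EtCoh.pull g').obj ((EtCoh.pull b).obj K)) := by
  refine (EtSite.isZero_iff_stalks _).2 fun Ω _ _ w => ?_
  refine IsZero.of_iso ?_ ((EtSite.stalkPullIso g' w).app _)
  refine IsZero.of_iso (hK Ω ((w ≫ g') ≫ b) ?_) ((EtSite.stalkPullIso b (w ≫ g')).app _)
  rw [Scheme.Hom.comp_apply, Scheme.Hom.comp_apply]
  exact hg _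

theorem isZero_stalk_of_pull {η : Type u} [Field η] [IsSepClosed η] (ξ : Spec (CommRingCat.of η) ⟶ X) (M : EtCoh.Ab X)
    (h : IsZero ((EtCoh.pull ξ).obj M)) : IsZero ((EtCoh.stalk ξ).obj M) := by
  haveI : (EtCoh.stalk (𝟙 (Spec (CommRingCat.of η)))).PreservesZeroMorphisms := inferInstance
  have h1 := ((EtCoh.stalk (𝟙 (Spec (CommRingCat.of η)))).map_isZero h).of_iso
    ((EtSite.stalkPullIso ξ (𝟙 _)).app M).symm
  rwa [Category.id_comp] at h1

include hU in
theorem mem_or_mem (x : X) : x ∈ Set.range i ∨ x ∈ U₀ := by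
  by_cases h : x ∈ Set.range i
  · exact Or.inl h
  · exact Or.inr (by rw [← SetLike.mem_coe, hU]; exact h)

include hU hiso in
theorem bijective_Hpull_kernel [PreservesFiniteLimits (EtCoh.pull b)] (K : EtCoh.Ab X) (hKt : EtCoh.IsTorsion K)
    (hK : ∀ (Ω : Type u) [Field Ω] [IsSepClosed Ω] (η : Spec (CommRingCat.of Ω) ⟶ X),
      η default ∈ Set.range i → IsZero ((EtCoh.stalk η).obj K)) (n : ℕ) :
    Function.Bijective (EtCore.Hpull b K n) := by
  haveI := hiso
  have hG : EtCoh.IsTorsion ((EtCoh.pull b).obj K) := L28.CurveCd.isTorsion_pull b hKt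
  have hstalk : ∀ (Ω : Type u) [Field Ω] [IsSepClosed Ω] (η : Spec (CommRingCat.of Ω) ⟶ X),
      IsIso ((EtCoh.stalk η).map ((EtCoh.pullPushAdj b).unit.app K)) ∧
        ∀ q : ℕ, 0 < q → IsZero ((EtCoh.stalk η).obj ((EtCoh.Rpush b q).obj ((EtCoh.pull b).obj K))) := by
    intro Ω _ _ η
    let g' := pullback.fst b η
    let p := pullback.snd b η
    haveI := EtSite.preservesFiniteLimits_pull g'
    have sq : IsPullback g' p b η := IsPullback.of_hasPullback b η
    rcases mem_or_mem i U₀ hU (η default) with hx | hx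
    · have hz : IsZero ((EtCoh.pull g').obj ((EtCoh.pull b).obj K)) := isZero_pull_pull i b K g' (fun w => by
        rw [IsoOver.app_eq (show g' ≫ b = p ≫ η from pullback.condition), Scheme.Hom.comp_apply,
          Subsingleton.elim (α := Spec (CommRingCat.of Ω)) (p w) default]
        exact hx) hK
      haveI := BigSets.isIso_baseChange0 sq ((EtCoh.pull b).obj K)
      have h0 : IsZero ((EtCoh.stalk η).obj ((EtCoh.push b).obj ((EtCoh.pull b).obj K))) :=
        isZero_stalk_of_pull η _ (((EtCoh.push p).map_isZero hz).of_iso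
          (asIso (EtCoh.baseChange0 b η p g' sq.w ((EtCoh.pull b).obj K))))
      refine ⟨⟨0, (hK Ω η hx).eq_of_src _ _, h0.eq_of_src _ _⟩, fun q hq => ?_⟩
      haveI := PBC.isIso_bcQ b η p g' sq q ((EtCoh.pull b).obj K) hG
      haveI : Injective ((EtCoh.pull g').obj ((EtCoh.pull b).obj K)) := hz.injective
      have hR : IsZero ((EtCoh.Rpush p q).obj ((EtCoh.pull g').obj ((EtCoh.pull b).obj K))) := by
        obtain ⟨k, rfl⟩ : ∃ k, q = k + 1 := ⟨q - 1, by omega⟩
        exact (EtCoh.push p).isZero_rightDerived_obj_injective_succ k _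
      exact isZero_stalk_of_pull η _ (hR.of_iso
        (asIso (EtBC.bcQ b η p g' sq.w q ((EtCoh.pull b).obj K))))
    · let η₀ : Spec (CommRingCat.of Ω) ⟶ (U₀ : Scheme.{u}) := IsOpenImmersion.lift U₀.ι η (by
        rintro _ ⟨t, rfl⟩
        rw [Subsingleton.elim (α := Spec (CommRingCat.of Ω)) t default, Scheme.Opens.range_ι]
        exact hx)
      have hη₀ : η₀ ≫ U₀.ι = η := IsOpenImmersion.lift_fac _ _ _
      have sq' : IsPullback (pullback.fst (b ∣_ U₀) η₀ ≫ (b ⁻¹ᵁ U₀).ι) (pullback.snd (b ∣_ U₀) η₀) b η :=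
        hη₀ ▸ (IsPullback.of_hasPullback (b ∣_ U₀) η₀).paste_horiz (isPullback_morphismRestrict b U₀).flip
      haveI : IsIso p := by
        have e : sq'.isoPullback.hom ≫ p = pullback.snd (b ∣_ U₀) η₀ := sq'.isoPullback_hom_snd
        haveI : IsIso (sq'.isoPullback.hom ≫ p) := by rw [e]; infer_instance
        exact IsIso.of_isIso_comp_left sq'.isoPullback.hom p
      refine ⟨?_, fun q hq => ?_⟩
      · let ξ : Spec (CommRingCat.of Ω) ⟶ X' := η₀ ≫ inv (b ∣_ U₀) ≫ (b ⁻¹ᵁ U₀).ι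
        have hξ : ξ ≫ b = η := by
          simp only [ξ, Category.assoc]
          rw [← morphismRestrict_ι, IsIso.inv_hom_id_assoc, hη₀]
        have hξU : ξ default ∈ b ⁻¹ᵁ U₀ := by
          show b (ξ default) ∈ U₀
          rw [IsoOver.app_eq hξ]
          exact hx
        have h := IsoOver.isIso_stalk_unit b U₀ hiso ξ hξU K
        rw [hξ] at h
        exact h
      · haveI := PBC.isIso_bcQ b η p g' sq q ((EtCoh.pull b).obj K) hG
        exact isZero_stalk_of_pull η _ ((Groth.Agent.S0071.result p _ q hq).of_iso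
          (asIso (EtBC.bcQ b η p g' sq.w q ((EtCoh.pull b).obj K))))
  haveI : Mono ((EtCoh.pullPushAdj b).unit.app K) := (EtSite.mono_iff_stalks _).2 fun Ω _ _ η =>
    haveI := (hstalk Ω η).1
    (ConcreteCategory.bijective_of_isIso ((EtCoh.stalk η).map ((EtCoh.pullPushAdj b).unit.app K))).1
  haveI : Epi ((EtCoh.pullPushAdj b).unit.app K) := (EtSite.epi_iff_stalks _).2 fun Ω _ _ η =>
    haveI := (hstalk Ω η).1
    (ConcreteCategory.bijective_of_isIso ((EtCoh.stalk η).map ((EtCoh.pullPushAdj b).unit.app K))).2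
  haveI : IsIso ((EtCoh.pullPushAdj b).unit.app K) := isIso_of_mono_of_epi _
  exact EtSite.bijective_Hpull b K
    (fun q hq => (EtSite.isZero_iff_stalks _).2 fun Ω _ _ η => (hstalk Ω η).2 q hq) n

theorem bijective_Hpull_of_supp {A B : Scheme.{u}} (j : A ⟶ B) [IsClosedImmersion j]
    [PreservesFiniteLimits (EtCoh.pull j)] (G : EtCoh.Ab B) (h : IsIso ((EtCoh.pullPushAdj j).unit.app G)) (n : ℕ) :
    Function.Bijective (EtCore.Hpull j G n) := by
  haveI := h
  exact EtSite.bijective_Hpull j G (fun q hq => Groth.Agent.S0071.result j _ q hq) n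

include hU hiso in
/-- The long exact sequence of an abstract blow-up square. -/
theorem exists_longExact [PreservesFiniteLimits (EtCoh.pull b)] [PreservesFiniteLimits (EtCoh.pull i)]
    [PreservesFiniteLimits (EtCoh.pull (pullback.fst b i))] [PreservesFiniteLimits (EtCoh.pull (pullback.snd b i))]
    (F : EtCoh.Ab X) (hF : EtCoh.IsTorsion F) :
    ∃ δ : ∀ p : ℕ, EtCoh.H (pullback b i)
        ((EtCoh.pull (pullback.fst b i ≫ b)).obj F) p →+ EtCoh.H X F (p + 1),
      Function.Injective (fun e : EtCoh.H X F 0 => (EtCore.Hpull b F 0 e, EtCore.Hpull i F 0 e)) ∧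
      ∀ p : ℕ,
        Function.Exact
          (fun e : EtCoh.H X F p => (EtCore.Hpull b F p e, EtCore.Hpull i F p e))
          (fun uv : EtCoh.H X' ((EtCoh.pull b).obj F) p × EtCoh.H Z ((EtCoh.pull i).obj F) p =>
            EtCore.HpullVia (pullback.fst b i) b (pullback.fst b i ≫ b) rfl F p uv.1 -
            EtCore.HpullVia (pullback.snd b i) i (pullback.fst b i ≫ b) pullback.condition.symm F p uv.2) ∧
        Function.Exact
          (fun uv : EtCoh.H X' ((EtCoh.pull b).obj F) p × EtCoh.H Z ((EtCoh.pull i).obj F) p =>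
            EtCore.HpullVia (pullback.fst b i) b (pullback.fst b i ≫ b) rfl F p uv.1 -
            EtCore.HpullVia (pullback.snd b i) i (pullback.fst b i ≫ b) pullback.condition.symm F p uv.2)
          (δ p) ∧
        Function.Exact (δ p) (fun e : EtCoh.H X F (p + 1) => (EtCore.Hpull b F (p + 1) e, EtCore.Hpull i F (p + 1) e)) := by
  let c := pullback.fst b i ≫ b
  haveI := EtSite.preservesFiniteLimits_pull c
  haveI : PreservesFiniteColimits (EtCoh.pull b) :=
    haveI := (EtCoh.pullPushAdj b).leftAdjoint_preservesColimits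
    inferInstance
  let u := (EtCoh.pullPushAdj i).unit.app F
  haveI := ClosedCover.epi_unit i F
  let E := ShortComplex.mk (kernel.ι u) u (kernel.condition u)
  have hE : E.ShortExact := { exact := ShortComplex.exact_of_f_is_kernel _ (kernelIsKernel _) }
  have hE' := hE.map_of_exact (EtCoh.pull b)
  have hKt : EtCoh.IsTorsion E.X₁ := isTorsion_of_mono E.f hF
  have hk := bijective_Hpull_kernel i b U₀ hU hiso E.X₁ hKt
    (fun Ω _ _ η hη => ClosedCover.isZero_stalk_kernel_unit i F η hη)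
  have hQ : IsIso ((EtCoh.pullPushAdj i).unit.app E.X₃) := by
    haveI := EtSite.isIso_counit i (EtSite.propA_of_isIntegralHom i) ((EtCoh.pull i).obj F)
    exact (IsIso.eq_inv_of_inv_hom_id ((EtCoh.pullPushAdj i).right_triangle_components ((EtCoh.pull i).obj F))) ▸
      inferInstance
  have hQ' : IsIso ((EtCoh.pullPushAdj (pullback.fst b i)).unit.app ((EtCoh.pull b).obj E.X₃)) := by
    refine (EtSite.isIso_unit_iff (pullback.fst b i) (EtSite.propA_of_isIntegralHom _) _).2 ?_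
    rintro x ⟨Ω, _, _, ξ, hξ, hne⟩
    by_contra hxr
    refine hne (((EtSite.isZero_stalk_push i ((EtCoh.pull i).obj F) (ξ ≫ b) ?_)).of_iso
      ((EtSite.stalkPullIso b ξ).app E.X₃))
    rw [Scheme.Hom.comp_apply, show ξ default = x from hξ.subset ⟨default, rfl⟩]
    rw [Scheme.Pullback.range_fst] at hxr
    exact hxr
  haveI hiu : IsIso ((EtCoh.pull i).map u) := by
    haveI := EtSite.isIso_counit i (EtSite.propA_of_isIntegralHom i) ((EtCoh.pull i).obj F)
    exact (IsIso.eq_inv_of_inv_hom_id (g := (EtCoh.pull i).map u)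
      ((EtCoh.pullPushAdj i).left_triangle_components F)) ▸ inferInstance
  let τ := (EtCore.pullComp (pullback.snd b i) i).symm ≪≫ EtCore.pullCongr (pullback.condition (f := b) (g := i)).symm
  haveI hcu : IsIso ((EtCoh.pull c).map u) :=
    (NatIso.isIso_map_iff τ u).1 (inferInstanceAs (IsIso ((EtCoh.pull (pullback.snd b i)).map ((EtCoh.pull i).map u))))
  let φ : ∀ n, EtCoh.H X E.X₃ n ≃+ EtCoh.H Z ((EtCoh.pull i).obj F) n := fun n =>
    (AddEquiv.ofBijective (EtCore.Hpull i E.X₃ n) (bijective_Hpull_of_supp i E.X₃ hQ n)).trans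
      ((EtCoh.HF Z n).mapIso (asIso ((EtCoh.pull i).map u))).symm.addCommGroupIsoToAddEquiv
  let ψ : ∀ n, EtCoh.H X' ((EtCoh.pull b).obj E.X₃) n ≃+ EtCoh.H (pullback b i) ((EtCoh.pull c).obj F) n := fun n =>
    (AddEquiv.ofBijective (EtCore.HpullVia (pullback.fst b i) b c rfl E.X₃ n) (by
      rw [show (EtCore.HpullVia (pullback.fst b i) b c rfl E.X₃ n : _ → _) =
        (EtCoh.HF (pullback b i) n).map (((EtCore.pullComp (pullback.fst b i) b).symm ≪≫ EtCore.pullCongr rfl).app E.X₃).hom ∘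
          EtCore.Hpull (pullback.fst b i) _ n from funext fun e => CompTransfer.HpullVia_eq_map _ _ _ _ _ n e]
      exact (ConcreteCategory.bijective_of_isIso _).comp (bijective_Hpull_of_supp _ _ hQ' n))).trans
      ((EtCoh.HF (pullback b i) n).mapIso (asIso ((EtCoh.pull c).map u))).symm.addCommGroupIsoToAddEquiv
  have hφ : ∀ n x, (EtCoh.HF Z n).map ((EtCoh.pull i).map u) (φ n x) = EtCore.Hpull i E.X₃ n x := fun n x =>
    (ConcreteCategory.comp_apply _ _ _).symm.trans
      (ConcreteCategory.congr_hom ((EtCoh.HF Z n).mapIso (asIso ((EtCoh.pull i).map u))).inv_hom_id _)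
  have hψ : ∀ n x, (EtCoh.HF (pullback b i) n).map ((EtCoh.pull c).map u) (ψ n x) =
      EtCore.HpullVia (pullback.fst b i) b c rfl E.X₃ n x := fun n x =>
    (ConcreteCategory.comp_apply _ _ _).symm.trans
      (ConcreteCategory.congr_hom ((EtCoh.HF (pullback b i) n).mapIso (asIso ((EtCoh.pull c).map u))).inv_hom_id _)
  have injZ : ∀ n, Function.Injective ((EtCoh.HF Z n).map ((EtCoh.pull i).map u)) := fun n =>
    (ConcreteCategory.bijective_of_isIso _).1
  have injE : ∀ n, Function.Injective ((EtCoh.HF (pullback b i) n).map ((EtCoh.pull c).map u)) := fun n =>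
    (ConcreteCategory.bijective_of_isIso _).1
  refine exists_delta (fun n => ((EtCoh.HF X n).map E.f).hom) (fun n => ((EtCoh.HF X n).map E.g).hom) (δH hE)
    (fun n => ((EtCoh.HF X' n).map (E.map (EtCoh.pull b)).f).hom)
    (fun n => ((EtCoh.HF X' n).map (E.map (EtCoh.pull b)).g).hom) (δH hE')
    (fun n => AddEquiv.ofBijective (EtCore.Hpull b E.X₁ n) (hk n))
    (fun n => EtCore.Hpull b F n) (fun n => EtCore.Hpull b E.X₃ n) φ ψ
    (fun n => EtCore.Hpull i F n)
    (fun n => EtCore.HpullVia (pullback.fst b i) b c rfl F n)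
    (fun n => EtCore.HpullVia (pullback.snd b i) i c pullback.condition.symm F n)
    (fun n y => ⟨exists_map_of_map_eq_zero hE n y, by rintro ⟨z, rfl⟩; exact map_comp_eq_zero n z⟩)
    (fun n y => ⟨exists_map_of_δH_eq_zero hE n y, by rintro ⟨z, rfl⟩; exact δH_map_g hE n z⟩)
    (fun n y => ⟨exists_δH hE n y, by rintro ⟨z, rfl⟩; exact map_δH_eq_zero hE n z⟩)
    (fun n y => ⟨exists_map_of_map_eq_zero hE' n y, by rintro ⟨z, rfl⟩; exact map_comp_eq_zero n z⟩)
    (fun n y => ⟨exists_map_of_δH_eq_zero hE' n y, by rintro ⟨z, rfl⟩; exact δH_map_g hE' n z⟩)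
    (fun n y => ⟨exists_δH hE' n y, by rintro ⟨z, rfl⟩; exact map_δH_eq_zero hE' n z⟩)
    (injective_map_zero hE')
    (fun n x => (Hpull_map b E.f n x).symm) (fun n x => (Hpull_map b E.g n x).symm)
    (fun n x => (Hpull_δH b hE n x).symm) (fun n x => injZ n ?_) (fun n x => injE n ?_) (fun n x => injE n ?_)
  · exact (hφ n _).trans (Hpull_map i u n x)
  · exact (hψ n _).trans (HpullVia_map _ _ _ _ u n x)
  · refine (hψ n _).trans ((HpullVia_Hpull _ _ _ _ E.X₃ n x).trans ?_)
    refine Eq.trans ?_ (HpullVia_map (pullback.snd b i) i c pullback.condition.symm u n (φ n x))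
    rw [hφ]
    exact (HpullVia_Hpull _ _ _ _ E.X₃ n x).symm

end Sheaves

end Groth.L27.ModSquare

end
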