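import Groth.Agent.L28.CurveCd.Main
import Groth.Agent.L05.CurveNorm.Scheme
import Groth.Agent.S0203
import Groth.Agent.S0642
import Mathlib.FieldTheory.SeparableClosure
import Mathlib.FieldTheory.PurelyInseparable.Basic

/-! # Curves over separably closed fields -/

set_option autoImplicit false
set_option linter.style.haveILetI false
set_option backward.isDefEq.respectTransparency.types false

universe u

open CategoryTheory CategoryTheory.Limits AlgebraicGeometry Opposite TopologicalSpace

noncomputable section

namespace Groth.L27.PBC

variable {k : Type u} [Field k] [IsSepClosed k] {Z : Scheme.{u}} (f : Z ⟶ Spec (CommRingCat.of k))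

/-- The algebraic closure of a separably closed field on spectra. -/
abbrev kbar (k : Type u) [Field k] : Spec (CommRingCat.of (AlgebraicClosure k)) ⟶ Spec (CommRingCat.of k) :=
  L05.CurveNorm.ext k (AlgebraicClosure k)

theorem kbar_props (k : Type u) [Field k] [IsSepClosed k] :
    IsIntegralHom (kbar k) ∧ UniversallyInjective (kbar k) ∧ Surjective (kbar k) := by
  haveI : IsPurelyInseparable k (AlgebraicClosure k) := inferInstance
  refine ⟨?_, L05.CurveNorm.universallyInjective_ext k _, L05.CurveNorm.surjective_ext k _⟩
  rw [IsIntegralHom.SpecMap_iff]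
  exact Algebra.IsIntegral.isIntegral (R := k)

/-- The base change to the algebraic closure. -/
abbrev toBase : pullback f (kbar k) ⟶ Z := pullback.fst f (kbar k)

theorem toBase_props : IsIntegralHom (toBase f) ∧ UniversallyInjective (toBase f) ∧ Surjective (toBase f) := by
  obtain ⟨h1, h2, h3⟩ := kbar_props k
  exact ⟨MorphismProperty.pullback_fst (P := @IsIntegralHom) _ _ h1,
    MorphismProperty.pullback_fst (P := @UniversallyInjective) _ _ h2,
    MorphismProperty.pullback_fst (P := @Surjective) _ _ h3⟩

theorem isHomeomorph_toBase : IsHomeomorph (toBase f).base := by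
  obtain ⟨_, _, _⟩ := toBase_props f
  exact isHomeomorph_iff_continuous_isClosedMap_bijective.mpr
    ⟨(toBase f).continuous, (toBase f).isClosedMap, (toBase f).injective, (toBase f).surjective⟩

theorem dim_bar (hdim : topologicalKrullDim Z ≤ 1) : topologicalKrullDim ↥(pullback f (kbar k)) ≤ 1 :=
  (IsHomeomorph.topologicalKrullDim_eq _ (isHomeomorph_toBase f)).trans_le hdim

variable [LocallyOfFiniteType f] [QuasiCompact f]

include f in
/-- Residue fields of curves over separably closed fields have cohomological dimension at most one. -/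
theorem subsingleton_residue (hdim : topologicalKrullDim Z ≤ 1) (x : Z)
    (F : EtCoh.Ab (Spec (Z.residueField x))) (hF : EtCoh.IsTorsion F) (q : ℕ) :
    Subsingleton (EtCoh.H (Spec (Z.residueField x)) F (q + 2)) := by
  by_cases hx : IsClosed ({x} : Set Z)
  · haveI := L28.CurveCd.isSepClosed_residueField f x hx
    exact L28.CurveCd.subsingleton_H_sepClosed (Z.residueField x) F (q + 1)
  obtain ⟨_, _, _⟩ := toBase_props f
  let π := toBase f
  obtain ⟨x', hx'⟩ := π.surjective x
  subst hx'
  have hx'nc : ¬ IsClosed ({x'} : Set ↥(pullback f (kbar k))) := fun h => hx (by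
    rw [← Set.image_singleton]
    exact π.isClosedMap _ h)
  obtain ⟨_, htr⟩ := L28.CurveCd.exists_algebra_trdeg_point (pullback.snd f (kbar k)) (dim_bar f hdim) x' hx'nc
  let r := Spec.map (π.residueFieldMap x')
  let j := Z.fromSpecResidueField (π x')
  let l : Spec ((pullback f (kbar k)).residueField x') ⟶ pullback π j :=
    pullback.lift ((pullback f (kbar k)).fromSpecResidueField x') r (Scheme.Hom.SpecMap_residueFieldMap_fromSpecResidueField π x').symm
  have hsub : Subsingleton ↥(pullback π j) := by
    haveI : UniversallyInjective (pullback.snd π j) := MorphismProperty.pullback_snd (P := @UniversallyInjective) _ _ inferInstance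
    exact (pullback.snd π j).injective.subsingleton
  haveI : IsPreimmersion l := by
    haveI : IsPreimmersion (pullback.fst π j) := MorphismProperty.pullback_fst (P := @IsPreimmersion) _ _ inferInstance
    haveI : IsPreimmersion (l ≫ pullback.fst π j) := by rw [pullback.lift_fst]; infer_instance
    exact IsPreimmersion.of_comp l (pullback.fst π j)
  haveI : IsClosedImmersion l := IsClosedImmersion.of_isPreimmersion l (by
    rw [show Set.range l = Set.univ from Set.eq_univ_of_forall fun t => ⟨default, Subsingleton.elim _ _⟩]
    exact isClosed_univ)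
  haveI : IsIntegralHom (pullback.snd π j) := MorphismProperty.pullback_snd (P := @IsIntegralHom) _ _ inferInstance
  haveI : UniversallyInjective (pullback.snd π j) := MorphismProperty.pullback_snd (P := @UniversallyInjective) _ _ inferInstance
  have hr : l ≫ pullback.snd π j = r := pullback.lift_snd _ _ _
  haveI : UniversallyInjective l := inferInstance
  haveI : IsIntegralHom r := hr ▸ MorphismProperty.comp_mem @IsIntegralHom l (pullback.snd π j) inferInstance inferInstance
  haveI : UniversallyInjective r := hr ▸ MorphismProperty.comp_mem @UniversallyInjective l (pullback.snd π j) inferInstance inferInstance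
  haveI : Surjective r := ⟨fun s => ⟨default, Subsingleton.elim (α := Spec (Z.residueField (π x'))) _ _⟩⟩
  haveI := EtSite.preservesFiniteLimits_pull r
  haveI := L28.CurveCd.subsingleton_torsion_etale (AlgebraicClosure k) _ htr
    (Spec ((pullback f (kbar k)).residueField x')) (𝟙 _) ((EtCoh.pull r).obj F) (L28.CurveCd.isTorsion_pull r hF) q
  exact (Groth.Agent.S0642.result r F (q + 2)).injective.subsingleton

include f in
theorem cohDimLEAt_residue (hdim : topologicalKrullDim Z ≤ 1) (x : Z) (ℓ : ℕ) (hℓ : 0 < ℓ) :
    Dix.CohDimLEAt (Spec (Z.residueField x)) ℓ 1 := fun F hF q hq => by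
  obtain ⟨q, rfl⟩ : ∃ p, q = p + 2 := ⟨q - 2, by omega⟩
  refine subsingleton_residue f hdim x F (fun U s y => ?_) q
  obtain ⟨V, g, hv, m, hm⟩ := hF U s y
  exact ⟨V, g, hv, isOfFinAddOrder_iff_nsmul_eq_zero.2 ⟨ℓ ^ m, pow_pos hℓ m, hm⟩⟩

include f in
/-- Torsion cohomology of a curve over a separably closed field vanishes above degree two. -/
theorem subsingleton_gt_two [IsSeparated f] (hdim : topologicalKrullDim Z ≤ 1)
    (F : EtCoh.Ab Z) (hF : EtCoh.IsTorsion F) (q : ℕ) : Subsingleton (EtCoh.H Z F (q + 3)) := by
  obtain ⟨_, _, _⟩ := toBase_props f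
  haveI := EtSite.preservesFiniteLimits_pull (toBase f)
  haveI := Groth.Agent.S0203.result (AlgebraicClosure k) _ (pullback.snd f (kbar k)) (dim_bar f hdim)
    ((EtCoh.pull (toBase f)).obj F) (L28.CurveCd.isTorsion_pull _ hF) (q + 3) (by omega)
  exact (Groth.Agent.S0642.result (toBase f) F (q + 3)).injective.subsingleton

end Groth.L27.PBC
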