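import Groth.Agent.L27.CompTransfer.Torsion
import Groth.Agent.L27.EtSite.Points
import Groth.Agent.L28.EtTor.Basic
import Groth.Agent.L27.AffineEfface.Effacement
import Groth.Prelude.Def_RDer
import Mathlib.Algebra.Homology.ShortComplex.Ab

/-! # The torsion part of an injective resolution of a torsion sheaf -/

set_option autoImplicit false
set_option linter.style.haveILetI false
set_option linter.unusedSectionVars false
set_option backward.isDefEq.respectTransparency.types false

universe u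

open CategoryTheory CategoryTheory.Limits AlgebraicGeometry Opposite

noncomputable section

namespace Groth.L27.PBC

open Groth.L27.CompTransfer

variable {X : Scheme.{u}}

/-- The torsion part of a morphism. -/
def torMap {F G : EtCoh.Ab X} (φ : F ⟶ G) : tor Set.univ F ⟶ tor Set.univ G :=
  ⟨{ app := fun U => AddCommGrpCat.ofHom (((φ.hom.app U).hom.comp (torSub Set.univ F U.unop).subtype).codRestrict
      (torSub Set.univ G U.unop) fun s x => by
        obtain ⟨V, g, m, hv, hm, h0⟩ := s.2 x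
        exact ⟨V, g, m, hv, hm, ((congrArg (m • ·) (NatTrans.naturality_apply φ.hom g.op s.1)).symm.trans
          (map_nsmul (φ.hom.app (op V)).hom m _).symm).trans ((congrArg (φ.hom.app (op V)) h0).trans (map_zero _))⟩)
     naturality := fun U V g => AddCommGrpCat.hom_ext (AddMonoidHom.ext fun s =>
       Subtype.ext (NatTrans.naturality_apply φ.hom g s.1)) }⟩

theorem torMap_ι {F G : EtCoh.Ab X} (φ : F ⟶ G) :
    torMap φ ≫ torι Set.univ G = torι Set.univ F ≫ φ := rfl

instance mono_torι (F : EtCoh.Ab X) : Mono (torι Set.univ F) := by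
  haveI : ∀ U, Mono (((sheafToPresheaf X.smallEtaleTopology AddCommGrpCat.{u + 1}).map (torι Set.univ F)).app U) :=
    fun U => (AddCommGrpCat.mono_iff_injective _).2 (torι_injective Set.univ F U.unop)
  haveI := NatTrans.mono_of_mono_app ((sheafToPresheaf X.smallEtaleTopology AddCommGrpCat.{u + 1}).map (torι Set.univ F))
  exact (sheafToPresheaf X.smallEtaleTopology AddCommGrpCat.{u + 1}).mono_of_mono_map this

/-- The torsion part as a functor. -/
def torFun (X : Scheme.{u}) : EtCoh.Ab X ⥤ EtCoh.Ab X where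
  obj F := tor Set.univ F
  map φ := torMap φ
  map_id F := (cancel_mono (torι Set.univ F)).1 (by rw [torMap_ι, Category.comp_id, Category.id_comp])
  map_comp φ ψ := (cancel_mono (torι Set.univ _)).1 (by
    rw [torMap_ι, Category.assoc, torMap_ι, ← Category.assoc (torMap φ), torMap_ι, Category.assoc])

instance : (torFun X).PreservesZeroMorphisms where
  map_zero F G := (cancel_mono (torι Set.univ G)).1 (by
    exact ((torMap_ι (0 : F ⟶ G)).trans comp_zero).trans zero_comp.symm)

/-- Factorisation of a morphism from a torsion sheaf. -/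
def torLift {F G : EtCoh.Ab X} (hF : EtCoh.IsTorsion F) (φ : F ⟶ G) : F ⟶ tor Set.univ G :=
  ⟨{ app := fun U => AddCommGrpCat.ofHom ((φ.hom.app U).hom.codRestrict (torSub Set.univ G U.unop) fun s x => by
      obtain ⟨V, g, hv, hs⟩ := hF U.unop s x
      obtain ⟨m, hm, h0⟩ := isOfFinAddOrder_iff_nsmul_eq_zero.1 hs
      exact ⟨V, g, m, hv, ⟨hm, fun p _ _ => Set.mem_univ p⟩,
        ((congrArg (m • ·) (NatTrans.naturality_apply φ.hom g.op s)).symm.trans
          (map_nsmul (φ.hom.app (op V)).hom m _).symm).trans ((congrArg (φ.hom.app (op V)) h0).trans (map_zero _))⟩)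
     naturality := fun U V g => AddCommGrpCat.hom_ext (AddMonoidHom.ext fun s =>
       Subtype.ext (NatTrans.naturality_apply φ.hom g s)) }⟩

theorem torLift_ι {F G : EtCoh.Ab X} (hF : EtCoh.IsTorsion F) (φ : F ⟶ G) :
    torLift hF φ ≫ torι Set.univ G = φ := rfl

section Stalk

variable {Ω : Type u} [Field Ω] [IsSepClosed Ω] (ξ : Spec (CommRingCat.of Ω) ⟶ X)

theorem injective_stalk_torι (F : EtCoh.Ab X) : Function.Injective ((EtCoh.stalk ξ).map (torι Set.univ F)) :=
  (EtSite.mono_iff_stalks _).1 inferInstance Ω ξ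

/-- Torsion elements of a stalk come from the torsion part. -/
theorem exists_stalk_torι (F : EtCoh.Ab X) (t : (EtCoh.stalk ξ).obj F) {m : ℕ} (hm : 0 < m) (h : m • t = 0) :
    ∃ t', (EtCoh.stalk ξ).map (torι Set.univ F) t' = t := by
  let Φ := Scheme.pointSmallEtale ξ
  obtain ⟨U, u, s, rfl⟩ := Φ.toPresheafFiber_jointly_surjective (P := F.obj) t
  let τ := (Φ.toPresheafFiber U u F.obj).hom
  have h' : τ (m • s) = τ 0 := (map_nsmul τ m s).trans (h.trans (map_zero τ).symm)
  obtain ⟨V, g, v, hv, hs⟩ := (Φ.toPresheafFiber_eq_iff' (P := F.obj) U u (m • s) 0).1 h'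
  have hs' : m • F.obj.map g.op s = 0 := (map_nsmul (F.obj.map g.op).hom m s).symm.trans (hs.trans (map_zero _))
  refine ⟨Φ.toPresheafFiber V v (tor Set.univ F).obj ⟨F.obj.map g.op s, fun x =>
    ⟨V, 𝟙 V, m, ⟨x, rfl⟩, ⟨hm, fun p _ _ => Set.mem_univ p⟩,
      (congrArg (m • ·) congr($(F.obj.map_id (op V)) _)).trans hs'⟩⟩, ?_⟩
  refine (Φ.toPresheafFiber_naturality_apply (torι Set.univ F).hom V v _).trans ?_
  show Φ.toPresheafFiber V v F.obj (F.obj.map g.op s) = _
  rw [Φ.toPresheafFiber_w_apply, hv]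

theorem exists_stalk_div (J : EtCoh.Ab X) [Injective J] (t : (EtCoh.stalk ξ).obj J) {m : ℕ} (hm : 0 < m) :
    ∃ t', m • t' = t := by
  let Φ := Scheme.pointSmallEtale ξ
  obtain ⟨U, u, s, rfl⟩ := Φ.toPresheafFiber_jointly_surjective (P := J.obj) t
  obtain ⟨s', rfl⟩ := exists_div_section J U s hm
  exact ⟨Φ.toPresheafFiber U u J.obj s', (map_nsmul (Φ.toPresheafFiber U u J.obj).hom m s').symm⟩

theorem stalk_torsion {F : EtCoh.Ab X} (hF : EtAcyc.IsLTorsion Set.univ F) (t : (EtCoh.stalk ξ).obj F) :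
    ∃ m : ℕ, 0 < m ∧ m • t = 0 := by
  obtain ⟨m, hm, h⟩ := L28.EtTor.isLTorsion_iff_stalks.1 hF Ω ξ t
  exact ⟨m, hm.1, h⟩

end Stalk

variable {F : EtCoh.Ab X} (hF : EtCoh.IsTorsion F) (I : InjectiveResolution F)

/-- The torsion part of an injective resolution. -/
abbrev torCx : CochainComplex (EtCoh.Ab X) ℕ := ((torFun X).mapHomologicalComplex _).obj I.cocomplex

/-- The augmentation. -/
def torAug : (CochainComplex.single₀ (EtCoh.Ab X)).obj F ⟶ torCx I :=
  (CochainComplex.fromSingle₀Equiv _ _).symm ⟨torLift hF (I.ι.f 0), (cancel_mono (torι Set.univ _)).1 (by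
    show (torLift hF (I.ι.f 0) ≫ torMap (I.cocomplex.d 0 1)) ≫ torι Set.univ _ = _
    rw [Category.assoc, torMap_ι, ← Category.assoc, torLift_ι]
    exact (RDer.res_ι_d I.cocomplex I.ι).trans zero_comp.symm)⟩

theorem torAug_f_zero : (torAug hF I).f 0 = torLift hF (I.ι.f 0) := by simp [torAug]

theorem exactAt_torCx (n : ℕ) (hF : EtCoh.IsTorsion F) : (torCx I).ExactAt (n + 1) := by
  rw [HomologicalComplex.exactAt_iff' _ n (n + 1) (n + 2) (by simp) (by simp only [CochainComplex.next]; rfl),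
    EtSite.exact_iff_stalks]
  intro Ω _ _ ξ
  let S := EtCoh.stalk ξ
  rw [ShortComplex.ab_exact_iff]
  intro x hx
  change (S.obj (tor Set.univ (I.cocomplex.X (n + 1))) : Type (u + 1)) at x
  change S.map (torMap (I.cocomplex.d (n + 1) (n + 2))) x = 0 at hx
  have hcomm : ∀ (i j : ℕ) (z : S.obj (tor Set.univ (I.cocomplex.X i))),
      S.map (torι Set.univ (I.cocomplex.X j)) (S.map (torMap (I.cocomplex.d i j)) z) =
        S.map (I.cocomplex.d i j) (S.map (torι Set.univ (I.cocomplex.X i)) z) := fun i j z => by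
    rw [← ConcreteCategory.comp_apply, ← ConcreteCategory.comp_apply, ← S.map_comp, ← S.map_comp, torMap_ι]
  obtain ⟨m, hm, hmx⟩ := stalk_torsion ξ (isLTorsion_tor Set.univ _) x
  let x' := S.map (torι Set.univ (I.cocomplex.X (n + 1))) x
  have hx' : S.map (I.cocomplex.d (n + 1) (n + 2)) x' = 0 := (hcomm _ _ x).symm.trans ((congrArg _ hx).trans (map_zero _))
  obtain ⟨y, hy⟩ := (ShortComplex.ab_exact_iff _).1
    ((EtSite.exact_iff_stalks _).1 (I.exact_succ n) Ω ξ) x' hx'
  change (S.obj (I.cocomplex.X n) : Type (u + 1)) at y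
  change S.map (I.cocomplex.d n (n + 1)) y = x' at hy
  have hmy : S.map (I.cocomplex.d n (n + 1)) (m • y) = 0 :=
    (map_nsmul (S.map (I.cocomplex.d n (n + 1))).hom m y).trans
      ((congrArg (m • ·) hy).trans ((map_nsmul (S.map (torι Set.univ _)).hom m x).symm.trans
        ((congrArg _ hmx).trans (map_zero _))))
  obtain ⟨w, k, hk, hkw, hw⟩ : ∃ (w : S.obj (I.cocomplex.X n)) (k : ℕ), 0 < k ∧ k • w = 0 ∧
      S.map (I.cocomplex.d n (n + 1)) w = x' := by
    cases n with
    | zero =>
      obtain ⟨f, hf⟩ := (ShortComplex.ab_exact_iff _).1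
        ((EtSite.exact_iff_stalks _).1 I.exact₀ Ω ξ) (m • y) hmy
      change (S.obj F : Type (u + 1)) at f
      change S.map (I.ι.f 0) f = m • y at hf
      obtain ⟨k, hk, hkf⟩ := stalk_torsion ξ (AffineEfface.isLTorsion_univ hF) f
      refine ⟨y, k * m, Nat.mul_pos hk hm, ?_, hy⟩
      rw [mul_comm, mul_nsmul, ← hf]
      exact (map_nsmul (S.map (I.ι.f 0)).hom k f).symm.trans ((congrArg _ hkf).trans (map_zero _))
    | succ j =>
      obtain ⟨z, hz⟩ := (ShortComplex.ab_exact_iff _).1
        ((EtSite.exact_iff_stalks _).1 (I.exact_succ j) Ω ξ) (m • y) hmy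
      change (S.obj (I.cocomplex.X j) : Type (u + 1)) at z
      change S.map (I.cocomplex.d j (j + 1)) z = m • y at hz
      obtain ⟨z', rfl⟩ := exists_stalk_div ξ (I.cocomplex.X j) z hm
      refine ⟨y - S.map (I.cocomplex.d j (j + 1)) z', m, hm, ?_, ?_⟩
      · rw [nsmul_sub, ← hz]
        exact sub_eq_zero.2 (map_nsmul (S.map (I.cocomplex.d j (j + 1))).hom m z')
      · rw [map_sub, hy]
        refine (sub_eq_self).2 ?_
        rw [← ConcreteCategory.comp_apply, ← S.map_comp, I.cocomplex.d_comp_d, S.map_zero]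
        rfl
  obtain ⟨w', hw'⟩ := exists_stalk_torι ξ _ w hk hkw
  refine ⟨w', injective_stalk_torι ξ _ ?_⟩
  show S.map (torι Set.univ _) (S.map (torMap (I.cocomplex.d n (n + 1))) w') = x'
  rw [hcomm, hw', hw]

include hF in
theorem exact₀_torCx :
    (ShortComplex.mk _ _ (RDer.res_ι_d (torCx I) (torAug hF I))).Exact ∧ Mono ((torAug hF I).f 0) := by
  suffices h : ∀ (a : F ⟶ (torCx I).X 0) (ha : a ≫ (torCx I).d 0 1 = 0), a = torLift hF (I.ι.f 0) →
      (ShortComplex.mk a _ ha).Exact ∧ Mono a from h _ _ (torAug_f_zero hF I)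
  rintro a ha rfl
  haveI : Mono (C := EtCoh.Ab X) (X := F) (Y := I.cocomplex.X 0) (I.ι.f 0) := RDer.res_mono I.cocomplex I.ι
  refine ⟨?_, mono_of_mono_fac (torLift_ι hF (I.ι.f 0))⟩
  rw [EtSite.exact_iff_stalks]
  intro Ω _ _ ξ
  let S := EtCoh.stalk ξ
  rw [ShortComplex.ab_exact_iff]
  intro x hx
  change (S.obj (tor Set.univ (I.cocomplex.X 0)) : Type (u + 1)) at x
  change S.map (torMap (I.cocomplex.d 0 1)) x = 0 at hx
  have hx' : S.map (I.cocomplex.d 0 1) (S.map (torι Set.univ (I.cocomplex.X 0)) x) = 0 := by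
    rw [← ConcreteCategory.comp_apply, ← S.map_comp, ← torMap_ι, S.map_comp, ConcreteCategory.comp_apply, hx, map_zero]
  obtain ⟨f, hf⟩ := (ShortComplex.ab_exact_iff _).1 ((EtSite.exact_iff_stalks _).1 I.exact₀ Ω ξ) _ hx'
  change (S.obj F : Type (u + 1)) at f
  change S.map (I.ι.f 0) f = _ at hf
  refine ⟨f, injective_stalk_torι ξ _ ?_⟩
  refine Eq.trans ?_ hf
  show S.map (torι Set.univ _) (S.map (torLift hF (I.ι.f 0)) f) = _
  rw [← ConcreteCategory.comp_apply, ← S.map_comp, torLift_ι]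
  rfl

/-- The torsion part of an injective resolution resolves the torsion sheaf. -/
theorem quasiIso_torAug : QuasiIso (torAug hF I) := by
  refine ⟨fun n => ?_⟩
  cases n with
  | succ n =>
    rw [quasiIsoAt_iff_exactAt _ _ (CochainComplex.exactAt_succ_single_obj _ _)]
    exact exactAt_torCx I n hF
  | zero =>
    rw [CochainComplex.quasiIsoAt₀_iff, ShortComplex.quasiIso_iff_of_zeros]
    rotate_left
    · first | rfl | (simp; rfl)
    · first | rfl | (simp; rfl)
    · first | rfl | (simp; rfl)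
    exact exact₀_torCx hF I

end Groth.L27.PBC
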