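import Groth.Agent.L27.PBC.StalkH
import Groth.Agent.L27.PBC.TorRes
import Groth.Agent.L27.AffineEfface.Effacement
import Groth.Agent.L27.ExtZero.LqfStalk
import Groth.Agent.L27.ExtZero.ShriekProper
import Groth.Agent.L27.ShriekBC.Main
import Groth.Agent.L28.CurveCd.Decomp
import Mathlib.AlgebraicGeometry.Morphisms.QuasiFinite
import Mathlib.AlgebraicGeometry.Artinian

/-! # Direct images with proper support and proper morphisms -/

set_option autoImplicit false
set_option linter.style.haveILetI false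
set_option linter.unusedSectionVars false
set_option backward.isDefEq.respectTransparency.types false

universe u

open CategoryTheory CategoryTheory.Limits AlgebraicGeometry Opposite

noncomputable section

namespace Groth.L27.PBC

/-- Torsion can be checked on one stalk over every point. -/
theorem isTorsion_of_some_stalks {X : Scheme.{u}} (F : EtCoh.Ab X)
    (h : ∀ x : X, ∃ (Ω : Type u) (_ : Field Ω) (_ : IsSepClosed Ω) (ξ : Spec (CommRingCat.of Ω) ⟶ X),
      ξ.base default = x ∧ ∀ t : (EtCoh.stalk ξ).obj F, IsOfFinAddOrder t) : EtCoh.IsTorsion F := by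
  intro U s x
  obtain ⟨Ω, _, _, ξ, hξ, ht⟩ := h (U.hom.base x)
  obtain ⟨y, hy⟩ := EtSite.exists_fiber ξ U x hξ.symm
  let Φ := Scheme.pointSmallEtale ξ
  let τ := (Φ.toPresheafFiber U y F.obj).hom
  obtain ⟨m, hm, h0⟩ := isOfFinAddOrder_iff_nsmul_eq_zero.1 (ht (τ s))
  have h' : τ (m • s) = τ 0 := (map_nsmul τ m s).trans (h0.trans (map_zero τ).symm)
  obtain ⟨W, c, w, hw, hs⟩ := (Φ.toPresheafFiber_eq_iff' (P := F.obj) U y (m • s) 0).1 h'
  refine ⟨W, c, ⟨w.left.base (default : Spec (CommRingCat.of Ω)), by rw [← hy, ← hw]; rfl⟩, ?_⟩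
  exact isOfFinAddOrder_iff_nsmul_eq_zero.2
    ⟨m, hm, ((map_nsmul (F.obj.map c.op).hom m s).symm).trans (hs.trans (map_zero _))⟩

/-- Coproducts of torsion groups are torsion. -/
theorem isOfFinAddOrder_sigma {ι : Type*} (M : ι → AddCommGrpCat.{u + 1}) [HasCoproduct M]
    (h : ∀ (i : ι) (x : M i), IsOfFinAddOrder x) (t : (∐ M : AddCommGrpCat.{u + 1})) : IsOfFinAddOrder t := by
  let S : AddSubgroup (∐ M : AddCommGrpCat.{u + 1}) :=
    { carrier := {x | IsOfFinAddOrder x}
      zero_mem' := IsOfFinAddOrder.zero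
      add_mem' := fun ha hb => ha.add hb
      neg_mem' := fun ha => ha.neg }
  have h0 : AddCommGrpCat.ofHom (QuotientAddGroup.mk' S) = 0 := colimit.hom_ext fun ⟨i⟩ => by
    ext x
    exact (QuotientAddGroup.eq_zero_iff _).2 (show IsOfFinAddOrder ((Sigma.ι M i).hom x) from AddMonoidHom.isOfFinAddOrder _ (h i x))
  exact (QuotientAddGroup.eq_zero_iff (N := S) t).1 congr($h0 t)

section Shriek

variable {X Y : Scheme.{u}} (f : X ⟶ Y) [IsSeparated f] [LocallyOfFiniteType f]

/-- Stalks of a direct image with proper support vanish outside the image. -/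
theorem isZero_stalk_shriek (F : EtCoh.Ab X) (Ω : Type u) [Field Ω] [IsSepClosed Ω]
    (ξ : Spec (CommRingCat.of Ω) ⟶ Y) (hξ : ∀ x : X, f x ≠ ξ default) :
    IsZero ((EtCoh.stalk ξ).obj ((EtShriek.lowerShriek f).obj F)) := by
  haveI := Groth.L27.SepClosedPoint.isSepClosed_residueField Ω
  haveI : IsIso (EtSite.closedPt Ω) := by
    haveI : IsIso (CommRingCat.ofHom (IsLocalRing.residue Ω)) :=
      (ConcreteCategory.isIso_iff_bijective _).2 ⟨(IsLocalRing.residue Ω).injective, IsLocalRing.residue_surjective⟩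
    exact inferInstanceAs (IsIso (Spec.map (CommRingCat.ofHom (IsLocalRing.residue Ω))))
  have hE : ∀ z : ↥(pullback f ξ), False := fun z =>
    hξ (pullback.fst f ξ z) ((Scheme.Hom.comp_apply _ _ z).symm.trans
      ((congr($(pullback.condition (f := f) (g := ξ)) z)).trans ((Scheme.Hom.comp_apply _ _ z).trans
        (congrArg ξ (Subsingleton.elim _ _)))))
  have hz : IsZero ((EtShriek.lowerShriek (pullback.snd f ξ)).obj ((EtCoh.pull (pullback.fst f ξ)).obj F)) := by
    haveI := Groth.L27.Supp.mono_lowerShriekToPush (pullback.snd f ξ) ((EtCoh.pull (pullback.fst f ξ)).obj F)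
    exact IsZero.of_mono (EtShriek.lowerShriekToPush (pullback.snd f ξ) _)
      ((EtCoh.push (pullback.snd f ξ)).map_isZero (EtSite.isZero_of_stalks _ fun z => (hE z).elim))
  have hp : IsZero ((EtCoh.pull ξ).obj ((EtShriek.lowerShriek f).obj F)) :=
    hz.of_iso (ShriekBC.bcIso (IsPullback.of_hasPullback f ξ) F)
  exact ((EtCoh.stalk (EtSite.closedPt Ω)).map_isZero hp).of_iso
    ((stalkIsoComp ξ (EtSite.closedPt Ω)).app _ ≪≫ (EtSite.stalkPullIso ξ (EtSite.closedPt Ω)).symm.app _)

variable [LocallyQuasiFinite f]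

/-- Direct images with proper support of torsion sheaves are torsion. -/
theorem isTorsion_lowerShriek {F : EtCoh.Ab X} (hF : EtCoh.IsTorsion F) :
    EtCoh.IsTorsion ((EtShriek.lowerShriek f).obj F) := by
  refine isTorsion_of_some_stalks _ fun y => ?_
  obtain ⟨K, _, _, θ, hθ⟩ := Lqf.exists_algClosed_point y
  refine ⟨K, inferInstance, inferInstance, θ, hθ, fun t => ?_⟩
  let e := (Lqf.stalkShriekIso f θ).app F
  have h1 : IsOfFinAddOrder (e.hom t) := isOfFinAddOrder_sigma _ (fun v x => by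
    obtain ⟨m, hm, h0⟩ := stalk_torsion v.1 (AffineEfface.isLTorsion_univ hF) x
    exact isOfFinAddOrder_iff_nsmul_eq_zero.2 ⟨m, hm, h0⟩) (e.hom t)
  obtain ⟨m, hm, h0⟩ := isOfFinAddOrder_iff_nsmul_eq_zero.1 h1
  exact isOfFinAddOrder_iff_nsmul_eq_zero.2 ⟨m, hm, (ConcreteCategory.bijective_of_isIso e.hom).1
    ((map_nsmul e.hom.hom m t).trans (h0.trans (map_zero e.hom.hom).symm))⟩

end Shriek

/-- Higher direct images along proper `h` of `f_!` vanish when `f ≫ h` is locally quasi-finite. -/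
theorem isZero_Rpush_shriek {X Y Z : Scheme.{u}} (f : X ⟶ Y) (h : Y ⟶ Z) [IsSeparated f]
    [LocallyOfFiniteType f] [LocallyQuasiFinite f] [IsProper h] [LocallyQuasiFinite (f ≫ h)]
    (F : EtCoh.Ab X) (hF : EtCoh.IsTorsion F) (q : ℕ) (hq : 0 < q) :
    IsZero ((EtCoh.Rpush h q).obj ((EtShriek.lowerShriek f).obj F)) := by
  obtain ⟨q, rfl⟩ : ∃ k, q = k + 1 := ⟨q - 1, by omega⟩
  refine EtSite.isZero_of_stalks _ fun z => ?_
  obtain ⟨K, _, _, ξ, hξ⟩ := Lqf.exists_algClosed_point z
  refine ⟨K, inferInstance, inferInstance, ξ, hξ, ?_⟩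
  obtain ⟨e⟩ := nonempty_stalk_iso K h ξ _ (isTorsion_lowerShriek f hF) (q + 1)
  refine IsZero.of_iso ?_ e
  let G := (EtCoh.pull (pullback.fst h ξ)).obj ((EtShriek.lowerShriek f).obj F)
  let sq := (IsPullback.of_hasPullback f (pullback.fst h ξ)).paste_vert (IsPullback.of_hasPullback h ξ)
  let f' := pullback.snd f (pullback.fst h ξ)
  let a := pullback.snd h ξ
  let eG := ShriekBC.bcIso (IsPullback.of_hasPullback f (pullback.fst h ξ)) F
  haveI : LocallyQuasiFinite (f' ≫ a) :=
    MorphismProperty.of_isPullback (P := @LocallyQuasiFinite) sq ‹LocallyQuasiFinite (f ≫ h)›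
  haveI : IsLocallyArtinian (pullback f (pullback.fst h ξ)) := IsLocallyArtinian.of_locallyQuasiFinite (f' ≫ a)
  haveI : DiscreteTopology ↥(pullback f (pullback.fst h ξ)) := inferInstance
  haveI : JacobsonSpace ↥(pullback h ξ) := LocallyOfFiniteType.jacobsonSpace a
  have hs : ∀ y ∈ EtPBC.supp G, IsClosed ({y} : Set ↥(pullback h ξ)) := by
    rintro y ⟨Ω, _, _, η, hη, hne⟩
    by_contra hc
    refine hne ((isZero_stalk_shriek f' ((EtCoh.pull (pullback.fst f (pullback.fst h ξ))).obj F) Ω η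
      fun x hx => hc ?_).of_iso ((EtCoh.stalk η).mapIso eG))
    have hy : η default = y := hη.subset ⟨default, rfl⟩
    have := Scheme.Hom.closePoints_subset_preimage_closedPoints f' (show x ∈ closedPoints _ from isClosed_discrete _)
    rw [← hy, ← hx]
    exact this
  haveI := L28.CurveCd.subsingleton_H_of_supp_closed a G hs q
  exact AddCommGrpCat.isZero_of_subsingleton _

end Groth.L27.PBC
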