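import Groth.Agent.L27.PBC.StalkH
import Groth.Agent.L27.PBC.ShriekProperPush
import Groth.Agent.L27.PBC.CurveField
import Groth.Agent.L27.ExtZero.ShriekComp
import Groth.Agent.L27.ExtZero.Recollement
import Groth.Agent.L27.Colim.RpushTorsion
import Groth.Agent.L27.AffineEfface.Effacement
import Groth.Agent.L27.EtSite.HofPush
import Groth.Agent.L00.RDerLES
import Groth.Agent.L27.EtSite.PropB
import Groth.Agent.L16.ProjSpace.Dim
import Groth.Agent.L16.ProjSpace.BaseChange
import Groth.Agent.L22.SchemeDim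
import Groth.Agent.L22.AffineDim
import Groth.Agent.L21.CurvFib.DimExt

/-! # The cohomological dimension of proper schemes over separably closed fields -/

set_option autoImplicit false
set_option linter.style.haveILetI false
set_option linter.unusedSectionVars false
set_option backward.isDefEq.respectTransparency.types false

universe u

open CategoryTheory CategoryTheory.Limits AlgebraicGeometry Opposite

noncomputable section

namespace Groth.L27.PBC

/-- The Leray bound for torsion cohomology: cohomological dimensions add. -/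
theorem subsingleton_H_of_Rpush {X Y : Scheme.{u}} (p : X ⟶ Y) [IsProper p] [EtCoh.BCCont p] [CompactSpace X]
    [QuasiSeparatedSpace X] (α : ℕ)
    (hY : ∀ F : EtCoh.Ab Y, EtCoh.IsTorsion F → ∀ q, α < q → Subsingleton (EtCoh.H Y F q)) :
    ∀ (β : ℕ) (G : EtCoh.Ab X), EtCoh.IsTorsion G → (∀ b, β < b → IsZero ((EtCoh.Rpush p b).obj G)) →
      ∀ q, α + β < q → Subsingleton (EtCoh.H X G q) := by
  haveI := EtSite.preservesFiniteLimits_pull p
  intro β
  induction β with
  | zero =>
    intro G hG hR q hq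
    haveI := hY _ (Colim.isTorsion_push p hG) q hq
    exact (EtSite.bijective_HofPush p G hR q).2.subsingleton
  | succ β ih =>
    intro G hG hR q hq
    obtain ⟨G₁, v, hv, hG₁, hH, hR₁⟩ :=
      CompTransfer.exists_torsion_effacement Set.univ G (AffineEfface.isLTorsion_univ hG)
    haveI := hv
    let E : ShortComplex (EtCoh.Ab X) := ShortComplex.mk v (cokernel.π v) (cokernel.condition v)
    have hE : E.ShortExact :=
      { exact := ShortComplex.exact_of_g_is_cokernel _ (cokernelIsCokernel v) }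
    have hG₂ : EtCoh.IsTorsion E.X₃ :=
      AffineEfface.isTorsion_of_isLTorsion (CompTransfer.isLTorsion_of_epi (cokernel.π v) hG₁)
    haveI : PreservesFiniteLimits (EtCoh.push p) := by
      haveI : PreservesLimitsOfSize.{0, 0} (EtCoh.push p) := (EtCoh.pullPushAdj p).rightAdjoint_preservesLimits
      exact PreservesLimitsOfSize.preservesFiniteLimits _
    have hR₂ : ∀ b, β < b → IsZero ((EtCoh.Rpush p b).obj E.X₃) := by
      intro b hb
      haveI := HasDerivedCategory.standard (EtCoh.Ab X)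
      haveI := L00.RDerLES.epi_map_g (S := EtCoh.push p) hE b (hR (b + 1) (by omega))
      exact IsZero.of_epi ((EtCoh.Rpush p b).map E.g) (hR₁ p b (by omega))
    obtain ⟨n, rfl⟩ : ∃ n, q = n + 1 := ⟨q - 1, by omega⟩
    haveI := ih E.X₃ hG₂ hR₂ n (by omega)
    haveI : Subsingleton (EtCoh.H X E.X₂ (n + 1)) := hH n
    refine ⟨fun a b => ?_⟩
    have hz : ∀ x : EtCoh.H X G (n + 1), x = 0 := fun x => by
      obtain ⟨y, rfl⟩ := LimCoh.exists_δH hE n x (@Subsingleton.elim (EtCoh.H X E.X₂ (n + 1)) this _ _)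
      rw [Subsingleton.elim y 0, map_zero]
    rw [hz a, hz b]

open CohB1 in
/-- Higher direct images along a relative projective line vanish above degree two. -/
theorem isZero_Rpush_projLine (S : Scheme.{u}) (G : EtCoh.Ab (ProjSpaceOver 1 S)) (hG : EtCoh.IsTorsion G)
    (b : ℕ) (hb : 2 < b) : IsZero ((EtCoh.Rpush (ProjSpaceOver.toBase 1 S) b).obj G) := by
  haveI := L16.ProjSpace.isProper_toBase (n := 1) (S := S)
  refine (EtSite.isZero_iff_stalks _).2 fun Ω _ _ ξ => ?_
  obtain ⟨e⟩ := nonempty_stalk_iso Ω (ProjSpaceOver.toBase 1 S) ξ G hG b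
  obtain ⟨q, rfl⟩ : ∃ q, b = q + 3 := ⟨b - 3, by omega⟩
  refine IsZero.of_iso ?_ e
  have hdim : topologicalKrullDim ↥(pullback (ProjSpaceOver.toBase 1 S) ξ) ≤ 1 := by
    have e := (L16.ProjSpace.isPullback_overMap 1 ξ).isoPullback
    refine (IsHomeomorph.topologicalKrullDim_eq _
      ((L16.ProjSpace.isoOver 1 Ω ≪≫ e).hom.homeomorph.isHomeomorph)).ge.trans ?_
    rw [L16.ProjSpace.topologicalKrullDim_eq_of_field]
    exact le_of_eq Nat.cast_one
  haveI : IsProper (pullback.snd (ProjSpaceOver.toBase 1 S) ξ) :=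
    MorphismProperty.pullback_snd (P := @IsProper) _ _ inferInstance
  haveI := subsingleton_gt_two (pullback.snd (ProjSpaceOver.toBase 1 S) ξ) hdim
    ((EtCoh.pull (pullback.fst (ProjSpaceOver.toBase 1 S) ξ)).obj G) (L28.CurveCd.isTorsion_pull _ hG) q
  exact AddCommGrpCat.isZero_of_subsingleton _

open CohB1 in
/-- A proper model of affine space with its cohomological dimension bound. -/
theorem exists_tower (k : Type u) [Field k] [IsSepClosed k] : ∀ d : ℕ,
    ∃ (P : Scheme.{u}) (π : P ⟶ Spec (CommRingCat.of k))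
      (e : Spec (CommRingCat.of (MvPolynomial (Fin d) k)) ⟶ P),
      IsProper π ∧ IsOpenImmersion e ∧ e ≫ π = Spec.map (CommRingCat.ofHom MvPolynomial.C) ∧
        ∀ F : EtCoh.Ab P, EtCoh.IsTorsion F → ∀ q, 2 * d < q → Subsingleton (EtCoh.H P F q) := by
  intro d
  induction d with
  | zero =>
    haveI : IsIso (Spec.map (CommRingCat.ofHom (MvPolynomial.C : k →+* MvPolynomial (Fin 0) k))) :=
      inferInstanceAs (IsIso (Scheme.Spec.map ((MvPolynomial.isEmptyRingEquiv k (Fin 0)).symm.toCommRingCatIso).hom.op))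
    refine ⟨_, 𝟙 _, Spec.map (CommRingCat.ofHom MvPolynomial.C), inferInstance, inferInstance,
      Category.comp_id _, fun F _ q hq => ?_⟩
    obtain ⟨q, rfl⟩ : ∃ i, q = i + 1 := ⟨q - 1, by omega⟩
    exact L28.CurveCd.subsingleton_H_sepClosed k F q
  | succ d ih =>
    obtain ⟨P, π, e, _, _, he, hcd⟩ := ih
    let R := MvPolynomial (Fin d) k
    let σ := L16.ProjSpace.ChartVar 1 (0 : Fin 2)
    obtain ⟨eσ⟩ : Nonempty (Fin (d + 1) ≃ σ ⊕ Fin d) := ⟨(Finite.equivFinOfCardEq (by
      rw [Nat.card_sum, L16.ProjSpace.natCard_chartVar, Nat.card_fin, add_comm])).symm⟩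
    let θ : MvPolynomial (Fin (d + 1)) k ≃ₐ[k] MvPolynomial σ R :=
      (MvPolynomial.renameEquiv k eσ).trans (MvPolynomial.sumAlgEquiv k σ (Fin d))
    haveI : IsIso (Spec.map (CommRingCat.ofHom θ.toRingEquiv.toRingHom)) :=
      inferInstanceAs (IsIso (Scheme.Spec.map θ.toRingEquiv.toCommRingCatIso.hom.op))
    haveI := L16.ProjSpace.isProper_toBase (n := 1) (S := P)
    haveI : IsOpenImmersion (L16.ProjSpace.overMap 1 e) :=
      MorphismProperty.of_isPullback (P := @IsOpenImmersion) (L16.ProjSpace.isPullback_overMap 1 e).flip inferInstance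
    let a := inv (Spec.map (CommRingCat.ofHom θ.toRingEquiv.toRingHom))
    refine ⟨ProjSpaceOver 1 P, ProjSpaceOver.toBase 1 P ≫ π,
      inv (Spec.map (CommRingCat.ofHom θ.toRingEquiv.toRingHom)) ≫ L16.ProjSpace.chart 1 R 0 ≫
        (L16.ProjSpace.isoOver 1 R).hom ≫ L16.ProjSpace.overMap 1 e, inferInstance, inferInstance, ?_, ?_⟩
    · simp only [Category.assoc]
      rw [IsIso.inv_comp_eq]
      rw [← Category.assoc (L16.ProjSpace.overMap 1 e), (L16.ProjSpace.isPullback_overMap 1 e).w,
        Category.assoc, he, L16.ProjSpace.isoOver_hom_toBase_assoc, L16.ProjSpace.chart_toSpec_assoc,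
        ← Spec.map_comp, ← Spec.map_comp]
      exact congrArg Spec.map (CommRingCat.hom_ext (RingHom.ext fun r => (θ.commutes r).symm))
    · intro F hF q hq
      haveI : CompactSpace P := QuasiCompact.compactSpace_of_compactSpace π
      haveI : CompactSpace ↥(ProjSpaceOver 1 P) :=
        QuasiCompact.compactSpace_of_compactSpace (ProjSpaceOver.toBase 1 P ≫ π)
      haveI : QuasiSeparatedSpace ↥(ProjSpaceOver 1 P) :=
        quasiSeparatedSpace_of_quasiSeparated (ProjSpaceOver.toBase 1 P ≫ π)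
      exact subsingleton_H_of_Rpush (ProjSpaceOver.toBase 1 P) (2 * d) hcd 2 F hF
        (fun b hb => isZero_Rpush_projLine P F hF b hb) q (by omega)

variable {k : Type u} [Field k] [IsSepClosed k]

/-- The cohomology of an affine open extended by zero to a proper scheme. -/
theorem subsingleton_H_shriek_affine {Z : Scheme.{u}} (f : Z ⟶ Spec (CommRingCat.of k)) [IsProper f]
    {U : Scheme.{u}} [IsAffine U] [Nonempty U] (v : U ⟶ Z) [IsSeparated v] [LocallyOfFiniteType v]
    [LocallyQuasiFinite v] (n : ℕ) (hdim : topologicalKrullDim U ≤ n)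
    (G : EtCoh.Ab U) (hG : EtCoh.IsTorsion G) (q : ℕ) (hq : 2 * n < q) :
    Subsingleton (EtCoh.H Z ((EtShriek.lowerShriek v).obj G) q) := by
  obtain ⟨φ, hφ⟩ := Spec.map_surjective (U.isoSpec.inv ≫ v ≫ f)
  algebraize [φ.hom]
  haveI : Algebra.FiniteType k Γ(U, ⊤) :=
    (HasRingHomProperty.Spec_iff (P := @LocallyOfFiniteType) (φ := φ)).mp (hφ ▸ inferInstance)
  haveI : Nonempty (⊤ : U.Opens) := ⟨⟨Classical.arbitrary _, trivial⟩⟩
  haveI : Nontrivial Γ(U, ⊤) := inferInstance
  obtain ⟨d, g, hg, hgint⟩ := exists_integral_inj_algHom_of_fg k Γ(U, ⊤)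
  have hd : d ≤ n := by
    have h : topologicalKrullDim U ≤ n := hdim
    rw [IsHomeomorph.topologicalKrullDim_eq _ U.isoSpec.hom.homeomorph.isHomeomorph] at h
    change topologicalKrullDim (PrimeSpectrum Γ(U, ⊤)) ≤ _ at h
    rw [PrimeSpectrum.topologicalKrullDim_eq_ringKrullDim] at h
    letI := g.toRingHom.toAlgebra
    haveI : Algebra.IsIntegral (MvPolynomial (Fin d) k) Γ(U, ⊤) := ⟨hgint⟩
    rw [L22.AffineDim.ringKrullDim_eq_of_isIntegral (R := MvPolynomial (Fin d) k) (S := Γ(U, ⊤)) hg,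
      MvPolynomial.ringKrullDim_of_isNoetherianRing, ringKrullDim_eq_zero_of_field, zero_add, Nat.card_fin] at h
    exact_mod_cast h
  obtain ⟨P, π, e, _, _, he, hcd⟩ := exists_tower k d
  let ν := U.isoSpec.hom ≫ Spec.map (CommRingCat.ofHom g.toRingHom)
  haveI : IsFinite (Spec.map (CommRingCat.ofHom g.toRingHom)) := (IsFinite.SpecMap_iff _).mpr
    (RingHom.finite_iff_isIntegral_and_finiteType.mpr ⟨hgint, RingHom.FiniteType.of_comp_finiteType
      (f := (MvPolynomial.C : k →+* MvPolynomial (Fin d) k)) (by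
        show (g.toRingHom.comp MvPolynomial.C).FiniteType
        rw [show g.toRingHom.comp MvPolynomial.C = algebraMap k Γ(U, ⊤) from g.comp_algebraMap]
        exact RingHom.finiteType_algebraMap.mpr inferInstance)⟩)
  have hν : v ≫ f = (ν ≫ e) ≫ π := by
    rw [Category.assoc, he, Category.assoc, ← Spec.map_comp, ← Iso.inv_comp_eq, ← hφ]
    exact congrArg Spec.map (CommRingCat.hom_ext (g.comp_algebraMap).symm)
  let j' : U ⟶ pullback f π := pullback.lift v (ν ≫ e) hν
  have hj : j' ≫ pullback.fst f π = v := pullback.lift_fst _ _ _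
  have hs : j' ≫ pullback.snd f π = ν ≫ e := pullback.lift_snd _ _ _
  haveI : IsProper (pullback.fst f π) := MorphismProperty.pullback_fst (P := @IsProper) _ _ inferInstance
  haveI : IsProper (pullback.snd f π) := MorphismProperty.pullback_snd (P := @IsProper) _ _ inferInstance
  haveI : LocallyOfFiniteType (j' ≫ pullback.fst f π) := hj ▸ inferInstance
  haveI : LocallyQuasiFinite (j' ≫ pullback.fst f π) := hj ▸ inferInstance
  haveI : IsSeparated (j' ≫ pullback.fst f π) := hj ▸ inferInstance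
  haveI : LocallyOfFiniteType j' := locallyOfFiniteType_of_comp j' (pullback.fst f π)
  haveI : LocallyQuasiFinite j' := LocallyQuasiFinite.of_comp j' (pullback.fst f π)
  haveI : IsSeparated j' := IsSeparated.of_comp j' (pullback.fst f π)
  haveI : LocallyOfFiniteType (j' ≫ pullback.snd f π) := hs ▸ inferInstance
  haveI : LocallyQuasiFinite (j' ≫ pullback.snd f π) := hs ▸ inferInstance
  haveI : IsSeparated (j' ≫ pullback.snd f π) := hs ▸ inferInstance
  haveI := EtSite.preservesFiniteLimits_pull (pullback.fst f π)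
  haveI := EtSite.preservesFiniteLimits_pull (pullback.snd f π)
  let M := (EtShriek.lowerShriek j').obj G
  have hM : EtCoh.IsTorsion M := isTorsion_lowerShriek j' hG
  haveI := hcd _ (Colim.isTorsion_push (pullback.snd f π) hM) q (by omega)
  haveI : Subsingleton (EtCoh.H (pullback f π) M q) :=
    (EtSite.bijective_HofPush (pullback.snd f π) M
      (fun r hr => isZero_Rpush_shriek j' (pullback.snd f π) G hG r hr) q).2.subsingleton
  haveI : Subsingleton (EtCoh.H Z ((EtCoh.push (pullback.fst f π)).obj M) q) :=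
    (EtSite.bijective_HofPush (pullback.fst f π) M
      (fun r hr => isZero_Rpush_shriek j' (pullback.fst f π) G hG r hr) q).1.subsingleton
  let eH := (EtCoh.HF Z q).mapIso ((Supp.shriekCongr hj.symm).app G ≪≫
    (Supp.compIso j' (pullback.fst f π)).app G ≪≫ (Supp.shriekPushIso (pullback.fst f π)).app _)
  exact @Function.Injective.subsingleton _ _ eH.hom (ConcreteCategory.bijective_of_isIso eH.hom).1
    ‹Subsingleton (EtCoh.H Z ((EtCoh.push (pullback.fst f π)).obj M) q)›

/-- Compactly supported torsion cohomology of a scheme of dimension at most `n` over a separably closed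
field vanishes above degree `2n`. -/
theorem subsingleton_H_shriek {P : Scheme.{u}} (f : P ⟶ Spec (CommRingCat.of k)) [IsProper f] {X : Scheme.{u}}
    (j : X ⟶ P) [IsSeparated j] [LocallyOfFiniteType j] [LocallyQuasiFinite j] [QuasiCompact j] (n : ℕ)
    (hdim : topologicalKrullDim X ≤ n) (F : EtCoh.Ab X) (hF : EtCoh.IsTorsion F) (q : ℕ) (hq : 2 * n < q) :
    Subsingleton (EtCoh.H P ((EtShriek.lowerShriek j).obj F) q) := by
  haveI : IsLocallyNoetherian X := LocallyOfFiniteType.isLocallyNoetherian (j ≫ f)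
  haveI : CompactSpace X := QuasiCompact.compactSpace_of_compactSpace (j ≫ f)
  haveI : IsNoetherian X := ⟨⟩
  suffices key : ∀ (C : TopologicalSpace.Closeds X) (W : Scheme.{u}) (i : W ⟶ X) [IsClosedImmersion i],
      Set.range i ⊆ C → ∀ (G : EtCoh.Ab W), EtCoh.IsTorsion G → ∀ q, 2 * n < q →
        Subsingleton (EtCoh.H P ((EtShriek.lowerShriek (i ≫ j)).obj G) q) from
    L28.CurveCd.subsingleton_H_of_iso ((Supp.shriekCongr (Category.id_comp j)).app F) q
      (key ⊤ X (𝟙 X) (Set.subset_univ _) F hF q hq)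
  intro C
  induction C using WellFoundedLT.induction with
  | _ C ih =>
  intro W i _ hC G hG q hq
  obtain ⟨q, rfl⟩ : ∃ i, q = i + 1 := ⟨q - 1, by omega⟩
  haveI := Lqf.isLeftAdjoint_lowerShriek (i ≫ j)
  haveI := Supp.preservesFiniteLimits_lowerShriek (i ≫ j)
  rcases isEmpty_or_nonempty W with hW | ⟨⟨z⟩⟩
  · have h0 : IsZero G := (EtSite.isZero_iff_stalks G).2 fun Ω _ _ ξ => isEmptyElim (ξ default)
    exact AddCommGrpCat.subsingleton_of_isZero
      ((EtCoh.HF P (q + 1)).map_isZero ((EtShriek.lowerShriek (i ≫ j)).map_isZero h0))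
  obtain ⟨U, hU, hzU, -⟩ := exists_isAffineOpen_mem_and_subset (TopologicalSpace.Opens.mem_top z)
  let 𝓘 : Scheme.IdealSheafData W := Scheme.IdealSheafData.vanishingIdeal ⟨(U : Set W)ᶜ, U.isOpen.isClosed_compl⟩
  let ι' : 𝓘.subscheme ⟶ W := 𝓘.subschemeι
  have hι' : Set.range ι' = (U : Set W)ᶜ := by
    show Set.range 𝓘.subschemeι = _
    rw [Scheme.IdealSheafData.range_subschemeι]
    exact Scheme.IdealSheafData.coe_support_vanishingIdeal _
  haveI : IsClosedImmersion ι' := inferInstanceAs (IsClosedImmersion 𝓘.subschemeι)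
  let C' : TopologicalSpace.Closeds X := ⟨Set.range (ι' ≫ i), (ι' ≫ i).isClosedMap.isClosed_range⟩
  have hlt : C' < C := by
    refine lt_of_le_of_ne (fun x hx => ?_) fun h => ?_
    · obtain ⟨w, rfl⟩ := hx
      exact hC ⟨ι' w, rfl⟩
    · obtain ⟨w, hw⟩ : i z ∈ (C' : Set X) := h ▸ hC ⟨z, rfl⟩
      have h1 : ι' w = z := i.isClosedEmbedding.injective hw
      have h2 : z ∈ Set.range ι' := ⟨w, h1⟩
      rw [hι'] at h2
      exact h2 hzU
  haveI := ExtZero.jCont U.ι
  obtain ⟨w, hE⟩ := ExtZero.exists_shortExact_recollement U.ι ι'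
    (by rw [hι', compl_compl]; exact U.range_ι) G
  haveI : LocallyOfFiniteType (ι' ≫ i ≫ j) := inferInstance
  have h3 : Subsingleton (EtCoh.H P ((EtShriek.lowerShriek (i ≫ j)).obj
      ((EtCoh.push ι').obj ((EtCoh.pull ι').obj G))) (q + 1)) :=
    L28.CurveCd.subsingleton_H_of_iso ((Supp.shriekCongr (Category.assoc ι' i j)).app _ ≪≫
      (Supp.compIso ι' (i ≫ j)).app _ ≪≫ (EtShriek.lowerShriek (i ≫ j)).mapIso ((Supp.shriekPushIso ι').app _))
      (q + 1) (ih C' hlt 𝓘.subscheme (ι' ≫ i) le_rfl _ (L28.CurveCd.isTorsion_pull ι' hG) (q + 1) hq)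
  haveI : IsAffine U.toScheme := hU
  haveI : Nonempty U.toScheme := ⟨⟨z, hzU⟩⟩
  have h1 : Subsingleton (EtCoh.H P ((EtShriek.lowerShriek (i ≫ j)).obj
      ((EtShriek.extZero U.ι).obj ((EtShriek.restrAlong U.ι).obj G))) (q + 1)) :=
    L28.CurveCd.subsingleton_H_of_iso ((Supp.compIso U.ι (i ≫ j)).app _ ≪≫
      (EtShriek.lowerShriek (i ≫ j)).mapIso ((ExtZero.shriekIso U.ι).app _).symm)
      (q + 1) (subsingleton_H_shriek_affine f (U.ι ≫ i ≫ j) n
        (((U.ι ≫ i).isEmbedding.isInducing.topologicalKrullDim_le).trans hdim) _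
        (Colim.isTorsion_of_iso ((ExtZero.pullRestr U.ι).app G) (L28.CurveCd.isTorsion_pull U.ι hG)) (q + 1) hq)
  have hE' := hE.map_of_exact (EtShriek.lowerShriek (i ≫ j))
  refine subsingleton_of_forall_eq 0 fun x => ?_
  obtain ⟨y, hy⟩ := Abelian.Ext.covariant_sequence_exact₂ _ hE' x
    (@Subsingleton.elim (EtCoh.H P ((EtShriek.lowerShriek (i ≫ j)).obj
      ((EtCoh.push ι').obj ((EtCoh.pull ι').obj G))) (q + 1)) h3 _ _)
  rw [← hy, @Subsingleton.elim (EtCoh.H P ((EtShriek.lowerShriek (i ≫ j)).obj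
    ((EtShriek.extZero U.ι).obj ((EtShriek.restrAlong U.ι).obj G))) (q + 1)) h1 y 0]
  exact Abelian.Ext.zero_comp (C := EtCoh.Ab P) (EtCoh.const P ℤ) _ _ _ _

/-- Torsion cohomology of a proper scheme of dimension at most `n` over a separably closed field vanishes
above degree `2n`. -/
theorem subsingleton_H_proper {X : Scheme.{u}} (f : X ⟶ Spec (CommRingCat.of k)) [IsProper f] (n : ℕ)
    (hdim : topologicalKrullDim X ≤ n) (F : EtCoh.Ab X) (hF : EtCoh.IsTorsion F) (q : ℕ) (hq : 2 * n < q) :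
    Subsingleton (EtCoh.H X F q) := by
  haveI := EtSite.preservesFiniteLimits_pull (𝟙 X)
  haveI : Subsingleton (EtCoh.H X ((EtCoh.push (𝟙 X)).obj F) q) :=
    L28.CurveCd.subsingleton_H_of_iso ((Supp.shriekPushIso (𝟙 X)).app F) q
      (subsingleton_H_shriek f (𝟙 X) n hdim F hF q hq)
  exact (EtSite.bijective_HofPush (𝟙 X) F
    (fun r hr => EtSite.isZero_Rpush_of_propB (𝟙 X) (EtSite.propB_of_isIntegralHom _) _ r hr) q).2.subsingleton

/-- Geometric fibres have the dimension of the fibres. -/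
theorem topologicalKrullDim_pullback_le_at {X Y : Scheme.{u}} (f : X ⟶ Y) [LocallyOfFiniteType f] (n : ℕ)
    {Ω : Type u} [Field Ω] (ξ : Spec (CommRingCat.of Ω) ⟶ Y)
    (hdim : topologicalKrullDim (f.fiber (ξ (IsLocalRing.closedPoint Ω))) ≤ n) : topologicalKrullDim ↥(pullback f ξ) ≤ n := by
  let y := ξ (IsLocalRing.closedPoint Ω)
  let σ := Spec.map (Scheme.descResidueField (Scheme.stalkClosedPointTo ξ))
  have hσ : σ ≫ Y.fromSpecResidueField y = ξ :=
    Scheme.descResidueField_stalkClosedPointTo_fromSpecResidueField Ω Y ξ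
  haveI : LocallyOfFiniteType (pullback.snd f (Y.fromSpecResidueField y)) :=
    MorphismProperty.pullback_snd (P := @LocallyOfFiniteType) _ _ inferInstance
  let a : pullback f ξ ⟶ pullback f (Y.fromSpecResidueField y) :=
    pullback.lift (pullback.fst f ξ) (pullback.snd f ξ ≫ σ) (by rw [Category.assoc, hσ, pullback.condition])
  have sq : IsPullback a (pullback.snd f ξ) (pullback.snd f (Y.fromSpecResidueField y)) σ := by
    refine IsPullback.of_right ?_ (pullback.lift_snd _ _ _) (IsPullback.of_hasPullback f (Y.fromSpecResidueField y))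
    simpa only [a, pullback.lift_fst, hσ] using IsPullback.of_hasPullback f ξ
  exact (L21.CurvFib.topologicalKrullDim_eq_of_isPullback (Y.residueField y) Ω
    (pullback.snd f (Y.fromSpecResidueField y)) σ (pullback.snd f ξ) a sq).trans_le hdim

/-- Geometric fibres have at most the largest dimension of the fibres. -/
theorem topologicalKrullDim_pullback_le {X Y : Scheme.{u}} (f : X ⟶ Y) [LocallyOfFiniteType f] (n : ℕ)
    (hdim : ∀ y : Y, topologicalKrullDim (f.fiber y) ≤ n) {Ω : Type u} [Field Ω]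
    (ξ : Spec (CommRingCat.of Ω) ⟶ Y) : topologicalKrullDim ↥(pullback f ξ) ≤ n :=
  topologicalKrullDim_pullback_le_at f n ξ (hdim _)

/-- Torsion higher direct images of a proper morphism with fibres of dimension at most `n` vanish above
degree `2n`. -/
theorem isZero_Rpush_proper {X Y : Scheme.{u}} (f : X ⟶ Y) [IsProper f] (n : ℕ)
    (hdim : ∀ y : Y, topologicalKrullDim (f.fiber y) ≤ n) (F : EtCoh.Ab X) (hF : EtCoh.IsTorsion F) (q : ℕ)
    (hq : 2 * n < q) : IsZero ((EtCoh.Rpush f q).obj F) := by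
  refine (EtSite.isZero_iff_stalks _).2 fun Ω _ _ ξ => ?_
  obtain ⟨e⟩ := nonempty_stalk_iso Ω f ξ F hF q
  refine IsZero.of_iso ?_ e
  haveI : IsProper (pullback.snd f ξ) := MorphismProperty.pullback_snd (P := @IsProper) _ _ inferInstance
  haveI := subsingleton_H_proper (pullback.snd f ξ) n (topologicalKrullDim_pullback_le f n hdim ξ)
    ((EtCoh.pull (pullback.fst f ξ)).obj F) (L28.CurveCd.isTorsion_pull _ hF) q hq
  exact AddCommGrpCat.isZero_of_subsingleton _

/-- Higher direct images with proper support vanish above twice the fibre dimension. -/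
theorem isZero_Rpush_shriek_dim' {X P S : Scheme.{u}} (j : X ⟶ P) [IsSeparated j] [LocallyOfFiniteType j]
    [LocallyQuasiFinite j] (p : P ⟶ S) [IsProper p]
    (hqc : ∀ (Ω : Type u) [Field Ω] [IsSepClosed Ω] (ξ : Spec (CommRingCat.of Ω) ⟶ S),
      QuasiCompact (pullback.snd j (pullback.fst p ξ))) (n : ℕ)
    (hdim : ∀ s : S, topologicalKrullDim ((j ≫ p).fiber s) ≤ n) (F : EtCoh.Ab X) (hF : EtCoh.IsTorsion F) (q : ℕ)
    (hq : 2 * n < q) : IsZero ((EtCoh.Rpush p q).obj ((EtShriek.lowerShriek j).obj F)) := by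
  refine (EtSite.isZero_iff_stalks _).2 fun Ω _ _ ξ => ?_
  obtain ⟨e⟩ := nonempty_stalk_iso Ω p ξ _ (isTorsion_lowerShriek j hF) q
  refine IsZero.of_iso ?_ e
  let sq := (IsPullback.of_hasPullback j (pullback.fst p ξ)).paste_vert (IsPullback.of_hasPullback p ξ)
  let j' := pullback.snd j (pullback.fst p ξ)
  haveI : IsSeparated j' := MorphismProperty.pullback_snd (P := @IsSeparated) _ _ inferInstance
  haveI : LocallyOfFiniteType j' := MorphismProperty.pullback_snd (P := @LocallyOfFiniteType) _ _ inferInstance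
  haveI : LocallyQuasiFinite j' := MorphismProperty.pullback_snd (P := @LocallyQuasiFinite) _ _ inferInstance
  haveI : QuasiCompact j' := hqc Ω ξ
  haveI : IsProper (pullback.snd p ξ) := MorphismProperty.pullback_snd (P := @IsProper) _ _ inferInstance
  have hd : topologicalKrullDim ↥(pullback j (pullback.fst p ξ)) ≤ n :=
    (IsHomeomorph.topologicalKrullDim_eq _ sq.isoPullback.hom.homeomorph.isHomeomorph).trans_le
      (topologicalKrullDim_pullback_le (j ≫ p) n hdim ξ)
  haveI := L28.CurveCd.subsingleton_H_of_iso (ShriekBC.bcIso (IsPullback.of_hasPullback j (pullback.fst p ξ)) F).symm q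
    (subsingleton_H_shriek (pullback.snd p ξ) j' n hd ((EtCoh.pull (pullback.fst j (pullback.fst p ξ))).obj F)
      (L28.CurveCd.isTorsion_pull _ hF) q hq)
  exact AddCommGrpCat.isZero_of_subsingleton _

/-- Higher direct images with proper support vanish above twice the fibre dimension, open immersions. -/
theorem isZero_Rpush_shriek_dim {X P S : Scheme.{u}} (j : X ⟶ P) [IsOpenImmersion j] (p : P ⟶ S) [IsProper p] (n : ℕ)
    (hdim : ∀ s : S, topologicalKrullDim ((j ≫ p).fiber s) ≤ n) (F : EtCoh.Ab X) (hF : EtCoh.IsTorsion F) (q : ℕ)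
    (hq : 2 * n < q) : IsZero ((EtCoh.Rpush p q).obj ((EtShriek.lowerShriek j).obj F)) :=
  isZero_Rpush_shriek_dim' j p (fun Ω _ _ ξ => by
    haveI : IsOpenImmersion (pullback.snd j (pullback.fst p ξ)) :=
      MorphismProperty.pullback_snd (P := @IsOpenImmersion) _ _ inferInstance
    haveI : IsProper (pullback.snd p ξ) := MorphismProperty.pullback_snd (P := @IsProper) _ _ inferInstance
    haveI : IsLocallyNoetherian (pullback p ξ) := LocallyOfFiniteType.isLocallyNoetherian (pullback.snd p ξ)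
    infer_instance) n hdim F hF q hq

end Groth.L27.PBC
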