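import Groth.Agent.L27.PBC.CurveSurj
import Groth.Agent.L19.IntegralHom

/-! # Cohomology of a proper curve over a strictly henselian ring is that of the closed fibre -/

set_option autoImplicit false
set_option linter.style.haveILetI false
set_option linter.unusedSectionVars false
set_option backward.isDefEq.respectTransparency.types false

universe u

open CategoryTheory CategoryTheory.Limits AlgebraicGeometry Opposite TopologicalSpace

noncomputable section

namespace Groth.L27.PBC

open Groth.L27.LimCoh

/-- Surjectivity of pullback transfers along an isomorphism of sources. -/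
theorem surjective_of_iso {X Z Z' : Scheme.{u}} (θ : Z' ≅ Z) (k : Z ⟶ X) (k' : Z' ⟶ X) (w : θ.hom ≫ k = k')
    [PreservesFiniteLimits (EtCoh.pull k)] [PreservesFiniteLimits (EtCoh.pull k')] (F : EtCoh.Ab X) (n : ℕ)
    (h : Function.Surjective (EtCore.Hpull k F n)) : Function.Surjective (EtCore.Hpull k' F n) := by
  haveI := EtSite.preservesFiniteLimits_pull θ.hom
  have hθ := Groth.Agent.S0642.result θ.hom ((EtCoh.pull k).obj F) n
  haveI : IsIso (gamma θ.hom k w F) := by
    rw [← CompTransfer.inv_eq_gamma θ.hom k k' w F]; infer_instance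
  intro c
  obtain ⟨d, hd⟩ := hθ.2 ((EtCoh.HF Z' n).map (gamma θ.hom k w F) c)
  obtain ⟨e, rfl⟩ := h d
  exact ⟨e, (ConcreteCategory.bijective_of_isIso ((EtCoh.HF Z' n).map (gamma θ.hom k w F))).1
    ((Hpull_comp θ.hom k w n F e).symm.trans hd)⟩

variable {A : Type u} [CommRing A] [HenselianLocalRing A] [IsSepClosed (IsLocalRing.ResidueField A)]
  {X : Scheme.{u}} (f : X ⟶ Spec (CommRingCat.of A))

/-- The comparison with the closed fibre is bijective on torsion sheaves. -/
def IsComp : Prop :=
  ∀ [PreservesFiniteLimits (EtCoh.pull (pullback.fst f (clA A)))] (q : ℕ) (F : EtCoh.Ab X),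
    EtCoh.IsTorsion F → Function.Bijective (EtCore.Hpull (pullback.fst f (clA A)) F q)

theorem bijective_zero_cl [IsProper f] [PreservesFiniteLimits (EtCoh.pull (pullback.fst f (clA A)))]
    (F : EtCoh.Ab X) : Function.Bijective (EtCore.Hpull (pullback.fst f (clA A)) F 0) :=
  @ProperH1.bijective_zero A _ (IsLocalRing.maximalIdeal A) _ X f _
    ‹PreservesFiniteLimits (EtCoh.pull (pullback.fst f (clA A)))› F

/-- The comparison for proper morphisms with closed fibre of dimension at most one. -/
theorem isComp_curve [IsProper f] (hdim : topologicalKrullDim ↥(pullback f (clA A)) ≤ 1) : IsComp f := by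
  intro _
  haveI : CompactSpace X := QuasiCompact.compactSpace_of_compactSpace f
  haveI : QuasiSeparatedSpace X := quasiSeparatedSpace_of_quasiSeparated f
  haveI : CompactSpace ↥(pullback f (clA A)) := QuasiCompact.compactSpace_of_compactSpace (pullback.snd f (clA A))
  haveI : QuasiSeparatedSpace ↥(pullback f (clA A)) :=
    quasiSeparatedSpace_of_quasiSeparated (pullback.snd f (clA A))
  refine bijective_of_effacement _ (fun F _ => bijective_zero_cl f F) fun n F hF ξ =>
    exists_effacement_of_surjective _ n (fun X' p _ M _ _ _ => ?_) F hF ξ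
  let θ := pullbackRightPullbackFstIso f (clA A) p
  have hθ : θ.hom ≫ pullback.fst (p ≫ f) (clA A) = pullback.fst p (pullback.fst f (clA A)) :=
    pullbackRightPullbackFstIso_hom_fst _ _ _
  haveI := EtSite.preservesFiniteLimits_pull (pullback.fst (p ≫ f) (clA A))
  have hdim' : topologicalKrullDim ↥(pullback (p ≫ f) (clA A)) ≤ 1 := by
    refine le_trans ?_ hdim
    let g : pullback (p ≫ f) (clA A) ⟶ pullback f (clA A) :=
      θ.inv ≫ pullback.snd p (pullback.fst f (clA A))
    exact Groth.L19.topologicalKrullDim_le_of_isIntegralHom g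
  exact surjective_of_iso θ _ _ hθ _ _ (surjective_curve (p ≫ f) hdim' M n)

end Groth.L27.PBC
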