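import Groth.Agent.L27.PBC.Efface
import Groth.Agent.L27.FLC.Torsor
import Groth.Agent.L27.EtSite.HofPush
import Groth.Agent.S19886
import Mathlib.GroupTheory.FiniteAbelian.Basic
import Mathlib.Algebra.Category.Grp.Abelian

/-! # Constant sheaves of finite groups: decomposition and vanishing in characteristic `p` -/

set_option autoImplicit false
set_option linter.style.haveILetI false
set_option linter.unusedSectionVars false
set_option backward.isDefEq.respectTransparency.types false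

universe u

open CategoryTheory CategoryTheory.Limits AlgebraicGeometry Opposite DirectSum

noncomputable section

namespace Groth.L27.PBC

open Groth.L27.LimCoh

/-- A homomorphism of groups in the category of big abelian groups. -/
def liftHom {M N : Type} [AddCommGroup M] [AddCommGroup N] (φ : M →+ N) :
    AddCommGrpCat.of (ULift.{u + 1} M) ⟶ AddCommGrpCat.of (ULift.{u + 1} N) :=
  AddCommGrpCat.ofHom ((AddEquiv.ulift.symm.toAddMonoidHom.comp φ).comp AddEquiv.ulift.toAddMonoidHom)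

/-- The map of constant sheaves of a homomorphism. -/
def cMap (Y : Scheme.{u}) {M N : Type} [AddCommGroup M] [AddCommGroup N] (φ : M →+ N) :
    EtCoh.const Y M ⟶ EtCoh.const Y N :=
  (constantSheaf Y.smallEtaleTopology AddCommGrpCat.{u + 1}).map (liftHom φ)

theorem const_additive (Y : Scheme.{u}) : (constantSheaf Y.smallEtaleTopology AddCommGrpCat.{u + 1}).Additive := by
  haveI : (EtCore.gsec Y).Additive := { }
  exact (EtCore.constAdj Y).left_adjoint_additive

/-- Surjectivity for constant sheaves of finite groups reduces to cyclic groups of prime power order. -/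
theorem surjective_of_cyclic {X Z : Scheme.{u}} (i : Z ⟶ X) [PreservesFiniteLimits (EtCoh.pull i)] (q : ℕ)
    (h : ∀ p ν : ℕ, p.Prime → Function.Surjective (EtCore.Hpull i (EtCoh.const X (ZMod (p ^ ν))) q))
    (M : Type) [AddCommGroup M] [Finite M] : Function.Surjective (EtCore.Hpull i (EtCoh.const X M) q) := by
  classical
  obtain ⟨ι₀, _, p, hp, e, ⟨ε⟩⟩ := AddCommGroup.equiv_directSum_zmod_of_finite M
  let π : ∀ j, M →+ ZMod (p j ^ e j) := fun j => (DFinsupp.evalAddMonoidHom j).comp ε.toAddMonoidHom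
  let κ : ∀ j, ZMod (p j ^ e j) →+ M := fun j => ε.symm.toAddMonoidHom.comp (DirectSum.of (fun j => ZMod (p j ^ e j)) j)
  have hid : ∑ j, liftHom.{u} (π j) ≫ liftHom (κ j) = 𝟙 _ := by
    refine ConcreteCategory.hom_ext _ _ fun m => (hom_sum_apply _ _ m).trans ?_
    obtain ⟨m⟩ := m
    refine ULift.ext _ _ (ε.injective ?_)
    refine Eq.trans (congrArg ε (map_sum (AddEquiv.ulift : ULift.{u + 1} M ≃+ M) _ _)) ?_
    rw [map_sum]
    refine Eq.trans ?_ (DirectSum.sum_univ_of (ε m))
    exact Finset.sum_congr rfl fun j _ => ε.apply_symm_apply _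
  intro c
  haveI := const_additive X
  haveI := L28.CurveCd.HF_additive Z q
  haveI : (EtCoh.pull i).Additive := (EtCoh.pullPushAdj i).left_adjoint_additive
  have hy : ∀ j, ∃ y, EtCore.Hpull i _ q y = (EtCoh.HF Z q).map ((EtCoh.pull i).map (cMap X (π j))) c :=
    fun j => h (p j) (e j) (hp j) _
  choose y hy using hy
  refine ⟨∑ j, (EtCoh.HF X q).map (cMap X (κ j)) (y j), ?_⟩
  rw [map_sum]
  refine (Finset.sum_congr rfl fun j _ => (Hpull_map i (cMap X (κ j)) q (y j)).trans
    ((congrArg _ (hy j)).trans (HF_map_comp _ ((EtCoh.pull i).map (cMap X (κ j))) q c).symm)).trans ?_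
  refine (hom_sum_apply (A := (EtCoh.HF Z q).obj ((EtCoh.pull i).obj (EtCoh.const X M))) Finset.univ
    (fun j => (EtCoh.HF Z q).map ((EtCoh.pull i).map (cMap X (π j)) ≫ (EtCoh.pull i).map (cMap X (κ j)))) c).symm.trans ?_
  rw [← Functor.map_sum]
  have e' : ∑ j, (EtCoh.pull i).map (cMap X (π j)) ≫ (EtCoh.pull i).map (cMap X (κ j)) =
      𝟙 ((EtCoh.pull i).obj (EtCoh.const X M)) := by
    simp only [← Functor.map_comp, cMap, ← Functor.map_sum, hid, CategoryTheory.Functor.map_id]
  rw [e', CategoryTheory.Functor.map_id]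
  rfl

/-- Multiplication by `p` from `ℤ/p^ν` to `ℤ/p^(ν+1)`. -/
def mulP (p ν : ℕ) : ZMod (p ^ ν) →+ ZMod (p ^ (ν + 1)) :=
  ZMod.lift _ ⟨zmultiplesHom _ (p : ZMod (p ^ (ν + 1))), by
    rw [zmultiplesHom_apply, natCast_zsmul, nsmul_eq_mul, ← Nat.cast_mul, ← pow_succ, ZMod.natCast_self]⟩

theorem mulP_natCast (p ν m : ℕ) : mulP p ν (m : ZMod (p ^ ν)) = ((m * p : ℕ) : ZMod (p ^ (ν + 1))) := by
  rw [← Int.cast_natCast (R := ZMod (p ^ ν)), mulP, ZMod.lift_coe]
  rw [zmultiplesHom_apply, natCast_zsmul, nsmul_eq_mul, Nat.cast_mul]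

theorem exists_shortExact_pPow (p ν : ℕ) (hp : p ≠ 0) (Y : Scheme.{u}) :
    ∃ (f : EtCoh.const Y (ZMod (p ^ ν)) ⟶ EtCoh.const Y (ZMod (p ^ (ν + 1))))
      (g : EtCoh.const Y (ZMod (p ^ (ν + 1))) ⟶ EtCoh.const Y (ZMod p)) (w : f ≫ g = 0),
      (ShortComplex.mk f g w).ShortExact := by
  haveI : NeZero (p ^ ν) := ⟨pow_ne_zero _ hp⟩
  haveI : NeZero (p ^ (ν + 1)) := ⟨pow_ne_zero _ hp⟩
  let r : ZMod (p ^ (ν + 1)) →+ ZMod p := (ZMod.castHom (dvd_pow_self p (Nat.succ_ne_zero ν)) (ZMod p)).toAddMonoidHom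
  have hr : ∀ m : ℕ, r (m : ZMod (p ^ (ν + 1))) = (m : ZMod p) := fun m =>
    map_natCast (ZMod.castHom (dvd_pow_self p (Nat.succ_ne_zero ν)) (ZMod p)) m
  have w₀ : liftHom.{u} (mulP p ν) ≫ liftHom r = 0 := ConcreteCategory.hom_ext _ _ fun a => ULift.ext _ _ (by
    obtain ⟨a⟩ := a
    show r (mulP p ν a) = 0
    rw [← ZMod.natCast_zmod_val a, mulP_natCast, hr, Nat.cast_mul, ZMod.natCast_self, mul_zero])
  have h₀ : (ShortComplex.mk _ _ w₀).ShortExact := by
    refine ShortComplex.ShortExact.mk' ?_ ((AddCommGrpCat.mono_iff_injective _).2 ?_)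
      ((AddCommGrpCat.epi_iff_surjective _).2 ?_)
    · rw [ShortComplex.ab_exact_iff]
      rintro ⟨a⟩ ha
      have ha' : r a = 0 := congrArg ULift.down ha
      rw [← ZMod.natCast_zmod_val a, hr, ZMod.natCast_eq_zero_iff] at ha'
      obtain ⟨m, hm⟩ := ha'
      refine ⟨⟨(m : ZMod (p ^ ν))⟩, ULift.ext _ _ ?_⟩
      show mulP p ν m = a
      rw [mulP_natCast, mul_comm, ← hm, ZMod.natCast_zmod_val]
    · refine (injective_iff_map_eq_zero _).2 ?_
      rintro ⟨a⟩ ha
      have ha' : mulP p ν a = 0 := congrArg ULift.down ha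
      rw [← ZMod.natCast_zmod_val a, mulP_natCast, ZMod.natCast_eq_zero_iff, pow_succ] at ha'
      refine ULift.ext _ _ ?_
      show a = 0
      rw [← ZMod.natCast_zmod_val a, ZMod.natCast_eq_zero_iff]
      exact Nat.dvd_of_mul_dvd_mul_right (Nat.pos_of_ne_zero hp) ha'
    · rintro ⟨b⟩
      obtain ⟨a, ha⟩ := ZMod.castHom_surjective (dvd_pow_self p (Nat.succ_ne_zero ν)) b
      exact ⟨⟨a⟩, ULift.ext _ _ ha⟩
  haveI : PreservesFiniteLimits (constantSheaf Y.smallEtaleTopology AddCommGrpCat.{u + 1}) :=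
    comp_preservesFiniteLimits (Functor.const Y.Etaleᵒᵖ) (presheafToSheaf Y.smallEtaleTopology AddCommGrpCat.{u + 1})
  haveI := (EtCore.constAdj Y).leftAdjoint_preservesColimits
  haveI := const_additive Y
  exact ⟨_, _, _, h₀.map_of_exact (constantSheaf Y.smallEtaleTopology AddCommGrpCat.{u + 1})⟩

theorem subsingleton_middle {Y : Scheme.{u}} {S : ShortComplex (EtCoh.Ab Y)} (hS : S.ShortExact) (q : ℕ)
    (h₁ : Subsingleton (EtCoh.H Y S.X₁ q)) (h₃ : Subsingleton (EtCoh.H Y S.X₃ q)) :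
    Subsingleton (EtCoh.H Y S.X₂ q) := by
  refine subsingleton_of_forall_eq 0 fun x => ?_
  obtain ⟨z, hz⟩ := Abelian.Ext.covariant_sequence_exact₂ _ hS x (@Subsingleton.elim _ h₃ _ _)
  rw [← hz, @Subsingleton.elim _ h₁ z 0]
  simp

/-- In characteristic `p`, `p`-power torsion constant cohomology of a proper curve vanishes above degree one. -/
theorem subsingleton_pPow {k : Type u} [Field k] [IsSepClosed k] (p : ℕ) [Fact p.Prime] [CharP k p]
    {Z : Scheme.{u}} (f : Z ⟶ Spec (CommRingCat.of k)) [IsProper f] (hdim : topologicalKrullDim Z ≤ 1)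
    (ν q : ℕ) (hq : 2 ≤ q) : Subsingleton (EtCoh.H Z (EtCoh.const Z (ZMod (p ^ ν))) q) := by
  induction ν with
  | zero =>
    haveI := const_additive Z
    haveI := L28.CurveCd.HF_additive Z q
    haveI : Subsingleton (AddCommGrpCat.of (ULift.{u + 1} (ZMod (p ^ 0)))) := by
      haveI : Subsingleton (ZMod (p ^ 0)) := by rw [pow_zero]; infer_instance
      exact inferInstanceAs (Subsingleton (ULift.{u + 1} (ZMod (p ^ 0))))
    exact AddCommGrpCat.subsingleton_of_isZero ((EtCoh.HF Z q).map_isZero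
      ((constantSheaf Z.smallEtaleTopology AddCommGrpCat.{u + 1}).map_isZero
        (AddCommGrpCat.isZero_of_subsingleton _)))
  | succ ν ih =>
    obtain ⟨a, b, w, hS⟩ := exists_shortExact_pPow p ν (Fact.out : p.Prime).ne_zero Z
    refine subsingleton_middle hS q ih ?_
    letI : Z.Over (Spec (CommRingCat.of k)) := ⟨f⟩
    haveI : IsProper (Z ↘ Spec (CommRingCat.of k)) := ‹IsProper f›
    haveI : IsLocallyNoetherian Z := LocallyOfFiniteType.isLocallyNoetherian f
    haveI : CompactSpace Z := QuasiCompact.compactSpace_of_compactSpace f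
    haveI : IsNoetherian Z := {}
    have h0 : (p : Γ(Z, ⊤)) = 0 := by
      have h := map_natCast (Coh.toGlobal f) p
      rw [CharP.cast_eq_zero k p, map_zero] at h
      exact h.symm
    haveI := Groth.L22.Inter.subsingleton_HH_of_dim hdim (Coh.structureModule Z) (show 1 < q by omega)
    obtain ⟨hfin, hcard⟩ := Groth.L28.EtCartan.finite_H_const (k := k) p (Fact.out : p.Prime) h0 q
    haveI := hfin
    rw [Module.finrank_zero_of_subsingleton, pow_zero] at hcard
    exact Finite.card_le_one_iff_subsingleton.1 hcard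

end Groth.L27.PBC
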