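import Groth.Agent.L27.PBC.FieldVanish
import Groth.Agent.L27.EtSite.ConnFibres
import Groth.Agent.L27.SGA1.FieldFibres

/-! # Torsion cohomology of proper schemes is invariant under extensions of separably closed fields -/

set_option autoImplicit false
set_option linter.style.haveILetI false
set_option linter.unusedSectionVars false
set_option backward.isDefEq.respectTransparency.types false

universe u

open CategoryTheory CategoryTheory.Limits AlgebraicGeometry Opposite

noncomputable section

namespace Groth.L27.PBC

open Groth.L27.LimCoh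

variable {k : Type u} [Field k] [IsSepClosed k] {K : Type u} [Field K] [Algebra k K] {Z : Scheme.{u}}
  (a : Z ⟶ Spec (CommRingCat.of k))
  [PreservesFiniteLimits (EtCoh.pull (pullback.fst a (Spec.map (CommRingCat.ofHom (algebraMap k K)))))]

/-- Global sections are invariant under extension of a separably closed base field. -/
theorem bijective_zero_field (F : EtCoh.Ab Z) :
    Function.Bijective (EtCore.Hpull (pullback.fst a (Spec.map (CommRingCat.ofHom (algebraMap k K)))) F 0) := by
  refine (CompTransfer.bijective_Hpull_zero_iff _ F).2 ?_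
  exact ⟨EtSite.CF.injective_eta _ F (fun Ω _ _ s => SGA1Conn.connectedSpace_fibre a s) (EtCoh.top Z),
    EtSite.CF.surjective_eta _ F (fun Ω _ _ s => SGA1Conn.connectedSpace_fibre a s)
      (fun W => SGA1Conn.univSubmersive_fieldExt a _ _ _ (IsPullback.of_hasPullback W.hom _)) (EtCoh.top Z)⟩

/-- Torsion cohomology is invariant under extension of separably closed fields. -/
theorem bijective_field [IsSepClosed K] [IsProper a] (q : ℕ) (F : EtCoh.Ab Z) (hF : EtCoh.IsTorsion F) :
    Function.Bijective (EtCore.Hpull (pullback.fst a (Spec.map (CommRingCat.ofHom (algebraMap k K)))) F q) := by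
  haveI : CompactSpace Z := QuasiCompact.compactSpace_of_compactSpace a
  haveI : QuasiSeparatedSpace Z := quasiSeparatedSpace_of_quasiSeparated a
  refine bijective_of_effacement _ (fun F _ => bijective_zero_field a F) (fun n F hF ξ => ?_) q F hF
  obtain ⟨G, φ, _, hG, hGv, -⟩ :=
    CompTransfer.exists_torsion_effacement Set.univ F (AffineEfface.isLTorsion_univ hF)
  refine ⟨G, φ, ‹_›, AffineEfface.isTorsion_of_isLTorsion hG, ?_⟩
  have h1 := subsingleton_fieldExt a (AffineEfface.isTorsion_of_isLTorsion hG) (K := K) (fun q hq => by
    obtain ⟨m, rfl⟩ : ∃ m, q = m + 1 := ⟨q - 1, by omega⟩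
    exact hGv m) (n + 1) n.succ_pos
  exact @Subsingleton.elim (EtCoh.H (pullback a (Spec.map (CommRingCat.ofHom (algebraMap k K))))
    ((EtCoh.pull (pullback.fst a (Spec.map (CommRingCat.ofHom (algebraMap k K))))).obj G) (n + 1)) h1 _ _

end Groth.L27.PBC
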