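import Groth.Agent.L10.EtLocalBC.SqIso
import Groth.Agent.L27.StalkRpush.PreComp

/-! # Transposed comparison maps of squares computed on acyclic resolutions -/

universe v v₁ v₂ v₃ u u₁ u₂ u₃

open CategoryTheory CategoryTheory.Limits HomologicalComplex

set_option backward.isDefEq.respectTransparency false
set_option backward.defeqAttrib.useBackward true
set_option backward.isDefEq.respectTransparency.types false
set_option linter.style.haveILetI false
set_option linter.unusedSectionVars false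

noncomputable section

namespace Groth.L27.PBC

open Groth.L10.EtBCComp Groth.L10.EtLocalBC

/-- A quasi-isomorphism of complexes of acyclic objects stays one after a left exact functor. -/
theorem isIso_homology_map {B : Type u₂} [Category.{v₂} B] [Abelian B] [EnoughInjectives B]
    {C : Type u₃} [Category.{v₃} C] [Abelian C] (Ψ : B ⥤ C) [Ψ.Additive] [PreservesFiniteLimits Ψ]
    {K L : CochainComplex B ℕ} (f : K ⟶ L) [QuasiIso f] (hK : ∀ n, L17.GrothSS.RAcyclic Ψ (K.X n))
    (hL : ∀ n, L17.GrothSS.RAcyclic Ψ (L.X n)) (q : ℕ) :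
    IsIso ((homologyFunctor C _ q).map ((Ψ.mapHomologicalComplex _).map f)) := by
  let := HasDerivedCategory.standard B
  let g := HomologicalComplex.extendMap f ComplexShape.embeddingUpNat
  haveI : QuasiIso g := (HomologicalComplex.quasiIso_extendMap_iff _ _).2 inferInstance
  have hA : ∀ (M : CochainComplex B ℕ), (∀ n, L17.GrothSS.RAcyclic Ψ (M.X n)) → ∀ i : ℤ,
      L17.GrothSS.RAcyclic Ψ ((M.extend ComplexShape.embeddingUpNat).X i) := fun M hM i => by
    by_cases hi : ∃ k : ℕ, (k : ℤ) = i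
    · obtain ⟨k, rfl⟩ := hi
      exact fun r hr => (hM k r hr).of_iso
        ((Ψ.rightDerived r).mapIso (HomologicalComplex.extendXIso _ ComplexShape.embeddingUpNat rfl))
    · exact L17.GrothSS.rAcyclic_of_isZero Ψ (HomologicalComplex.isZero_extend_X _ _ _ fun k hk => hi ⟨k, hk⟩)
  haveI hS := L17.GrothSS.quasiIso_map Ψ g 0 0 (hA K hK) (hA L hL)
  haveI : QuasiIso ((Ψ.mapHomologicalComplex _).map f) := by
    rw [← HomologicalComplex.quasiIso_extendMap_iff _ ComplexShape.embeddingUpNat]
    exact (quasiIso_iff_of_arrow_mk_iso _ _ (Arrow.isoMk (L17.GrothSS.mapExtendIso Ψ _ _)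
      (L17.GrothSS.mapExtendIso Ψ _ _)
      (L00.RDerLES.mapExtendIso_naturality Ψ f ComplexShape.embeddingUpNat).symm)).1 hS
  exact (inferInstance : IsIso (HomologicalComplex.homologyMap ((Ψ.mapHomologicalComplex _).map f) q))

theorem rAcyclic_of_injective {B : Type u₂} [Category.{v₂} B] [Abelian B] [EnoughInjectives B]
    {C : Type u₃} [Category.{v₃} C] [Abelian C] (Ψ : B ⥤ C) [Ψ.Additive] (J : B) [Injective J] :
    L17.GrothSS.RAcyclic Ψ J := fun q hq => by
  obtain ⟨k, rfl⟩ : ∃ k, q = k + 1 := ⟨q - 1, by omega⟩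
  exact Ψ.isZero_rightDerived_obj_injective_succ k J

variable {A : Type u} [Category.{v} A] [Abelian A] [HasInjectiveResolutions A] [EnoughInjectives A]
  {A' : Type u₁} [Category.{v₁} A'] [Abelian A'] [HasInjectiveResolutions A'] [EnoughInjectives A']
  {B : Type u₂} [Category.{v₂} B] [Abelian B] {B' : Type u₃} [Category.{v₃} B'] [Abelian B']
  (E : A' ⥤ A) [E.Additive] [E.PreservesInjectiveObjects] (Φ : A ⥤ B) [Φ.Additive] [PreservesFiniteLimits Φ]
  (Φ' : A' ⥤ B') [Φ'.Additive] [PreservesFiniteLimits Φ'] (Ψ : B' ⥤ B) [Ψ.Additive] [PreservesFiniteLimits Ψ]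
  (σ : E ⋙ Φ ≅ Φ' ⋙ Ψ) (q : ℕ)
  {LE : A ⥤ A'} [LE.Additive] [PreservesFiniteLimits LE] [PreservesFiniteColimits LE]
  (adjE : LE ⊣ E) {L : B ⥤ B'} [L.Additive] [PreservesFiniteLimits L] [PreservesFiniteColimits L] (adj : L ⊣ Ψ)

/-- The transposed comparison on one object. -/
abbrev sqT (M : A) : L.obj (Φ.obj M) ⟶ Φ'.obj (LE.obj M) :=
  (adj.homEquiv _ _).symm (Φ.map (adjE.unit.app M) ≫ σ.hom.app (LE.obj M))

/-- The transposed comparison on complexes. -/
def sqTC (C : CochainComplex A ℕ) : (L.mapHomologicalComplex _).obj ((Φ.mapHomologicalComplex _).obj C) ⟶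
    (Φ'.mapHomologicalComplex _).obj ((LE.mapHomologicalComplex _).obj C) where
  f n := sqT E Φ Φ' Ψ σ adjE adj (C.X n)
  comm' i j _ := by
    refine ((Adjunction.homEquiv_naturality_right_symm _ _ _).symm.trans (Eq.trans ?_
      (Adjunction.homEquiv_naturality_left_symm _ _ _)))
    refine congrArg _ ?_
    simp only [Functor.mapHomologicalComplex_obj_d, Category.assoc]
    rw [← Functor.map_comp_assoc, ← show adjE.unit.app (C.X i) ≫ E.map (LE.map (C.d i j)) =
      C.d i j ≫ adjE.unit.app (C.X j) from (adjE.unit.naturality (C.d i j)).symm, Φ.map_comp, Category.assoc]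
    exact congrArg (Φ.map (adjE.unit.app (C.X i)) ≫ ·) (σ.hom.naturality (LE.map (C.d i j))).symm

/-- The transpose is invertible when computed on an acyclic resolution with invertible termwise transposes. -/
theorem isIso_transpose_sqMap_of_acyclic (X : A) (T : CochainComplex A ℕ)
    (ιT : (CochainComplex.single₀ A).obj X ⟶ T) [QuasiIso ιT]
    (h₁ : ∀ n, L17.GrothSS.RAcyclic Φ (T.X n)) (h₂ : ∀ n, L17.GrothSS.RAcyclic Φ' (LE.obj (T.X n)))
    (hσ : ∀ n, IsIso (sqT E Φ Φ' Ψ σ adjE adj (T.X n))) :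
    IsIso ((adj.homEquiv _ _).symm (sqMap E Φ Φ' Ψ σ q (adjE.unit.app X))) := by
  let I := injectiveResolution X
  let I' := injectiveResolution (LE.obj X)
  let c : T ⟶ I.cocomplex := RDer.descToInjectives (𝟙 X) T ιT I.cocomplex I.ι
  have hc : ιT.f 0 ≫ c.f 0 = I.ι.f 0 := (RDer.ι_descToInjectives_f_zero _ _ _ _ _).trans (Category.id_comp _)
  haveI : QuasiIso c := by
    have h : ιT ≫ c = I.ι := (CochainComplex.fromSingle₀Equiv _ _).injective (Subtype.ext hc)
    haveI : QuasiIso (ιT ≫ c) := by rw [h]; infer_instance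
    exact quasiIso_of_comp_left ιT c
  let aug := RDer.mapAug LE ιT
  haveI : QuasiIso aug := by
    haveI : LE.PreservesHomology := inferInstance
    haveI := HomologicalComplex.quasiIso_map_of_preservesHomology ιT LE
    dsimp only [aug, RDer.mapAug]
    infer_instance
  have haug : aug.f 0 = LE.map (ιT.f 0) := by
    simp [aug, RDer.mapAug, HomologicalComplex.singleMapHomologicalComplex]
  let d : (LE.mapHomologicalComplex _).obj T ⟶ I'.cocomplex :=
    RDer.descToInjectives (𝟙 (LE.obj X)) _ aug I'.cocomplex I'.ι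
  have hd : LE.map (ιT.f 0) ≫ d.f 0 = I'.ι.f 0 := by
    rw [← haug]
    exact (RDer.ι_descToInjectives_f_zero _ _ _ _ _).trans (Category.id_comp _)
  haveI : QuasiIso d := by
    have h : aug ≫ d = I'.ι := (CochainComplex.fromSingle₀Equiv _ _).injective (Subtype.ext
      ((congrArg (· ≫ d.f 0) haug).trans hd))
    haveI : QuasiIso (aug ≫ d) := by rw [h]; infer_instance
    exact quasiIso_of_comp_left aug d
  let a : X ⟶ E.obj (LE.obj X) := adjE.unit.app X
  show IsIso ((adj.homEquiv _ _).symm (sqMap E Φ Φ' Ψ σ q a))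
  let χ := lift E a
  have hχ : I.ι.f 0 ≫ χ.f 0 = a ≫ E.map (I'.ι.f 0) := ι_lift E _
  have hh : Homotopy (c ≫ χ) (unitN T adjE ≫ (E.mapHomologicalComplex _).map d) :=
    StalkRpush.homotopyOfAug ιT _ _ (by
      show ιT.f 0 ≫ c.f 0 ≫ χ.f 0 = ιT.f 0 ≫ adjE.unit.app (T.X 0) ≫ E.map (d.f 0)
      rw [reassoc_of% hc, hχ, ← hd, E.map_comp]
      simp only [← Category.assoc]
      exact congrArg (· ≫ E.map (d.f 0)) (adjE.unit.naturality (ιT.f 0)).symm)
  let β := sqTC E Φ Φ' Ψ σ adjE adj T ≫ (Φ'.mapHomologicalComplex _).map d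
  have hβ : unitN ((Φ.mapHomologicalComplex _).obj T) adj ≫ (Ψ.mapHomologicalComplex _).map β =
      (Φ.mapHomologicalComplex _).map (unitN T adjE ≫ (E.mapHomologicalComplex _).map d) ≫
        (NatTrans.mapHomologicalComplex σ.hom _).app I'.cocomplex := by
    refine HomologicalComplex.hom_ext _ _ fun n => ?_
    show adj.unit.app _ ≫ Ψ.map ((adj.homEquiv _ _).symm _ ≫ Φ'.map (d.f n)) =
      Φ.map (adjE.unit.app (T.X n) ≫ E.map (d.f n)) ≫ σ.hom.app _
    rw [Ψ.map_comp, ← Category.assoc]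
    erw [← Adjunction.homEquiv_unit, Equiv.apply_symm_apply]
    rw [Φ.map_comp, Category.assoc, Category.assoc]
    exact congrArg (Φ.map (adjE.unit.app (T.X n)) ≫ ·) (σ.hom.naturality (d.f n)).symm
  haveI hcI : IsIso ((homologyFunctor B _ q).map ((Φ.mapHomologicalComplex _).map c)) :=
    isIso_homology_map Φ c h₁ (fun n => haveI := I.injective n; rAcyclic_of_injective Φ _) q
  let u : (homologyFunctor B _ q).obj ((Φ.mapHomologicalComplex _).obj T) ⟶ (Φ.rightDerived q).obj X :=
    (homologyFunctor B _ q).map ((Φ.mapHomologicalComplex _).map c) ≫ (I.isoRightDerivedObj Φ q).inv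
  have key : u ≫ sqMap E Φ Φ' Ψ σ q a =
      ((homologyFunctor B _ q).map (unitN ((Φ.mapHomologicalComplex _).obj T) adj) ≫
        RDer.homologyComparison Ψ ((L.mapHomologicalComplex _).obj ((Φ.mapHomologicalComplex _).obj T)) q) ≫
        Ψ.map ((homologyFunctor B' _ q).map β ≫ (I'.isoRightDerivedObj Φ' q).inv) := by
    rw [sqMap_eq E Φ Φ' Ψ σ q _ χ hχ]
    let H := homologyFunctor B (ComplexShape.up ℕ) q
    let FΦ := Φ.mapHomologicalComplex (ComplexShape.up ℕ)
    let τ := (NatTrans.mapHomologicalComplex σ.hom (ComplexShape.up ℕ)).app I'.cocomplex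
    let C := RDer.homologyComparison Ψ ((Φ'.mapHomologicalComplex _).obj I'.cocomplex) q
    let R := Ψ.map (I'.isoRightDerivedObj Φ' q).inv
    show (H.map (FΦ.map c) ≫ (I.isoRightDerivedObj Φ q).inv) ≫ (I.isoRightDerivedObj Φ q).hom ≫
      H.map (FΦ.map χ) ≫ H.map τ ≫ C ≫ R = _
    rw [Category.assoc, Iso.inv_hom_id_assoc]
    have e1 : H.map (FΦ.map c) ≫ H.map (FΦ.map χ) =
        H.map (FΦ.map (unitN T adjE ≫ (E.mapHomologicalComplex _).map d)) :=
      (H.map_comp _ _).symm.trans ((congrArg H.map (FΦ.map_comp c χ).symm).trans ((Φ.mapHomotopy hh).homologyMap_eq q))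
    have e2 : H.map (FΦ.map (unitN T adjE ≫ (E.mapHomologicalComplex _).map d)) ≫ H.map τ =
        H.map (unitN ((Φ.mapHomologicalComplex _).obj T) adj) ≫ H.map ((Ψ.mapHomologicalComplex _).map β) :=
      (H.map_comp _ _).symm.trans ((congrArg H.map hβ.symm).trans (H.map_comp _ _))
    refine (reassoc_of% e1) _ |>.trans (((reassoc_of% e2) _).trans ?_)
    refine Eq.trans ?_ (Category.assoc _ _ _).symm
    refine congrArg (_ ≫ ·) ?_
    refine ((reassoc_of% (homologyComparison_naturality Ψ q β)) _).trans ?_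
    exact congrArg (_ ≫ ·) (Ψ.map_comp _ _).symm
  haveI : IsIso u := by infer_instance
  haveI : IsIso ((homologyFunctor B' _ q).map β) := by
    haveI : IsIso (sqTC E Φ Φ' Ψ σ adjE adj T) := by
      haveI : ∀ n, IsIso ((sqTC E Φ Φ' Ψ σ adjE adj T).f n) := fun n => hσ n
      exact HomologicalComplex.Hom.isIso_of_components _
    haveI := isIso_homology_map Φ' d h₂ (fun n => haveI := I'.injective n; rAcyclic_of_injective Φ' _) q
    rw [Functor.map_comp]
    infer_instance
  haveI := isIso_transpose_comparison ((Φ.mapHomologicalComplex _).obj T) q adj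
  have h := congrArg (adj.homEquiv _ _).symm key
  rw [Adjunction.homEquiv_naturality_left_symm, Adjunction.homEquiv_naturality_right_symm] at h
  haveI : IsIso (L.map u ≫ (adj.homEquiv _ _).symm (sqMap E Φ Φ' Ψ σ q a)) := by
    rw [h]; infer_instance
  exact IsIso.of_isIso_comp_left (L.map u) _

end Groth.L27.PBC
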