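import Groth.Prelude.Def_Hens2
import Groth.Agent.S0537
import Mathlib.FieldTheory.IsSepClosed
import Mathlib.AlgebraicGeometry.Morphisms.ClosedImmersion

/-! # Geometric points attached to strict henselizations along closed immersions -/

set_option autoImplicit false
set_option linter.style.haveILetI false
set_option backward.isDefEq.respectTransparency.types false

universe u

open CategoryTheory CategoryTheory.Limits AlgebraicGeometry IsLocalRing

noncomputable section

namespace Groth.L27.PBC

/-- Residue fields of strict henselizations along a surjection agree. -/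
theorem exists_residue_iso {O O₀ : Type u} [CommRing O] [IsLocalRing O] [CommRing O₀] [IsLocalRing O₀]
    (φ : O →+* O₀) [IsLocalHom φ] (hφ : Function.Surjective φ)
    (B : Type u) [CommRing B] [IsLocalRing B] [Algebra O B] [IsLocalHom (algebraMap O B)]
    [hB : Hensel.IsStrictHenselization O B]
    (R : Type u) [CommRing R] [IsLocalRing R] [Algebra O₀ R] [IsLocalHom (algebraMap O₀ R)]
    [hR : Hensel.IsStrictHenselization O₀ R] :
    ∃ τ : ResidueField B ≃+* ResidueField R,
      ∀ o : O, τ (residue B (algebraMap O B o)) = residue R (algebraMap O₀ R (φ o)) := by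
  haveI := hB.isSepClosure.sep_closed
  haveI := hR.isSepClosure.sep_closed
  haveI := hB.isSepClosure.separable
  haveI := hR.isSepClosure.separable
  let e : ResidueField O ≃+* ResidueField O₀ := RingEquiv.ofBijective (ResidueField.map φ)
    ⟨(ResidueField.map φ).injective, fun y => by
      obtain ⟨b, rfl⟩ := residue_surjective y
      obtain ⟨a, rfl⟩ := hφ b
      exact ⟨residue O a, rfl⟩⟩
  letI : Algebra (ResidueField O) (ResidueField R) :=
    ((algebraMap (ResidueField O₀) (ResidueField R)).comp e.toRingHom).toAlgebra
  haveI : Algebra.IsSeparable (ResidueField O) (ResidueField R) :=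
    Algebra.IsSeparable.of_equiv_equiv (A₁ := ResidueField O₀) (B₁ := ResidueField R) e.symm (RingEquiv.refl _)
      (RingHom.ext fun x => by
        show algebraMap (ResidueField O₀) (ResidueField R) (e (e.symm x)) = algebraMap _ _ x
        rw [e.apply_symm_apply])
  let τ : ResidueField B →ₐ[ResidueField O] ResidueField R := IsSepClosed.lift
  have hτ : Function.Bijective τ := by
    refine ⟨τ.toRingHom.injective, ?_⟩
    letI : Algebra (ResidueField B) (ResidueField R) := τ.toRingHom.toAlgebra
    haveI : IsScalarTower (ResidueField O) (ResidueField B) (ResidueField R) :=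
      IsScalarTower.of_algebraMap_eq fun x => (τ.commutes x).symm
    haveI : Algebra.IsSeparable (ResidueField B) (ResidueField R) :=
      Algebra.isSeparable_tower_top_of_isSeparable (ResidueField O) (ResidueField B) (ResidueField R)
    exact IsSepClosed.algebraMap_surjective (ResidueField B) (ResidueField R)
  exact ⟨RingEquiv.ofBijective τ hτ, fun o => (τ.commutes (residue O o)).trans rfl⟩

/-- The point of a strict henselization. -/
theorem geomPt_default (X : Scheme.{u}) (x : X) (R : Type u) [CommRing R] [IsLocalRing R]
    [Algebra (X.presheaf.stalk x) R] [IsLocalHom (algebraMap (X.presheaf.stalk x) R)] :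
    (Hens2.geomPt X x R).base default = x := by
  let t : PrimeSpectrum (ResidueField R) := (default : Spec (CommRingCat.of (ResidueField R)))
  show X.fromSpecStalk x (PrimeSpectrum.comap (algebraMap (X.presheaf.stalk x) R)
    (PrimeSpectrum.comap (residue R) t)) = x
  rw [IsLocalRing.PrimeSpectrum.comap_residue]
  exact (congrArg (fun z => X.fromSpecStalk x z) (IsLocalRing.comap_closedPoint _)).trans
    Scheme.fromSpecStalk_closedPoint

/-- Geometric points of strict henselizations along a closed immersion are isomorphic over the target. -/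
theorem exists_geomPt_iso {X X₀ : Scheme.{u}} (i : X₀ ⟶ X) [IsClosedImmersion i] (x : X₀)
    (B : Type u) [CommRing B] [IsLocalRing B] [Algebra (X.presheaf.stalk (i x)) B]
    [IsLocalHom (algebraMap (X.presheaf.stalk (i x)) B)] [Hensel.IsStrictHenselization (X.presheaf.stalk (i x)) B]
    (R : Type u) [CommRing R] [IsLocalRing R] [Algebra (X₀.presheaf.stalk x) R]
    [IsLocalHom (algebraMap (X₀.presheaf.stalk x) R)] [Hensel.IsStrictHenselization (X₀.presheaf.stalk x) R] :
    ∃ e : Spec (CommRingCat.of (ResidueField R)) ≅ Spec (CommRingCat.of (ResidueField B)),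
      e.hom ≫ Hens2.geomPt X (i x) B = Hens2.geomPt X₀ x R ≫ i := by
  haveI : IsLocalHom (i.stalkMap x).hom := inferInstance
  obtain ⟨τ, hτ⟩ := exists_residue_iso (i.stalkMap x).hom (i.stalkMap_surjective x) B R
  refine ⟨Scheme.Spec.mapIso τ.toCommRingCatIso.op, ?_⟩
  show Spec.map (CommRingCat.ofHom τ.toRingHom) ≫ Spec.map (CommRingCat.ofHom (residue B)) ≫
      Spec.map (CommRingCat.ofHom (algebraMap (X.presheaf.stalk (i x)) B)) ≫ X.fromSpecStalk (i x) =
    (Spec.map (CommRingCat.ofHom (residue R)) ≫
      Spec.map (CommRingCat.ofHom (algebraMap (X₀.presheaf.stalk x) R)) ≫ X₀.fromSpecStalk x) ≫ i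
  rw [Category.assoc, Category.assoc, ← Scheme.SpecMap_stalkMap_fromSpecStalk i]
  simp only [← Category.assoc, ← Spec.map_comp]
  refine congrArg (· ≫ X.fromSpecStalk (i x)) (congrArg Spec.map (CommRingCat.hom_ext (RingHom.ext fun o => ?_)))
  exact hτ o

end Groth.L27.PBC
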