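import Groth.Agent.L27.PBC.BcQ
import Groth.Agent.L27.StalkRpush.Final
import Groth.Agent.L27.EtSite.StrictLocal
import Groth.Agent.L27.EtSite.SepClosedPoint

/-! # Stalks of higher direct images of proper morphisms -/

set_option autoImplicit false
set_option linter.style.haveILetI false
set_option linter.unusedSectionVars false
set_option backward.isDefEq.respectTransparency false
set_option backward.isDefEq.respectTransparency.types false

universe u

open CategoryTheory CategoryTheory.Limits AlgebraicGeometry Opposite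

noncomputable section

namespace Groth.L27.PBC

section Point

variable {X : Scheme.{u}} {Ω : Type u} [Field Ω] [IsSepClosed Ω] (ζ : Spec (CommRingCat.of Ω) ⟶ X)
  {K : Type u} [Field K] [IsSepClosed K] (π : Spec (CommRingCat.of K) ⟶ Spec (CommRingCat.of Ω)) [IsIso π]

/-- Fibres at isomorphic geometric points. -/
def fiberIsoComp : (Scheme.pointSmallEtale ζ).fiber ≅ (Scheme.pointSmallEtale (π ≫ ζ)).fiber :=
  NatIso.ofComponents (fun V => Equiv.toIso
    { toFun := fun y => Over.homMk (π ≫ y.left) ((Category.assoc _ _ _).trans (congrArg (π ≫ ·) (Over.w y)))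
      invFun := fun z => Over.homMk (inv π ≫ z.left)
        ((Category.assoc _ _ _).trans ((congrArg (inv π ≫ ·) (Over.w z)).trans (IsIso.inv_hom_id_assoc π ζ)))
      left_inv := fun y => Over.OverMorphism.ext (IsIso.inv_hom_id_assoc π y.left)
      right_inv := fun z => Over.OverMorphism.ext (IsIso.hom_inv_id_assoc π z.left) })
    fun {V W} g => by
      ext y
      apply Over.OverMorphism.ext
      show π ≫ y.left ≫ g.left = (π ≫ y.left) ≫ g.left
      exact (Category.assoc _ _ _).symm

/-- Isomorphic geometric points. -/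
def pointIsoComp : Scheme.pointSmallEtale (π ≫ ζ) ≅ Scheme.pointSmallEtale ζ where
  hom := ⟨(fiberIsoComp ζ π).hom⟩
  inv := ⟨(fiberIsoComp ζ π).inv⟩
  hom_inv_id := GrothendieckTopology.Point.hom_ext (fiberIsoComp ζ π).inv_hom_id
  inv_hom_id := GrothendieckTopology.Point.hom_ext (fiberIsoComp ζ π).hom_inv_id

/-- Stalks at isomorphic geometric points. -/
def stalkIsoComp : EtCoh.stalk ζ ≅ EtCoh.stalk (π ≫ ζ) :=
  EtSite.sheafFiberCongr AddCommGrpCat.{u + 1} (pointIsoComp ζ π)

end Point

variable (Ω : Type u) [Field Ω] [IsSepClosed Ω]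

theorem nonempty_stalk_closedPt_gsec :
    haveI := Groth.L27.SepClosedPoint.isSepClosed_residueField Ω
    Nonempty (EtCore.gsec (Spec (CommRingCat.of Ω)) ≅ EtCoh.stalk (EtSite.closedPt Ω)) := by
  haveI := Groth.L27.SepClosedPoint.isSepClosed_residueField Ω
  let Φ := Scheme.pointSmallEtale (EtSite.closedPt Ω)
  haveI : ∀ G : EtCoh.Ab (Spec (CommRingCat.of Ω)),
      IsIso (Φ.toPresheafFiber (EtCoh.top _) (EtSite.topPt Ω) G.obj) := fun G =>
    (ConcreteCategory.isIso_iff_bijective _).2 (EtSite.bijective_toPresheafFiber Ω G.obj)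
  exact ⟨NatIso.ofComponents (fun G => asIso (Φ.toPresheafFiber (EtCoh.top _) (EtSite.topPt Ω) G.obj))
    (fun {G H} φ => (Φ.toPresheafFiber_naturality φ.hom (EtCoh.top _) (EtSite.topPt Ω)).symm)⟩

/-- Global sections of higher direct images to a separably closed point are cohomology groups. -/
theorem nonempty_gsec_Rpush {Y : Scheme.{u}} (f : Y ⟶ Spec (CommRingCat.of Ω)) (q : ℕ) :
    Nonempty (EtCoh.Rpush f q ⋙ EtCore.gsec (Spec (CommRingCat.of Ω)) ≅ EtCoh.HF Y q) := by
  haveI := Groth.L27.SepClosedPoint.isSepClosed_residueField Ω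
  obtain ⟨e⟩ := nonempty_stalk_closedPt_gsec Ω
  let S := EtCoh.stalk (EtSite.closedPt Ω)
  haveI : (EtCore.gsec Y).Additive := { }
  haveI : S.Additive := Functor.additive_of_preserves_binary_products _
  obtain ⟨a⟩ := StalkRpush.nonempty_rightDerived_comp_exact (EtCoh.push f) S q
  exact ⟨Functor.isoWhiskerLeft _ e ≪≫ a.symm ≪≫
    RDer.rightDerivedIso (Functor.isoWhiskerLeft _ e.symm ≪≫ EtCore.pushGsecIso f ≪≫ (StalkRpush.ΨIso Y).symm) q ≪≫
    StalkRpush.derivedΨIso Y q⟩

/-- The stalk of a higher direct image along a proper morphism is the cohomology of the geometric fibre. -/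
theorem nonempty_stalk_iso {X Y : Scheme.{u}} (f : X ⟶ Y) [IsProper f] (ξ : Spec (CommRingCat.of Ω) ⟶ Y)
    (F : EtCoh.Ab X) (hF : EtCoh.IsTorsion F) (q : ℕ) :
    Nonempty ((EtCoh.stalk ξ).obj ((EtCoh.Rpush f q).obj F) ≅
      AddCommGrpCat.of (EtCoh.H (pullback f ξ) ((EtCoh.pull (pullback.fst f ξ)).obj F) q)) := by
  haveI := Groth.L27.SepClosedPoint.isSepClosed_residueField Ω
  haveI := Groth.L27.EtSite.preservesFiniteLimits_pull (pullback.fst f ξ)
  haveI : IsIso (EtSite.closedPt Ω) := by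
    haveI : IsIso (CommRingCat.ofHom (IsLocalRing.residue Ω)) :=
      (ConcreteCategory.isIso_iff_bijective _).2 ⟨(IsLocalRing.residue Ω).injective, IsLocalRing.residue_surjective⟩
    exact inferInstanceAs (IsIso (Spec.map (CommRingCat.ofHom (IsLocalRing.residue Ω))))
  haveI := isIso_bcQ f ξ (pullback.snd f ξ) (pullback.fst f ξ) (IsPullback.of_hasPullback f ξ) q F hF
  obtain ⟨e⟩ := nonempty_stalk_closedPt_gsec Ω
  obtain ⟨a⟩ := nonempty_gsec_Rpush Ω (pullback.snd f ξ) q
  exact ⟨(stalkIsoComp ξ (EtSite.closedPt Ω)).app _ ≪≫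
    (EtSite.stalkPullIso ξ (EtSite.closedPt Ω)).symm.app _ ≪≫ e.symm.app _ ≪≫
    (EtCore.gsec _).mapIso (asIso (EtBC.bcQ f ξ (pullback.snd f ξ) (pullback.fst f ξ)
      (IsPullback.of_hasPullback f ξ).w q F)) ≪≫ a.app _⟩

end Groth.L27.PBC
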