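import Groth.Agent.L27.PBC.Main
import Groth.Agent.S3073

/-! # Proper schemes over henselian local rings -/

set_option autoImplicit false
set_option linter.style.haveILetI false
set_option linter.unusedSectionVars false
set_option backward.isDefEq.respectTransparency.types false

universe u

open CategoryTheory CategoryTheory.Limits AlgebraicGeometry Opposite

noncomputable section

namespace Groth.L27.PBC

open Groth.L27.LimCoh

variable {A : Type u} [CommRing A] [HenselianLocalRing A] {X : Scheme.{u}} (f : X ⟶ Spec (CommRingCat.of A)) [IsProper f]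

/-- Torsion cohomology of a proper scheme over a henselian local ring is that of the closed fibre. -/
theorem bijective_closedFibre [PreservesFiniteLimits (EtCoh.pull (pullback.fst f (clA A)))] :
    ∀ (q : ℕ) (F : EtCoh.Ab X), EtCoh.IsTorsion F → Function.Bijective (EtCore.Hpull (pullback.fst f (clA A)) F q) := by
  haveI : CompactSpace X := QuasiCompact.compactSpace_of_compactSpace f
  haveI : QuasiSeparatedSpace X := quasiSeparatedSpace_of_quasiSeparated f
  haveI := EtSite.preservesFiniteLimits_pull (clA A)
  haveI := EtSite.preservesFiniteLimits_pull f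
  haveI : IsClosedImmersion (clA A) := IsClosedImmersion.spec_of_surjective _ IsLocalRing.residue_surjective
  refine bijective_of_effacement _ (fun F _ => @ProperH1.bijective_zero A _ (IsLocalRing.maximalIdeal A) _ X f _
    ‹PreservesFiniteLimits (EtCoh.pull (pullback.fst f (clA A)))› F) fun n F hF ξ => ?_
  obtain ⟨G, φ, _, hG, hGv, hGR⟩ :=
    CompTransfer.exists_torsion_effacement Set.univ F (AffineEfface.isLTorsion_univ hF)
  refine ⟨G, φ, ‹_›, AffineEfface.isTorsion_of_isLTorsion hG, ?_⟩
  haveI := hGv n
  haveI : Subsingleton (EtCoh.H (Spec (CommRingCat.of A)) ((EtCoh.push f).obj G) (n + 1)) :=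
    (EtSite.bijective_HofPush f G (fun q hq => hGR f q hq) (n + 1)).1.subsingleton
  have h0 : Subsingleton (EtCoh.H (Spec (CommRingCat.of (IsLocalRing.ResidueField A)))
      ((EtCoh.pull (clA A)).obj ((EtCoh.push f).obj G)) (n + 1)) :=
    (Groth.Agent.S3073.result A ((EtCoh.push f).obj G) (n + 1)).2.subsingleton
  have h1 := (subsingleton_downstairs f (IsPullback.of_hasPullback f (clA A)) (univ f) G
    (AffineEfface.isTorsion_of_isLTorsion hG) (fun q hq => hGR f q hq) (n + 1)).1 h0
  exact @Subsingleton.elim (EtCoh.H (pullback f (clA A)) ((EtCoh.pull (pullback.fst f (clA A))).obj G) (n + 1)) h1 _ _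

end Groth.L27.PBC
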