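import Groth.Agent.L27.PBC.AcycTranspose
import Groth.Agent.L27.PBC.BaseChangeVanish
import Groth.Agent.L27.PBC.TorRes
import Groth.Agent.L27.BigSets.ProperBC
import Groth.Agent.L10.EtLocalBC.QLocal

/-! # Proper base change in every degree -/

set_option autoImplicit false
set_option linter.style.haveILetI false
set_option linter.unusedSectionVars false
set_option backward.isDefEq.respectTransparency false
set_option backward.isDefEq.respectTransparency.types false
set_option backward.defeqAttrib.useBackward true

universe u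

open CategoryTheory CategoryTheory.Limits AlgebraicGeometry Opposite

noncomputable section

namespace Groth.L27.PBC

open Groth.L10.EtBCComp

variable {X S X' S' : Scheme.{u}} (f : X ⟶ S) (g : S' ⟶ S) (f' : X' ⟶ S') (g' : X' ⟶ X)

/-- Proper base change: the base change maps of torsion sheaves are isomorphisms in every degree. -/
theorem isIso_bcQ [IsProper f] (h : IsPullback g' f' f g) [PreservesFiniteLimits (EtCoh.pull g')] (q : ℕ)
    (F : EtCoh.Ab X) (hF : EtCoh.IsTorsion F) : IsIso (EtBC.bcQ f g f' g' h.w q F) := by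
  haveI := Groth.L27.EtSite.preservesFiniteLimits_pull g
  let I := injectiveResolution F
  haveI := quasiIso_torAug hF I
  rw [EtBC.bcQ, bcQAdj_eq]
  have hT : ∀ n, EtCoh.IsTorsion ((torCx I).X n) := fun n =>
    AffineEfface.isTorsion_of_isLTorsion (CompTransfer.isLTorsion_tor Set.univ _)
  have h₁ : ∀ n, L17.GrothSS.RAcyclic (EtCoh.push f) ((torCx I).X n) := fun n r hr => by
    haveI := I.injective n
    exact CompTransfer.isZero_Rpush_of_acyc f _ (CompTransfer.acyc_tor Set.univ (I.cocomplex.X n)) r hr
  refine isIso_transpose_sqMap_of_acyclic (EtCoh.push g') (EtCoh.push f) (EtCoh.push f') (EtCoh.push g)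
    (sqIso f g f' g' h.w) q (EtCoh.pullPushAdj g') (EtCoh.pullPushAdj g) F (torCx I) (torAug hF I) h₁
    (fun n r hr => isZero_Rpush_baseChange f h ((torCx I).X n) (hT n) r (h₁ n r hr)) (fun n => ?_)
  have e : sqT (EtCoh.push g') (EtCoh.push f) (EtCoh.push f') (EtCoh.push g) (sqIso f g f' g' h.w)
      (EtCoh.pullPushAdj g') (EtCoh.pullPushAdj g) ((torCx I).X n) =
        EtCoh.baseChange0 f g f' g' h.w ((torCx I).X n) := by
    simp only [sqT, sqIso, EtCoh.baseChange0, Iso.trans_hom, Iso.symm_hom, NatTrans.comp_app]
  exact e.symm ▸ BigSets.isIso_baseChange0 h ((torCx I).X n)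

end Groth.L27.PBC
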