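import Groth.Agent.L27.EtSite.PushStalk
import Groth.Agent.L27.EtSite.Points
import Groth.Agent.L27.EtSite.Pull
import Mathlib.AlgebraicGeometry.Morphisms.Finite
import Mathlib.AlgebraicGeometry.Morphisms.Etale

/-! # Sheaves on a Jacobson scheme are detected at closed points -/

set_option autoImplicit false
set_option linter.style.haveILetI false
set_option linter.unusedSectionVars false
set_option backward.isDefEq.respectTransparency.types false

universe u

open CategoryTheory CategoryTheory.Limits AlgebraicGeometry Opposite TopologicalSpace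

noncomputable section

namespace Groth.L27.PBC

open Groth.L27.EtSite

/-- An abelian sheaf on a Jacobson scheme whose stalks at closed points vanish is zero. -/
theorem isZero_of_closed_stalks {S : Scheme.{u}} [JacobsonSpace S] (F : EtCoh.Ab S)
    (h : ∀ x : S, IsClosed ({x} : Set S) → ∃ (Ω : Type u) (_ : Field Ω) (_ : IsSepClosed Ω)
      (ξ : Spec (CommRingCat.of Ω) ⟶ S), ξ.base default = x ∧ IsZero ((EtCoh.stalk ξ).obj F)) : IsZero F := by
  have hli : Sheaf.IsLocallyInjective (0 : F ⟶ F) := ⟨fun {U} s t _ => (mem_topology_iff _).2 fun x => by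
    haveI : AlgebraicGeometry.Etale U.unop.hom := U.unop.prop
    let π : U.unop.left ⟶ S := U.unop.hom
    haveI : AlgebraicGeometry.Etale π := U.unop.prop
    haveI : JacobsonSpace ↥U.unop.left := LocallyOfFiniteType.jacobsonSpace π
    let O : Set U.unop.left := {z | ∃ (W : S.Etale) (c : W ⟶ U.unop), F.obj.map c.op s = F.obj.map c.op t ∧
      z ∈ Set.range c.left.base}
    suffices hO : O = Set.univ by
      obtain ⟨W, c, hc, w, hw⟩ : x ∈ O := hO ▸ Set.mem_univ x
      exact ⟨W, c, w, hc, hw⟩
    have hopen : IsOpen O := isOpen_iff_forall_mem_open.2 fun z ⟨W, c, hc, hz⟩ => by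
      haveI := etale_left c
      exact ⟨Set.range c.left.base, fun z' hz' => ⟨W, c, hc, hz'⟩, c.left.isOpenMap.isOpen_range, hz⟩
    by_contra hne
    obtain ⟨z, hz, hz'⟩ := nonempty_inter_closedPoints (Set.nonempty_compl.2 hne) hopen.isClosed_compl.isLocallyClosed
    have hcl : IsClosed ({U.unop.hom.base z} : Set S) :=
      π.closePoints_subset_preimage_closedPoints hz'
    obtain ⟨Ω, _, _, ξ, hξ, hzero⟩ := h (U.unop.hom.base z) hcl
    obtain ⟨y, hy⟩ := exists_fiber ξ U.unop z hξ.symm
    have hs : Subsingleton ((EtCoh.stalk ξ).obj F) := AddCommGrpCat.subsingleton_of_isZero hzero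
    obtain ⟨W, c, w, hw, hc⟩ := ((Scheme.pointSmallEtale ξ).toPresheafFiber_eq_iff' U.unop y s t).1 (hs.elim _ _)
    exact hz ⟨W, c, hc, w.left.base (default : Spec (CommRingCat.of Ω)), by rw [← hy, ← hw]; rfl⟩⟩
  have : Mono (0 : F ⟶ F) := Sheaf.mono_of_isLocallyInjective _
  exact (IsZero.iff_id_eq_zero F).2 (by rw [← cancel_mono (0 : F ⟶ F)]; simp)

end Groth.L27.PBC
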