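import Groth.Agent.L27.PBC.Main
import Groth.Agent.L27.PBC.JacobsonZero
import Groth.Agent.L19.Limit.OverBase
import Groth.Agent.S0646
import Mathlib.Algebra.Category.Ring.FilteredColimits
import Mathlib.RingTheory.Jacobson.Ring
import Mathlib.RingTheory.FiniteType

/-! # Acyclic torsion sheaves stay acyclic after extending a separably closed base field -/

set_option autoImplicit false
set_option linter.style.haveILetI false
set_option linter.unusedSectionVars false
set_option backward.isDefEq.respectTransparency.types false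

universe u

open CategoryTheory CategoryTheory.Limits AlgebraicGeometry Opposite

noncomputable section

namespace Groth.L27.PBC

open Groth.L27.LimCoh

section Colim

variable (k K : Type u) [CommRing k] [CommRing K] [Algebra k K]

/-- The finitely generated subalgebras. -/
def FGSub : Type u := {S : Subalgebra k K // S.FG}

instance : PartialOrder (FGSub k K) := inferInstanceAs (PartialOrder (Subtype _))

instance : Nonempty (FGSub k K) := ⟨⟨⊥, Subalgebra.fg_bot⟩⟩

instance : IsDirected (FGSub k K) (· ≤ ·) :=
  ⟨fun S T => ⟨⟨S.1 ⊔ T.1, S.2.sup T.2⟩, le_sup_left (a := S.1), le_sup_right (a := S.1)⟩⟩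

/-- The subalgebras as a diagram. -/
def subDiag : FGSub k K ⥤ CommRingCat.{u} where
  obj S := CommRingCat.of S.1
  map {S T} h := CommRingCat.ofHom (Subalgebra.inclusion (show S.1 ≤ T.1 from h.le)).toRingHom
  map_id _ := rfl
  map_comp _ _ := rfl

/-- The whole algebra as a cocone. -/
def subCocone : Cocone (subDiag k K) where
  pt := CommRingCat.of K
  ι :=
    { app := fun S => CommRingCat.ofHom S.1.val.toRingHom
      naturality := fun _ _ _ => rfl }

/-- An algebra is the union of its finitely generated subalgebras. -/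
def isColimitSubCocone : IsColimit (subCocone k K) := by
  haveI : PreservesColimitsOfShape (FGSub k K) (forget CommRingCat.{u}) := inferInstance
  haveI : HasColimitsOfShape (FGSub k K) CommRingCat.{u} := inferInstance
  haveI : ReflectsColimitsOfShape (FGSub k K) (forget CommRingCat.{u}) :=
    reflectsColimitsOfShape_of_reflectsIsomorphisms
  refine isColimitOfReflects (forget CommRingCat.{u}) ?_
  refine Types.FilteredColimit.isColimitOf' _ _ (fun x => ?_) (fun S x y h => ?_)
  · let x' : K := x
    exact ⟨⟨Algebra.adjoin k {x'}, by simpa using Subalgebra.fg_adjoin_finset (R := k) {x'}⟩,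
      ⟨x', Algebra.subset_adjoin (Set.mem_singleton _)⟩, rfl⟩
  · exact ⟨S, 𝟙 S, by rw [show x = y from Subtype.ext h]⟩

/-- The spectra of the subalgebras. -/
def subSpec : (FGSub k K)ᵒᵖ ⥤ Scheme.{u} := (subDiag k K).op ⋙ Scheme.Spec

instance {S T : (FGSub k K)ᵒᵖ} (f : S ⟶ T) : IsAffineHom ((subSpec k K).map f) :=
  isAffineHom_of_isAffine (X := Spec _) (Y := Spec _) _

/-- The spectrum of the algebra as a cone. -/
def subCone : Cone (subSpec k K) := Scheme.Spec.mapCone (subCocone k K).op

/-- The spectrum of an algebra is the limit of the spectra of its finitely generated subalgebras. -/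
def isLimitSubCone : IsLimit (subCone k K) :=
  haveI : PreservesLimitsOfSize.{u, u} Scheme.Spec.{u} := ΓSpec.adjunction.rightAdjoint_preservesLimits
  isLimitOfPreserves Scheme.Spec (isColimitSubCocone k K).op

/-- The structure morphisms. -/
def subStr (S : (FGSub k K)ᵒᵖ) : (subSpec k K).obj S ⟶ Spec (CommRingCat.of k) :=
  Spec.map (CommRingCat.ofHom (algebraMap k S.unop.1))

theorem map_subStr {S T : (FGSub k K)ᵒᵖ} (f : S ⟶ T) : (subSpec k K).map f ≫ subStr k K T = subStr k K S :=
  (Spec.map_comp _ _).symm

theorem cone_subStr (S : (FGSub k K)ᵒᵖ) :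
    (subCone k K).π.app S ≫ subStr k K S = Spec.map (CommRingCat.ofHom (algebraMap k K)) :=
  (Spec.map_comp _ _).symm

end Colim

variable {k : Type u} [Field k] [IsSepClosed k] {Z : Scheme.{u}} (a : Z ⟶ Spec (CommRingCat.of k)) [IsProper a]
  {G : EtCoh.Ab Z} (hG : EtCoh.IsTorsion G) (hv : ∀ q : ℕ, 0 < q → Subsingleton (EtCoh.H Z G q))

include hG hv

/-- The geometric fibres over closed points of a finite type base have no cohomology. -/
theorem subsingleton_geomFibre {L : Type u} [Field L] (s : Spec (CommRingCat.of L) ⟶ Spec (CommRingCat.of k))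
    [IsIntegralHom s] (q : ℕ) (hq : 0 < q) :
    Subsingleton (EtCoh.H (pullback a s) ((EtCoh.pull (pullback.fst a s)).obj G) q) := by
  obtain ⟨φ, rfl⟩ := Spec.map_surjective s
  letI : Algebra k L := φ.hom.toAlgebra
  have hint : φ.hom.IsIntegral := IsIntegralHom.SpecMap_iff.1 ‹_›
  haveI : Algebra.IsIntegral k L := ⟨hint⟩
  haveI : Algebra.IsAlgebraic k L := Algebra.IsIntegral.isAlgebraic
  haveI : IsPurelyInseparable k L := inferInstance
  haveI : UniversallyInjective (Spec.map φ) := L05.CurveNorm.universallyInjective_ext k L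
  haveI : Surjective (Spec.map φ) := L05.CurveNorm.surjective_ext k L
  haveI := hv q hq
  haveI := EtSite.preservesFiniteLimits_pull (pullback.fst a (Spec.map φ))
  haveI : IsIntegralHom (pullback.fst a (Spec.map φ)) := MorphismProperty.pullback_fst (P := @IsIntegralHom) _ _ ‹_›
  haveI : UniversallyInjective (pullback.fst a (Spec.map φ)) :=
    MorphismProperty.pullback_fst (P := @UniversallyInjective) _ _ ‹_›
  haveI : Surjective (pullback.fst a (Spec.map φ)) := MorphismProperty.pullback_fst (P := @Surjective) _ _ ‹_›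
  exact (Groth.Agent.S0642.result (pullback.fst a (Spec.map φ)) G q).2.subsingleton

/-- Over a finite type base the higher direct images of the constant family vanish. -/
theorem isZero_Rpush_ft {S : Scheme.{u}} (t : S ⟶ Spec (CommRingCat.of k)) [LocallyOfFiniteType t] (q : ℕ) (hq : 0 < q) :
    IsZero ((EtCoh.Rpush (pullback.snd a t) q).obj ((EtCoh.pull (pullback.fst a t)).obj G)) := by
  haveI : JacobsonSpace ↥S := LocallyOfFiniteType.jacobsonSpace t
  refine isZero_of_closed_stalks _ fun x hx => ?_
  obtain ⟨R, _, _, _, _, hR'⟩ := Groth.Agent.S0537.result (S.presheaf.stalk x)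
  haveI := hR'.henselian
  haveI : IsSepClosed (IsLocalRing.ResidueField R) := hR'.isSepClosure.sep_closed
  refine ⟨IsLocalRing.ResidueField R, inferInstance, inferInstance, Hens2.geomPt S x R, geomPt_default S x R, ?_⟩
  let jR := Hens2.specOf S x R
  obtain ⟨nR⟩ := Groth.Agent.S6186.result (pullback.snd a t) x R q
  let sq : IsPullback (pullback.fst (pullback.snd a t) jR ≫ pullback.fst a t) (pullback.snd (pullback.snd a t) jR) a
      (jR ≫ t) := (IsPullback.of_hasPullback (pullback.snd a t) jR).paste_horiz (IsPullback.of_hasPullback a t)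
  haveI : IsIntegralHom (clA R ≫ jR ≫ t) := by
    haveI := hR'.isSepClosure.separable
    have hfin : IsFinite (S.fromSpecResidueField x ≫ t) := by
      haveI := isClosed_singleton_iff_isClosedImmersion.mp hx
      exact (isFinite_iff_locallyOfFiniteType_of_jacobsonSpace (f := S.fromSpecResidueField x ≫ t)).mpr inferInstance
    have e : clA R ≫ jR ≫ t =
        Spec.map (CommRingCat.ofHom (algebraMap (IsLocalRing.ResidueField (S.presheaf.stalk x)) (IsLocalRing.ResidueField R))) ≫
          S.fromSpecResidueField x ≫ t := by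
      simp only [← Category.assoc]
      refine congrArg (· ≫ t) ?_
      show Spec.map _ ≫ Spec.map _ ≫ S.fromSpecStalk x = (Spec.map _ ≫ Spec.map _ ≫ S.fromSpecStalk x)
      simp only [← Category.assoc, ← Spec.map_comp]
      rfl
    haveI : IsIntegralHom (Spec.map (CommRingCat.ofHom (algebraMap (IsLocalRing.ResidueField (S.presheaf.stalk x))
        (IsLocalRing.ResidueField R)))) :=
      IsIntegralHom.SpecMap_iff.2 fun z => Algebra.IsIntegral.isIntegral (R := IsLocalRing.ResidueField (S.presheaf.stalk x)) z
    rw [e]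
    exact MorphismProperty.comp_mem @IsIntegralHom _ _ ‹_› ((IsFinite.iff_isIntegralHom_and_locallyOfFiniteType _).1 hfin).1
  have h5 := (subsingleton_iff_closedFibre a (univ a) G hG _ _ _ sq q).2
    (subsingleton_geomFibre a hG hv (clA R ≫ jR ≫ t) q hq)
  haveI h6 : Subsingleton ((EtCoh.HF (pullback (pullback.snd a t) jR) q).obj
      ((EtCoh.pull (pullback.fst (pullback.snd a t) jR)).obj ((EtCoh.pull (pullback.fst a t)).obj G))) :=
    (subsingleton_pull_comp (pullback.fst (pullback.snd a t) jR) (pullback.fst a t) rfl G q).2 h5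
  exact IsZero.of_iso (AddCommGrpCat.isZero_of_subsingleton
    ((EtCoh.HF (pullback (pullback.snd a t) jR) q).obj
      ((EtCoh.pull (pullback.fst (pullback.snd a t) jR)).obj ((EtCoh.pull (pullback.fst a t)).obj G))))
    (nR.app ((EtCoh.pull (pullback.fst a t)).obj G))

variable {K : Type u} [Field K] [IsSepClosed K]

/-- Pulling back to a separably closed field kills classes from a finite type base. -/
theorem Hpull_eq_zero {S : Scheme.{u}} (t : S ⟶ Spec (CommRingCat.of k)) [LocallyOfFiniteType t]
    {W : Scheme.{u}} (g' : W ⟶ pullback a t) (p' : W ⟶ Spec (CommRingCat.of K)) (g : Spec (CommRingCat.of K) ⟶ S)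
    (sq : IsPullback g' p' (pullback.snd a t) g) [PreservesFiniteLimits (EtCoh.pull g')]
    {H : EtCoh.Ab (pullback a t)} (e : H ≅ (EtCoh.pull (pullback.fst a t)).obj G) (q : ℕ) (hq : 0 < q)
    (η : EtCoh.H (pullback a t) H q) : EtCore.Hpull g' H q η = 0 := by
  let G' := (EtCoh.pull (pullback.fst a t)).obj G
  let p := pullback.snd a t
  suffices h : ∀ η' : EtCoh.H (pullback a t) G' q, EtCore.Hpull g' G' q η' = 0 by
    refine (ConcreteCategory.bijective_of_isIso ((EtCoh.HF W q).map ((EtCoh.pull g').map e.hom))).1 ?_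
    exact ((Hpull_map g' e.hom q η).symm.trans (h _)).trans (map_zero _).symm
  intro η'
  haveI : IsProper p' := MorphismProperty.of_isPullback (P := @IsProper) sq inferInstance
  haveI := EtSite.preservesFiniteLimits_pull g
  haveI := EtSite.preservesFiniteLimits_pull p
  haveI := EtSite.preservesFiniteLimits_pull p'
  obtain ⟨y, rfl⟩ := (EtSite.bijective_HofPush p G' (fun r hr => isZero_Rpush_ft a hG hv t r hr) q).2 η'
  obtain ⟨m, rfl⟩ : ∃ m, q = m + 1 := ⟨q - 1, by omega⟩
  rw [Groth.Agent.S14389.result p g p' g' sq.w G' (m + 1) y]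
  haveI := L28.CurveCd.subsingleton_H_sepClosed (CommRingCat.of K) ((EtCoh.pull g).obj ((EtCoh.push p).obj G')) m
  exact (congrArg _ ((congrArg _ (Subsingleton.elim (α := EtCoh.H (Spec (CommRingCat.of K))
    ((EtCoh.pull g).obj ((EtCoh.push p).obj G')) (m + 1)) _ 0)).trans (map_zero _))).trans (map_zero _)

/-- Extending a separably closed field keeps an acyclic torsion sheaf acyclic. -/
theorem subsingleton_fieldExt [Algebra k K] (q : ℕ) (hq : 0 < q) :
    Subsingleton (EtCoh.H (pullback a (Spec.map (CommRingCat.ofHom (algebraMap k K))))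
      ((EtCoh.pull (pullback.fst a (Spec.map (CommRingCat.ofHom (algebraMap k K))))).obj G) q) := by
  let t := subStr k K
  have ht : ∀ {S T : (FGSub k K)ᵒᵖ} (f : S ⟶ T), (subSpec k K).map f ≫ t T = t S := fun f => map_subStr k K f
  let Xs := L19.Limit.baseDiagram a t ht
  let c := L19.Limit.baseCone a t ht (c := subCone k K) _ (cone_subStr k K)
  haveI : CompactSpace Z := QuasiCompact.compactSpace_of_compactSpace a
  haveI : QuasiSeparatedSpace Z := quasiSeparatedSpace_of_quasiSeparated a
  haveI haff : ∀ ⦃b b' : (FGSub k K)ᵒᵖ⦄ (h : b ⟶ b'), IsAffineHom (Xs.map h) := fun _ _ h =>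
    L19.Limit.isAffineHom_baseDiagram_map a t ht h
  have hqc : ∀ b, CompactSpace ↥(Xs.obj b) := fun b => by
    haveI : CompactSpace ↥((subSpec k K).obj b) := inferInstanceAs (CompactSpace ↥(Spec _))
    haveI : IsProper (pullback.snd a (t b)) := MorphismProperty.pullback_snd (P := @IsProper) _ _ ‹IsProper a›
    have h : CompactSpace ↥(pullback a (t b)) := QuasiCompact.compactSpace_of_compactSpace (pullback.snd a (t b))
    exact h
  have hqs : ∀ b, QuasiSeparatedSpace ↥(Xs.obj b) := fun b => by
    haveI : QuasiSeparatedSpace ↥((subSpec k K).obj b) := inferInstanceAs (QuasiSeparatedSpace ↥(Spec _))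
    haveI : IsProper (pullback.snd a (t b)) := MorphismProperty.pullback_snd (P := @IsProper) _ _ ‹IsProper a›
    have h : QuasiSeparatedSpace ↥(pullback a (t b)) := quasiSeparatedSpace_of_quasiSeparated (pullback.snd a (t b))
    exact h
  haveI : ∀ b, PreservesFiniteLimits (EtCoh.pull (c.π.app b)) := fun _ => EtSite.preservesFiniteLimits_pull _
  haveI : ∀ ⦃b b' : (FGSub k K)ᵒᵖ⦄ (h : b ⟶ b'), PreservesFiniteLimits (EtCoh.pull (Xs.map h)) := fun _ _ _ =>
    EtSite.preservesFiniteLimits_pull _
  let i₀ : FGSub k K := Classical.arbitrary _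
  let F₀ : EtCoh.Ab (Xs.obj (op i₀)) := (EtCoh.pull (pullback.fst a (t (op i₀)))).obj G
  have hw : c.π.app (op i₀) ≫ pullback.fst a (t (op i₀)) = pullback.fst a (Spec.map (CommRingCat.ofHom (algebraMap k K))) := by
    exact (pullback.lift_fst _ _ _).trans (Category.comp_id _)
  refine (subsingleton_pull_comp (c.π.app (op i₀)) (pullback.fst a (t (op i₀))) hw G q).1 ?_
  have h0 : ∀ ξ : EtCoh.H c.pt ((EtCoh.pull (c.π.app (op i₀))).obj F₀) q, ξ = 0 := fun ξ => by
    obtain ⟨j, hj, η, rfl⟩ := (Groth.Agent.S0646.result Xs haff hqc hqs c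
      (L19.Limit.isLimitBaseCone a t ht _ (cone_subStr k K) (isLimitSubCone k K)) i₀ F₀ q).1 ξ
    haveI : LocallyOfFiniteType (t (op j)) := by
      haveI : Algebra.FiniteType k j.1 := (Subalgebra.fg_iff_finiteType _).1 j.2
      refine (HasRingHomProperty.Spec_iff (P := @LocallyOfFiniteType)).2 ?_
      show (algebraMap k ↥j.1).FiniteType
      exact (RingHom.finiteType_algebraMap).2 inferInstance
    have w₁ : Xs.map (homOfLE hj).op ≫ pullback.fst a (t (op i₀)) = pullback.fst a (t (op j)) := by
      exact (pullback.lift_fst _ _ _).trans (Category.comp_id _)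
    haveI := isIso_gamma (Xs.map (homOfLE hj).op) (pullback.fst a (t (op i₀))) w₁ G
    let g' : pullback a (Spec.map (CommRingCat.ofHom (algebraMap k K))) ⟶ pullback a (t (op j)) := c.π.app (op j)
    haveI : PreservesFiniteLimits (EtCoh.pull g') := EtSite.preservesFiniteLimits_pull _
    have := Hpull_eq_zero a hG hv (t (op j)) g'
      (pullback.snd a (Spec.map (CommRingCat.ofHom (algebraMap k K)))) ((subCone k K).π.app (op j))
      (L19.Limit.isPullback_baseCone a t ht _ (cone_subStr k K) (op j))
      (asIso (gamma (Xs.map (homOfLE hj).op) (pullback.fst a (t (op i₀))) w₁ G)).symm q hq η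
    let ψ := (EtCoh.HF c.pt q).map (((EtCore.pullComp (c.π.app (op j)) (Xs.map (homOfLE hj).op)).symm ≪≫
      EtCore.pullCongr (c.w (homOfLE hj).op)).app F₀).hom
    exact Eq.trans (congrArg ψ.hom this) (map_zero ψ.hom)
  exact ⟨fun x y => (h0 x).trans (h0 y).symm⟩

end Groth.L27.PBC
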