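import Groth.Agent.L27.AffineEfface.Effacement
import Groth.Agent.L27.EmbedFinitePush.Main
import Groth.Agent.L27.EtSite.PropB
import Groth.Agent.L28.CurveCd.Torsion
import Groth.Agent.L28.LocConst.PullInst
import Groth.Agent.L27.ProperH1.Main
import Groth.Agent.S14389
import Groth.Agent.S0621

/-! # Comparison of torsion cohomology from effacements -/

set_option autoImplicit false
set_option linter.style.haveILetI false
set_option linter.unusedSectionVars false
set_option backward.isDefEq.respectTransparency.types false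

universe u

open CategoryTheory CategoryTheory.Limits AlgebraicGeometry Opposite

noncomputable section

namespace Groth.L27.PBC

open Groth.L27.LimCoh

theorem hom_sum_apply {A B : AddCommGrpCat.{u + 1}} {ι : Type*} (s : Finset ι) (f : ι → (A ⟶ B)) (a : A) :
    (∑ k ∈ s, f k) a = ∑ k ∈ s, f k a := by
  classical
  induction s using Finset.induction_on with
  | empty => simp
  | insert k t hk ih => rw [Finset.sum_insert hk, Finset.sum_insert hk, ← ih]; rfl

/-- Constant sheaves of finite groups are torsion. -/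
theorem isTorsion_const (Y : Scheme.{u}) (M : Type) [AddCommGroup M] [Finite M] :
    EtCoh.IsTorsion (EtCoh.const Y M) := fun U s x =>
  ⟨U, 𝟙 U, ⟨x, rfl⟩, isOfFinAddOrder_iff_nsmul_eq_zero.2
    ⟨Nat.card M, Nat.pos_of_ne_zero (Nat.card_ne_zero.2 ⟨inferInstance, inferInstance⟩),
      ProperH1.killedBy_const M U _⟩⟩

variable {X Z : Scheme.{u}} (i : Z ⟶ X) [PreservesFiniteLimits (EtCoh.pull i)]

/-- Pullback is bijective on torsion cohomology when it is so in degree zero and classes downstairs are effaced. -/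
theorem bijective_of_effacement [CompactSpace X] [QuasiSeparatedSpace X]
    (h0 : ∀ F : EtCoh.Ab X, EtCoh.IsTorsion F → Function.Bijective (EtCore.Hpull i F 0))
    (heff : ∀ (n : ℕ) (F : EtCoh.Ab X), EtCoh.IsTorsion F → ∀ ξ : EtCoh.H Z ((EtCoh.pull i).obj F) (n + 1),
      ∃ (F' : EtCoh.Ab X) (φ : F ⟶ F'), Mono φ ∧ EtCoh.IsTorsion F' ∧
        (EtCoh.HF Z (n + 1)).map ((EtCoh.pull i).map φ) ξ = 0) :
    ∀ (q : ℕ) (F : EtCoh.Ab X), EtCoh.IsTorsion F → Function.Bijective (EtCore.Hpull i F q) := by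
  intro q
  induction q with
  | zero => exact h0
  | succ n ih =>
    intro F hF
    have mk : ∀ {F' : EtCoh.Ab X} (φ : F ⟶ F') [Mono φ], EtCoh.IsTorsion F' →
        ∃ (E : (ShortComplex.mk φ (cokernel.π φ) (cokernel.condition φ)).ShortExact),
          EtCoh.IsTorsion (cokernel φ) := fun φ _ hF' =>
      ⟨{ exact := ShortComplex.exact_of_g_is_cokernel _ (cokernelIsCokernel φ) },
        AffineEfface.isTorsion_of_isLTorsion
          (CompTransfer.isLTorsion_of_epi (cokernel.π φ) (AffineEfface.isLTorsion_univ hF'))⟩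
    refine ⟨(injective_iff_map_eq_zero _).2 fun x hx => ?_, fun ξ => ?_⟩
    · obtain ⟨G, φ, _, hG, hGv, -⟩ := CompTransfer.exists_torsion_effacement Set.univ F (AffineEfface.isLTorsion_univ hF)
      obtain ⟨hE, hQ⟩ := mk φ (AffineEfface.isTorsion_of_isLTorsion hG)
      haveI := hGv n
      obtain ⟨y, rfl⟩ := exists_δH hE n x (Subsingleton.elim (α := EtCoh.H X G (n + 1)) _ _)
      have hy := (Hpull_δH i hE n y).symm.trans hx
      obtain ⟨z, hz⟩ := exists_map_of_δH_eq_zero (hE.map_of_exact (EtCoh.pull i)) n _ hy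
      obtain ⟨z', rfl⟩ := (ih G (AffineEfface.isTorsion_of_isLTorsion hG)).2 z
      have : y = (EtCoh.HF X n).map (cokernel.π φ) z' :=
        (ih _ hQ).1 (hz.symm.trans (Hpull_map i (cokernel.π φ) n z').symm)
      rw [this]
      exact δH_map_g hE n z'
    · obtain ⟨F', φ, _, hF', hφ⟩ := heff n F hF ξ
      obtain ⟨hE, hQ⟩ := mk φ hF'
      obtain ⟨y, rfl⟩ := exists_δH (hE.map_of_exact (EtCoh.pull i)) n ξ hφ
      obtain ⟨y', rfl⟩ := (ih _ hQ).2 y
      exact ⟨δH hE n y', Hpull_δH i hE n y'⟩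

theorem compN_of_bijective
    (h : ∀ (q : ℕ) (F : EtCoh.Ab X), EtCoh.IsTorsion F → Function.Bijective (EtCore.Hpull i F q)) (n : ℕ) :
    EtAcyc.CompN i Set.univ n := fun F hF _ =>
  ⟨fun q _ => h q F (AffineEfface.isTorsion_of_isLTorsion hF), (h (n + 1) F (AffineEfface.isTorsion_of_isLTorsion hF)).1⟩

/-- A class of the inverse image of a finite direct image comes from upstairs when constant classes do. -/
theorem exists_preimage_push {X' : Scheme.{u}} (p : X' ⟶ X) [IsFinite p]
    [PreservesFiniteLimits (EtCoh.pull (pullback.fst p i))] (K : EtCoh.Ab X') (q : ℕ)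
    (h : Function.Surjective (EtCore.Hpull (pullback.fst p i) K q))
    (c : EtCoh.H Z ((EtCoh.pull i).obj ((EtCoh.push p).obj K)) q) :
    ∃ y, EtCore.Hpull i ((EtCoh.push p).obj K) q y = c := by
  let p' := pullback.snd p i
  let i' := pullback.fst p i
  haveI := EtSite.preservesFiniteLimits_pull p
  haveI := EtSite.preservesFiniteLimits_pull p'
  haveI := Groth.Agent.S0621.result p i p' i' (IsPullback.of_hasPullback p i) K
  have hp : Function.Bijective (EtLim.HofPush p K q) := EtSite.bijective_HofPush p K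
    (fun s hs => EtSite.isZero_Rpush_of_propB p (EtSite.propB_of_isIntegralHom p) _ s hs) q
  have hp' : Function.Bijective (EtLim.HofPush p' ((EtCoh.pull i').obj K) q) := EtSite.bijective_HofPush p' _
    (fun s hs => EtSite.isZero_Rpush_of_propB p' (EtSite.propB_of_isIntegralHom p') _ s hs) q
  let bc := (EtCoh.HF Z q).map (EtCoh.baseChange0 p i p' i' pullback.condition K)
  obtain ⟨x', hx'⟩ := h (EtLim.HofPush p' _ q (bc c))
  obtain ⟨y, rfl⟩ := hp.2 x'
  exact ⟨y, (ConcreteCategory.bijective_of_isIso bc).1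
    (hp'.1 ((Groth.Agent.S14389.result p i p' i' pullback.condition K q y).symm.trans hx'))⟩

/-- Effacement of torsion classes downstairs from surjectivity for finite constant coefficients. -/
theorem exists_effacement_of_surjective [CompactSpace X] [QuasiSeparatedSpace X] [CompactSpace Z]
    [QuasiSeparatedSpace Z] (n : ℕ)
    (hs : ∀ (X' : Scheme.{u}) (p : X' ⟶ X) [IsFinite p] (M : Type) [AddCommGroup M] [Finite M]
      [PreservesFiniteLimits (EtCoh.pull (pullback.fst p i))],
      Function.Surjective (EtCore.Hpull (pullback.fst p i) (EtCoh.const X' M) (n + 1)))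
    (F : EtCoh.Ab X) (hF : EtCoh.IsTorsion F) (ξ : EtCoh.H Z ((EtCoh.pull i).obj F) (n + 1)) :
    ∃ (F' : EtCoh.Ab X) (φ : F ⟶ F'), Mono φ ∧ EtCoh.IsTorsion F' ∧
      (EtCoh.HF Z (n + 1)).map ((EtCoh.pull i).map φ) ξ = 0 := by
  obtain ⟨hc⟩ := L28.ExtShriek.isColimit_presCocone (F := F) hF
  haveI : PreservesColimitsOfSize.{u + 1, u + 1} (EtCoh.pull i) :=
    (EtCoh.pullPushAdj i).leftAdjoint_preservesColimits
  obtain ⟨⟨j, η, hη⟩⟩ : Nonempty (Σ' (j : L28.ExtShriek.PresOver F)
      (η : Sheaf.H ((EtCoh.pull i).obj ((L28.ExtShriek.presDiag F).obj j)) (n + 1)),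
      Sheaf.H.map ((EtCoh.pull i).map ((L28.ExtShriek.presCocone F).ι.app j)) (n + 1) η = ξ) := by
    obtain ⟨j, η, hη⟩ := (L28.ColimBig.commutes Colim.good (EtCore.topIsTerminal Z) ⟨‹_›, ‹_›⟩ (n + 1)
      (L28.ExtShriek.presDiag F ⋙ EtCoh.pull i) ((EtCoh.pull i).mapCocone (L28.ExtShriek.presCocone F))
      (isColimitOfPreserves (EtCoh.pull i) hc)).1 ξ
    exact ⟨⟨j, η, hη⟩⟩
  let C : EtCoh.Ab X := j.1.obj
  obtain ⟨m, Y, p, hp, -, M, hM1, hM2, ι, hι⟩ := EmbedFinitePush.exists_embedding (F := C) j.1.isConstructible_obj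
  let P : Fin m → EtCoh.Ab X := fun k => (EtCoh.push (p k)).obj (EtCoh.const (Y k) (M k))
  -- the image of the class upstairs
  let ζ : EtCoh.H Z ((EtCoh.pull i).obj (⨁ P)) (n + 1) := (EtCoh.HF Z (n + 1)).map ((EtCoh.pull i).map ι) η
  have hk : ∀ k, ∃ y, EtCore.Hpull i (P k) (n + 1) y =
      (EtCoh.HF Z (n + 1)).map ((EtCoh.pull i).map (biproduct.π P k)) ζ := fun k => by
    haveI := hp k
    haveI := EtSite.preservesFiniteLimits_pull (pullback.fst (p k) i)
    exact exists_preimage_push i (p k) _ (n + 1) (hs (Y k) (p k) (M k)) _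
  choose y hy using hk
  let x : EtCoh.H X (⨁ P) (n + 1) := ∑ k, (EtCoh.HF X (n + 1)).map (biproduct.ι P k) (y k)
  have hx : EtCore.Hpull i (⨁ P) (n + 1) x = ζ := by
    haveI : (EtCoh.pull i).Additive := (EtCoh.pullPushAdj i).left_adjoint_additive
    haveI := L28.CurveCd.HF_additive Z (n + 1)
    rw [map_sum]
    refine (Finset.sum_congr rfl fun k _ => (Hpull_map i (biproduct.ι P k) (n + 1) (y k)).trans
      ((congrArg ((EtCoh.HF Z (n + 1)).map ((EtCoh.pull i).map (biproduct.ι P k))) (hy k)).trans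
        (HF_map_comp ((EtCoh.pull i).map (biproduct.π P k)) ((EtCoh.pull i).map (biproduct.ι P k)) (n + 1) ζ).symm)).trans ?_
    have e : ∑ k, (EtCoh.pull i).map (biproduct.π P k) ≫ (EtCoh.pull i).map (biproduct.ι P k) =
        𝟙 ((EtCoh.pull i).obj (⨁ P)) := by
      rw [← CategoryTheory.Functor.map_id, ← IsBilimit.total (biproduct.isBilimit P), Functor.map_sum]
      simp
    have := congrArg (fun φ => (EtCoh.HF Z (n + 1)).map φ ζ) e
    simp only [Functor.map_sum, CategoryTheory.Functor.map_id] at this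
    refine Eq.trans ?_ (this.trans rfl)
    exact (hom_sum_apply _ _ _).symm
  -- torsion
  have hP : ∀ k, EtAcyc.IsLTorsion Set.univ (P k) := fun k => by
    haveI := hp k
    exact CompTransfer.isLTorsion_push Set.univ (p k)
      (AffineEfface.isLTorsion_univ (isTorsion_const (Y k) (M k)))
  have hG : EtCoh.IsTorsion (⨁ P) := AffineEfface.isTorsion_of_isLTorsion (isLTorsion_biproduct P hP)
  let c : C ⟶ F := (L28.ExtShriek.presCocone F).ι.app j
  haveI : Mono (pushout.inl c ι) := inferInstance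
  haveI : Epi (biprod.desc (pushout.inl c ι) (pushout.inr c ι)) := ⟨fun g h e => pushout.hom_ext
    (by simpa using congrArg (biprod.inl ≫ ·) e) (by simpa using congrArg (biprod.inr ≫ ·) e)⟩
  have hF₁ : EtCoh.IsTorsion (pushout c ι) :=
    AffineEfface.isTorsion_of_epi_desc (pushout.inl c ι) (pushout.inr c ι) hF hG
  obtain ⟨F', v, hv, hF', hF'v, -⟩ :=
    CompTransfer.exists_torsion_effacement Set.univ _ (AffineEfface.isLTorsion_univ hF₁)
  refine ⟨F', pushout.inl c ι ≫ v, mono_comp _ _, AffineEfface.isTorsion_of_isLTorsion hF', ?_⟩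
  haveI := hF'v n
  have e : (EtCoh.pull i).map c ≫ (EtCoh.pull i).map (pushout.inl c ι ≫ v) =
      (EtCoh.pull i).map ι ≫ (EtCoh.pull i).map (pushout.inr c ι ≫ v) := by
    rw [← Functor.map_comp, ← Functor.map_comp, ← Category.assoc, pushout.condition, Category.assoc]
  rw [← hη]
  refine (HF_map_comp ((EtCoh.pull i).map c) ((EtCoh.pull i).map (pushout.inl c ι ≫ v)) (n + 1) η).symm.trans ?_
  refine (congrArg (fun f => (EtCoh.HF Z (n + 1)).map f η) e).trans ?_
  refine (HF_map_comp _ _ (n + 1) η).trans ?_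
  refine (congrArg _ hx.symm).trans ((Hpull_map i (pushout.inr c ι ≫ v) (n + 1) x).symm.trans ?_)
  exact (congrArg _ (Subsingleton.elim (α := EtCoh.H X F' (n + 1)) _ 0)).trans (map_zero _)
where
  isLTorsion_biproduct {m : ℕ} (P : Fin m → EtCoh.Ab X) (hP : ∀ k, EtAcyc.IsLTorsion Set.univ (P k)) :
      EtAcyc.IsLTorsion Set.univ (⨁ P) := by
    refine L28.EtTor.isLTorsion_iff_stalks.2 fun Ω _ _ ξ t => ?_
    choose mk hmk hk0 using fun k => L28.EtTor.isLTorsion_iff_stalks.1 (hP k) Ω ξ ((EtCoh.stalk ξ).map (biproduct.π P k) t)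
    refine ⟨∏ k, mk k, ⟨Finset.prod_pos fun k _ => (hmk k).1, fun p _ _ => Set.mem_univ p⟩, ?_⟩
    haveI : (EtCoh.stalk ξ).Additive := Functor.additive_of_preserves_binary_products _
    have e : ∑ k, (EtCoh.stalk ξ).map (biproduct.π P k) ≫ (EtCoh.stalk ξ).map (biproduct.ι P k) =
        𝟙 ((EtCoh.stalk ξ).obj (⨁ P)) := by
      rw [← CategoryTheory.Functor.map_id, ← IsBilimit.total (biproduct.isBilimit P), Functor.map_sum]
      simp
    have ht : t = ∑ k, (EtCoh.stalk ξ).map (biproduct.ι P k) ((EtCoh.stalk ξ).map (biproduct.π P k) t) :=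
      ((ConcreteCategory.congr_hom e t).symm.trans (hom_sum_apply _ _ _)).trans rfl
    rw [ht, Finset.smul_sum]
    refine Finset.sum_eq_zero fun k hk => ?_
    have h0 : (∏ l, mk l) • (EtCoh.stalk ξ).map (biproduct.π P k) t = 0 := by
      rw [← Finset.prod_erase_mul _ _ hk, mul_nsmul', hk0 k, smul_zero]
    exact (map_nsmul ((EtCoh.stalk ξ).map (biproduct.ι P k)).hom (∏ l, mk l)
      ((EtCoh.stalk ξ).map (biproduct.π P k) t)).symm.trans ((congrArg _ h0).trans (map_zero _))

end Groth.L27.PBC
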