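import Groth.Agent.L27.BigSets.ProperBC
import Groth.Prelude.Def_SixF1
import Groth.Prelude.Def_EtModD2
import Groth.Prelude.Def_EtBCD
import Mathlib.Algebra.Category.ModuleCat.ChangeOfRings
import Mathlib.Algebra.Category.Grp.ZModuleEquivalence
import Mathlib.CategoryTheory.Sites.Adjunction

/-!
# Inverse images of sheaves of modules on underlying abelian sheaves

Forgetting the module structure has a right adjoint `coind`, which commutes with direct images on the nose.
-/

universe u

open CategoryTheory CategoryTheory.Limits AlgebraicGeometry Opposite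

set_option autoImplicit false
set_option backward.defeqAttrib.useBackward true
set_option backward.isDefEq.respectTransparency false
set_option backward.isDefEq.respectTransparency.types false
set_option linter.style.haveILetI false

noncomputable section

namespace Groth.L27.PBC.ModPull

variable (Λ : Type (u + 1)) [CommRing Λ]

instance isLeftAdjoint_forget₂ : (forget₂ (ModuleCat.{u + 1} Λ) AddCommGrpCat.{u + 1}).IsLeftAdjoint :=
  ((ModuleCat.restrictCoextendScalarsAdj.{u + 1} (Int.castRingHom Λ)).comp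
    (forget₂ (ModuleCat.{u + 1} ℤ) AddCommGrpCat.{u + 1}).asEquivalence.toAdjunction).isLeftAdjoint

/-- Coinduction from abelian groups. -/
abbrev coind : AddCommGrpCat.{u + 1} ⥤ ModuleCat.{u + 1} Λ :=
  (forget₂ (ModuleCat.{u + 1} Λ) AddCommGrpCat.{u + 1}).rightAdjoint

/-- The adjunction of coinduction. -/
abbrev coindAdj : forget₂ (ModuleCat.{u + 1} Λ) AddCommGrpCat.{u + 1} ⊣ coind Λ :=
  Adjunction.ofIsLeftAdjoint _

variable (X : Scheme.{u})

/-- Coinduction of sheaves. -/
abbrev coindSh : EtCoh.Ab X ⥤ EtModW.Mod Λ X := sheafCompose X.smallEtaleTopology (coind Λ)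

/-- Forgetting the module structure is left adjoint to coinduction. -/
def forgetAdj : EtModD.forgetToAb Λ X ⊣ coindSh Λ X :=
  ((coindAdj Λ).whiskerRight X.Etaleᵒᵖ).restrictFullyFaithful (fullyFaithfulSheafToPresheaf _ _)
    (fullyFaithfulSheafToPresheaf _ _) (Iso.refl _) (Iso.refl _)

theorem forgetAdj_unit_app (F : EtModW.Mod Λ X) (U : X.Etaleᵒᵖ) :
    ((forgetAdj Λ X).unit.app F).hom.app U = (coindAdj Λ).unit.app (F.obj.obj U) := by
  have h : ((forgetAdj Λ X).unit.app F).hom = ((coindAdj Λ).whiskerRight X.Etaleᵒᵖ).unit.app F.obj := by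
    change (sheafToPresheaf _ _).map ((forgetAdj Λ X).unit.app F) = _
    rw [forgetAdj, Adjunction.map_restrictFullyFaithful_unit_app]
    refine (congrArg₂ (· ≫ ·) rfl ?_).trans (Category.comp_id _)
    exact (congrArg (· ≫ _) (CategoryTheory.Functor.map_id _ _)).trans (Category.id_comp _)
  rw [h]
  show 𝟙 _ ≫ (coindAdj Λ).unit.app (F.obj.obj U) ≫ 𝟙 _ = _
  simp

variable {X} {Y : Scheme.{u}} (g : X ⟶ Y)

/-- Inverse images commute with forgetting the module structure. -/
def pullIso : EtModD.forgetToAb Λ Y ⋙ EtCoh.pull g ≅ EtModW.pull Λ g ⋙ EtModD.forgetToAb Λ X :=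
  ((forgetAdj Λ Y).comp (EtCoh.pullPushAdj g)).leftAdjointUniq
    (((EtSix.pullPushModAdj Λ g).comp (forgetAdj Λ X)).ofNatIsoRight (Iso.refl _))

theorem unit_push (M : EtModW.Mod Λ X) :
    (EtModW.push Λ g).map ((forgetAdj Λ X).unit.app M) = (forgetAdj Λ Y).unit.app ((EtModW.push Λ g).obj M) := by
  refine Sheaf.hom_ext (NatTrans.ext (funext fun U => ?_))
  show ((forgetAdj Λ X).unit.app M).hom.app ((EtCoh.bc g).op.obj U) =
    ((forgetAdj Λ Y).unit.app ((EtModW.push Λ g).obj M)).hom.app U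
  rw [forgetAdj_unit_app, forgetAdj_unit_app]
  rfl

/-- The units correspond. -/
theorem unit_pullIso (F : EtModW.Mod Λ Y) :
    (EtCoh.pullPushAdj g).unit.app ((EtModD.forgetToAb Λ Y).obj F) ≫ (EtCoh.push g).map ((pullIso Λ g).hom.app F) =
      (EtModD.forgetToAb Λ Y).map ((EtSix.pullPushModAdj Λ g).unit.app F) := by
  apply ((forgetAdj Λ Y).homEquiv _ _).injective
  rw [Adjunction.homEquiv_unit, Adjunction.homEquiv_unit, Functor.map_comp]
  have h := Adjunction.unit_leftAdjointUniq_hom_app ((forgetAdj Λ Y).comp (EtCoh.pullPushAdj g))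
    (((EtSix.pullPushModAdj Λ g).comp (forgetAdj Λ X)).ofNatIsoRight (Iso.refl _)) F
  simp only [Adjunction.comp_unit_app] at h
  refine ((Category.assoc _ _ _).symm.trans h).trans ?_
  refine Eq.trans ?_ ((forgetAdj Λ Y).unit.naturality ((EtSix.pullPushModAdj Λ g).unit.app F))
  refine Eq.trans ?_ (congrArg ((EtSix.pullPushModAdj Λ g).unit.app F ≫ ·) (unit_push Λ g ((EtModW.pull Λ g).obj F)))
  simp [Adjunction.ofNatIsoRight, Adjunction.comp_unit_app]

attribute [local irreducible] pullIso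

variable {X' Y' : Scheme.{u}} (f : X ⟶ Y) (g : Y' ⟶ Y) (f' : X' ⟶ Y') (g' : X' ⟶ X) (w : g' ≫ f = f' ≫ g)

theorem forget_pushToPushPullMod (F : EtModW.Mod Λ X) :
    (EtModD.forgetToAb Λ Y).map ((EtSix.pushToPushPullMod Λ f g f' g' w).app F) =
      (EtBC.pushToPushPull f g f' g' w).app ((EtModD.forgetToAb Λ X).obj F) ≫
        (EtCoh.push g).map ((EtCoh.push f').map ((pullIso Λ g').hom.app F)) := by
  let τ := (EtCoh.pushComp f g').hom ≫ (EtCoh.pushCongr w).hom ≫ (EtCoh.pushComp g f').inv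
  have hτ : τ.app ((EtModD.forgetToAb Λ X').obj ((EtModW.pull Λ g').obj F)) =
      (EtModD.forgetToAb Λ Y).map (((EtSix.pushModComp Λ f g').hom ≫ (EtSix.pushModCongr Λ w).hom ≫
        (EtSix.pushModComp Λ g f').inv).app ((EtModW.pull Λ g').obj F)) :=
    Sheaf.hom_ext (NatTrans.ext (funext fun U => by rfl))
  have h1 : (EtBC.pushToPushPull f g f' g' w).app ((EtModD.forgetToAb Λ X).obj F) =
      (EtCoh.push f).map ((EtCoh.pullPushAdj g').unit.app _) ≫ τ.app _ := by
    simp [EtBC.pushToPushPull, τ]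
    try rfl
  have h2 : (EtSix.pushToPushPullMod Λ f g f' g' w).app F =
      (EtModW.push Λ f).map ((EtSix.pullPushModAdj Λ g').unit.app F) ≫ (((EtSix.pushModComp Λ f g').hom ≫
        (EtSix.pushModCongr Λ w).hom ≫ (EtSix.pushModComp Λ g f').inv).app ((EtModW.pull Λ g').obj F)) := by
    simp [EtSix.pushToPushPullMod]
  rw [h2, h1, Functor.map_comp, ← hτ, Category.assoc]
  erw [← τ.naturality ((pullIso Λ g').hom.app F)]
  rw [← Category.assoc]
  refine congrArg (· ≫ _) ?_
  exact (congrArg (EtCoh.push f).map (unit_pullIso Λ g' F)).symm.trans ((EtCoh.push f).map_comp _ _)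

/-- The base change maps correspond. -/
theorem forget_baseChange0Mod (F : EtModW.Mod Λ X) :
    (pullIso Λ g).hom.app ((EtModW.push Λ f).obj F) ≫
        (EtModD.forgetToAb Λ Y').map (EtSix.baseChange0Mod Λ f g f' g' w F) =
      EtCoh.baseChange0 f g f' g' w ((EtModD.forgetToAb Λ X).obj F) ≫
        (EtCoh.push f').map ((pullIso Λ g').hom.app F) := by
  apply ((EtCoh.pullPushAdj g).homEquiv _ _).injective
  refine ((EtCoh.pullPushAdj g).homEquiv_naturality_right _ _).trans
    (Eq.trans ?_ ((EtCoh.pullPushAdj g).homEquiv_naturality_right (EtCoh.baseChange0 f g f' g' w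
      ((EtModD.forgetToAb Λ X).obj F)) ((EtCoh.push f').map ((pullIso Λ g').hom.app F))).symm)
  refine Eq.trans ?_ (congrArg (fun a => CategoryStruct.comp a
    ((EtCoh.push g).map ((EtCoh.push f').map ((pullIso Λ g').hom.app F)))) (Equiv.apply_symm_apply _ _).symm)
  have h1 : (EtBC.pushToPushPull f g f' g' w).app ((EtModD.forgetToAb Λ X).obj F) =
      (EtCoh.push f).map ((EtCoh.pullPushAdj g').unit.app _) ≫ (EtCoh.pushComp f g').hom.app _ ≫
        (EtCoh.pushCongr w).hom.app _ ≫ (EtCoh.pushComp g f').inv.app _ := by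
    simp [EtBC.pushToPushPull]
    try rfl
  refine Eq.trans ?_ ((forget_pushToPushPullMod Λ f g f' g' w F).trans (congrArg (· ≫ _) h1))
  let u : (EtModD.forgetToAb Λ Y).obj ((EtModW.push Λ f).obj F) ⟶
      (EtCoh.push g).obj ((EtModD.forgetToAb Λ Y').obj ((EtModW.pull Λ g).obj ((EtModW.push Λ f).obj F))) :=
    (EtModD.forgetToAb Λ Y).map ((EtSix.pullPushModAdj Λ g).unit.app ((EtModW.push Λ f).obj F))
  have hu : ((EtCoh.pullPushAdj g).homEquiv _ _) ((pullIso Λ g).hom.app ((EtModW.push Λ f).obj F)) = u :=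
    ((EtCoh.pullPushAdj g).homEquiv_unit _ _ _).trans (unit_pullIso Λ g ((EtModW.push Λ f).obj F))
  refine (congrArg (fun a => CategoryStruct.comp a
    ((EtCoh.push g).map ((EtModD.forgetToAb Λ Y').map (EtSix.baseChange0Mod Λ f g f' g' w F)))) hu).trans ?_
  refine ((EtModD.forgetToAb Λ Y).map_comp _ ((EtModW.push Λ g).map (EtSix.baseChange0Mod Λ f g f' g' w F))).symm.trans
    (congrArg _ ?_)
  exact ((EtSix.pullPushModAdj Λ g).homEquiv_unit _ _ _).symm.trans (Equiv.apply_symm_apply _ _)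

/-- Proper base change in degree zero for sheaves of modules. -/
theorem isIso_baseChange0Mod [IsProper f] (h : IsPullback g' f' f g) (F : EtModW.Mod Λ X) :
    IsIso (EtSix.baseChange0Mod Λ f g f' g' h.w F) := by
  haveI := BigSets.isIso_baseChange0 h ((EtModD.forgetToAb Λ X).obj F)
  haveI : IsIso ((pullIso Λ g).hom.app ((EtModW.push Λ f).obj F) ≫
      (EtModD.forgetToAb Λ Y').map (EtSix.baseChange0Mod Λ f g f' g' h.w F)) := by
    rw [forget_baseChange0Mod Λ f g f' g' h.w F]
    exact IsIso.comp_isIso' inferInstance inferInstance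
  haveI := IsIso.of_isIso_comp_left ((pullIso Λ g).hom.app ((EtModW.push Λ f).obj F))
    ((EtModD.forgetToAb Λ Y').map (EtSix.baseChange0Mod Λ f g f' g' h.w F))
  exact isIso_of_reflects_iso _ (EtModD.forgetToAb Λ Y')

end Groth.L27.PBC.ModPull

end
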