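import Groth.Agent.L27.PBC.ModPointwise
import Groth.Agent.L10.KInjTransfer
import Groth.Agent.L10.KInjDerived
import Groth.Prelude.Def_W4c6etmotetsheavesDMod

/-! # Unbounded proper base change for modules over torsion rings -/

universe u

open CategoryTheory CategoryTheory.Limits AlgebraicGeometry Opposite CategoryTheory.Abelian CochainComplex
open Groth.L10.EtLocalBC (unitC bijective_homotopy_transpose)

attribute [local instance] HasDerivedCategory.standard

set_option autoImplicit false
set_option backward.defeqAttrib.useBackward true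
set_option backward.isDefEq.respectTransparency false
set_option backward.isDefEq.respectTransparency.types false
set_option linter.style.haveILetI false
set_option linter.unusedSectionVars false
set_option maxHeartbeats 800000
set_option synthInstance.maxHeartbeats 100000

noncomputable section

namespace Groth.L27.PBC.ModU

variable {X S X' S' : Scheme.{u}} {Λ : Type (u + 1)} [CommRing Λ]

instance isGrothendieckAbelian_Mod (X : Scheme.{u}) : IsGrothendieckAbelian.{u + 1} (EtModW.Mod Λ X) := inferInstance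

/-- The unit of an unbounded derived direct image. -/
abbrev U (f : X ⟶ S) [EtBC.HasRpushMod Λ f] : EtBC.pushModKh Λ f ⟶ DerivedCategory.Qh ⋙ EtBC.RpushModD Λ f :=
  (EtBC.pushModKh Λ f).totalRightDerivedUnit DerivedCategory.Qh
    (HomotopyCategory.quasiIso (EtModW.Mod Λ X) (ComplexShape.up ℤ))

/-- Complexes of acyclic modules compute the derived direct image. -/
theorem isIso_unit (f : X ⟶ S) [IsProper f] [EtBC.HasRpushMod Λ f] {n : ℕ} (hn : 0 < n) (hΛ : (n : Λ) = 0)
    (K : CochainComplex (EtModW.Mod Λ X) ℤ) (hK : ∀ i, Acyc Λ f (K.X i)) :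
    IsIso ((U (Λ := Λ) f).app ((HomotopyCategory.quotient _ _).obj K)) := by
  let qX := HomotopyCategory.quotient (EtModW.Mod Λ X) (ComplexShape.up ℤ)
  let qS := HomotopyCategory.quotient (EtModW.Mod Λ S) (ComplexShape.up ℤ)
  obtain ⟨J, t, hJ, ht, hinj⟩ := L10.KInjTransfer.exists_resolution.{u + 1} K
  haveI := quasiIso_push f hn hΛ t hK fun i => haveI := hinj i; acyc_injective f (J.X i)
  let G := (EtModW.push Λ f).mapHomologicalComplex (ComplexShape.up ℤ)
  haveI : IsIso ((U (Λ := Λ) f).app (qX.obj J)) := L10.KInjDerived.isIso_app_quotient _ J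
  haveI : IsIso ((EtBC.RpushModD Λ f).map (DerivedCategory.Qh.map (qX.map t))) := by
    haveI : IsIso (DerivedCategory.Qh.map (qX.map t)) :=
      Localization.inverts DerivedCategory.Qh (HomotopyCategory.quasiIso _ (ComplexShape.up ℤ)) _
        ((HomotopyCategory.quotient_map_mem_quasiIso_iff t).2 ((HomologicalComplex.mem_quasiIso_iff _).2 ht))
    infer_instance
  haveI : IsIso ((EtBC.pushModKh Λ f).map (qX.map t)) :=
    Localization.inverts DerivedCategory.Qh (HomotopyCategory.quasiIso _ (ComplexShape.up ℤ)) (qS.map (G.map t))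
      ((HomotopyCategory.quotient_map_mem_quasiIso_iff (G.map t)).2 ((HomologicalComplex.mem_quasiIso_iff _).2 ‹_›))
  haveI : IsIso ((U (Λ := Λ) f).app (qX.obj K) ≫ (EtBC.RpushModD Λ f).map (DerivedCategory.Qh.map (qX.map t))) := by
    have h := (U (Λ := Λ) f).naturality (qX.map t)
    exact (congrArg IsIso h).mp (IsIso.comp_isIso' ‹IsIso ((EtBC.pushModKh Λ f).map (qX.map t))›
      ‹IsIso ((U (Λ := Λ) f).app (qX.obj J))›)
  exact IsIso.of_isIso_comp_right _ ((EtBC.RpushModD Λ f).map (DerivedCategory.Qh.map (qX.map t)))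

theorem mapHomotopyCategoryCompIso_refl_inv_app {A B C : Type (u + 2)} [Category.{u + 1} A] [Category.{u + 1} B]
    [Category.{u + 1} C] [Preadditive A] [Preadditive B] [Preadditive C] (F : A ⥤ B) (G : B ⥤ C) [F.Additive]
    [G.Additive] (J : HomotopyCategory A (ComplexShape.up ℤ)) :
    (Functor.mapHomotopyCategoryCompIso (Iso.refl (F ⋙ G)) (ComplexShape.up ℤ)).inv.app J = 𝟙 _ := by
  obtain ⟨L, rfl⟩ := HomotopyCategory.quotient_obj_surjective J
  refine Eq.trans ?_ ((HomotopyCategory.quotient C (ComplexShape.up ℤ)).map_id _)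
  simp [Functor.mapHomotopyCategoryCompIso, Functor.mapHomologicalComplexCompIso, Quotient.natIsoLift]
  rfl

variable {f : X ⟶ S} {g : S' ⟶ S} {f' : X' ⟶ S'} {g' : X' ⟶ X}

/-- Acyclicity is stable under base change of proper morphisms. -/
theorem acyc_pull [IsProper f] (h : IsPullback g' f' f g) {n : ℕ} (hn : 0 < n) (hΛ : (n : Λ) = 0)
    {M : EtModW.Mod Λ X} (hM : Acyc Λ f M) : Acyc Λ f' ((EtModW.pull Λ g').obj M) := fun q hq =>
  (isZero_Rpush_baseChange f h _ (isTorsion_forget hn hΛ M) q (hM q hq)).of_iso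
    ((EtCoh.Rpush f' q).mapIso ((ModPull.pullIso Λ g').app M).symm)

variable (f g f' g') in
/-- Unbounded derived proper base change for modules over torsion rings. -/
theorem isIso_bcMapModD [IsProper f] (h : IsPullback g' f' f g) {n : ℕ} (hn : 0 < n) (hΛ : (n : Λ) = 0)
    [PreservesFiniteLimits (EtModW.pull Λ g)] [PreservesFiniteLimits (EtModW.pull Λ g')]
    [EtBC.HasRpushMod Λ f] [EtBC.HasRpushMod Λ f'] [EtBC.HasRpushMod Λ g]
    (adj : EtBC.pullModD Λ g ⊣ EtBC.RpushModD Λ g) (K : EtModD.D Λ X) :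
    IsIso (EtBC.bcMapModD Λ f g f' g' h.w adj K) := by
  haveI : IsProper f' := MorphismProperty.of_isPullback (P := @IsProper) h ‹IsProper f›
  let T : EtBC.RpushModD Λ f ⋙ EtBC.pullModD Λ g ⟶ EtBC.pullModD Λ g' ⋙ EtBC.RpushModD Λ f' :=
    Functor.whiskerRight (EtBC.bcAdjModD Λ f g f' g' h.w) _ ≫ (Functor.associator _ _ _).hom ≫
      Functor.whiskerLeft _ ((Functor.associator _ _ _).hom ≫ Functor.whiskerLeft _ adj.counit ≫
        (Functor.rightUnitor _).hom)
  have hT : ∀ M, EtBC.bcMapModD Λ f g f' g' h.w adj M = T.app M := fun M => by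
    simp [T, EtBC.bcMapModD, Adjunction.homEquiv_counit]
  obtain ⟨I, j, hI, hj, hinj⟩ := L10.KInjTransfer.exists_resolution.{u + 1}
    (DerivedCategory.Qh.objPreimage K).as
  let A := (HomotopyCategory.quotient (EtModW.Mod Λ X) (ComplexShape.up ℤ)).obj I
  let eA : DerivedCategory.Qh.obj A ≅ K :=
    haveI : IsIso (DerivedCategory.Qh.map ((HomotopyCategory.quotient _ _).map j)) :=
      Localization.inverts DerivedCategory.Qh (HomotopyCategory.quasiIso _ (ComplexShape.up ℤ)) _
        ((HomotopyCategory.quotient_map_mem_quasiIso_iff j).2 ((HomologicalComplex.mem_quasiIso_iff _).2 hj))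
    (asIso (DerivedCategory.Qh.map ((HomotopyCategory.quotient _ _).map j))).symm ≪≫
      DerivedCategory.Qh.objObjPreimageIso K
  rw [hT, ← NatTrans.isIso_app_iff_of_iso T eA, ← hT]
  haveI hUf : IsIso ((U (Λ := Λ) f).app A) := L10.KInjDerived.isIso_app_quotient _ I
  let PA := ((EtModW.pull Λ g').mapHomotopyCategory (ComplexShape.up ℤ)).obj A
  haveI hUf' : IsIso ((U (Λ := Λ) f').app PA) := isIso_unit f' hn hΛ
    (((EtModW.pull Λ g').mapHomologicalComplex (ComplexShape.up ℤ)).obj I)
    fun i => haveI := hinj i; acyc_pull h hn hΛ (acyc_injective f (I.X i))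
  let P := ((EtModW.push Λ f').mapHomotopyCategory (ComplexShape.up ℤ)).obj PA
  let e := (U (Λ := Λ) f').app PA ≫
    (EtBC.RpushModD Λ f').map ((EtModW.pull Λ g').mapDerivedCategoryFactorsh.inv.app A)
  haveI : IsIso e := inferInstance
  let θ := EtSix.pushToPushPullMod Λ f g f' g' h.w
  let θA := (HomotopyCategory.quotient (EtModW.Mod Λ S) (ComplexShape.up ℤ)).map
    ((NatTrans.mapHomologicalComplex θ (ComplexShape.up ℤ)).app I)
  have hfac : (U (Λ := Λ) f).app A ≫ (EtBC.bcAdjModD Λ f g f' g' h.w).app (DerivedCategory.Qh.obj A) =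
      DerivedCategory.Qh.map θA ≫ (U (Λ := Λ) g).app P ≫ (EtBC.RpushModD Λ g).map e := by
    refine ((EtBC.RpushModD Λ f).rightDerived_fac_app (U (Λ := Λ) f)
      (HomotopyCategory.quasiIso (EtModW.Mod Λ X) (ComplexShape.up ℤ)) _ _ A).trans ?_
    simp only [e, θA, θ, EtBC.bcUnitMod, Functor.map_comp, NatTrans.comp_app, Functor.whiskerRight_app,
      Functor.whiskerLeft_app, Functor.associator_hom_app, Functor.associator_inv_app, Category.comp_id,
      Category.id_comp, Category.assoc]
    rw [mapHomotopyCategoryCompIso_refl_inv_app, mapHomotopyCategoryCompIso_refl_inv_app]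
    refine congrArg₂ (· ≫ ·) rfl ?_
    erw [CategoryTheory.Functor.map_id]
    exact (Category.id_comp _).trans (Category.id_comp _)
  rw [isIso_iff_coyoneda_map_bijective]
  intro M
  obtain ⟨D, k, hD, hk, -⟩ := L10.KInjTransfer.exists_resolution.{u + 1} (DerivedCategory.Qh.objPreimage M).as
  let B := (HomotopyCategory.quotient (EtModW.Mod Λ S') (ComplexShape.up ℤ)).obj D
  let eM : DerivedCategory.Qh.obj B ≅ M :=
    haveI : IsIso (DerivedCategory.Qh.map ((HomotopyCategory.quotient _ _).map k)) :=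
      Localization.inverts DerivedCategory.Qh (HomotopyCategory.quasiIso _ (ComplexShape.up ℤ)) _
        ((HomotopyCategory.quotient_map_mem_quasiIso_iff k).2 ((HomologicalComplex.mem_quasiIso_iff _).2 hk))
    (asIso (DerivedCategory.Qh.map ((HomotopyCategory.quotient _ _).map k))).symm ≪≫
      DerivedCategory.Qh.objObjPreimageIso M
  haveI hUg : IsIso ((U (Λ := Λ) g).app B) := L10.KInjDerived.isIso_app_quotient _ D
  haveI : PreservesFiniteColimits (EtModW.pull Λ g) :=
    haveI := (EtSix.pullPushModAdj Λ g).leftAdjoint_preservesColimits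
    inferInstance
  haveI hgD : CochainComplex.IsKInjective (((EtModW.push Λ g).mapHomologicalComplex _).obj D) :=
    L10.KInjTransfer.isKInjective_map (EtSix.pullPushModAdj Λ g) D
  let Γ : (P ⟶ B) → (((EtModW.push Λ f).mapHomotopyCategory _).obj A ⟶
      ((EtModW.push Λ g).mapHomotopyCategory _).obj B) := fun ψ =>
    θA ≫ ((EtModW.push Λ g).mapHomotopyCategory (ComplexShape.up ℤ)).map ψ
  have hΓ : Function.Bijective Γ := by
    haveI : IsIso (ModBc.bcC f g f' g' h.w I) :=
      haveI : ∀ m, IsIso ((ModBc.bcC f g f' g' h.w I).f m) := fun m =>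
        ModPull.isIso_baseChange0Mod Λ f g f' g' h (I.X m)
      HomologicalComplex.Hom.isIso_of_components _
    have e' : Γ = (fun x => (HomotopyCategory.quotient _ _).map
          (unitC (EtSix.pullPushModAdj Λ g) (((EtModW.push Λ f).mapHomologicalComplex _).obj I)) ≫
            ((EtModW.push Λ g).mapHomotopyCategory _).map x) ∘
        (fun ψ => (HomotopyCategory.quotient _ _).map (ModBc.bcC f g f' g' h.w I) ≫ ψ) := by
      funext ψ
      refine (congrArg (· ≫ _) ((congrArg _ (ModBc.unitC_comp_bcC f g f' g' h.w I).symm).trans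
        ((HomotopyCategory.quotient _ _).map_comp _ _))).trans ((Category.assoc _ _ _).trans ?_)
      exact congrArg (_ ≫ ·) (((EtModW.push Λ g).mapHomotopyCategory (ComplexShape.up ℤ)).map_comp
        ((HomotopyCategory.quotient _ _).map (ModBc.bcC f g f' g' h.w I)) ψ).symm
    rw [e']
    exact (bijective_homotopy_transpose _ _ _).comp
      (Iso.homFromEquiv (asIso ((HomotopyCategory.quotient _ _).map (ModBc.bcC f g f' g' h.w I))).symm).bijective
  let Rg := EtBC.RpushModD Λ g
  let Φ' : (((EtModW.push Λ f).mapHomotopyCategory _).obj A ⟶ ((EtModW.push Λ g).mapHomotopyCategory _).obj B) →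
      ((EtBC.RpushModD Λ f).obj (DerivedCategory.Qh.obj A) ⟶ Rg.obj M) := fun x =>
    inv ((U (Λ := Λ) f).app A) ≫ DerivedCategory.Qh.map x ≫ (U (Λ := Λ) g).app B ≫ Rg.map eM.hom
  have hΦ : Function.Bijective Φ' :=
    (Iso.homFromEquiv (asIso ((U (Λ := Λ) f).app A))).bijective.comp
      ((Iso.homToEquiv (asIso ((U (Λ := Λ) g).app B ≫ Rg.map eM.hom))).bijective.comp
        (L10.KInjDerived.qh_bijective _ ⟨((EtModW.push Λ g).mapHomotopyCategory _).obj B, hgD⟩))
  have hQ : Function.Bijective (fun ψ : P ⟶ B => inv e ≫ DerivedCategory.Qh.map ψ ≫ eM.hom) :=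
    (Iso.homFromEquiv (asIso e)).bijective.comp
      ((Iso.homToEquiv eM).bijective.comp (L10.KInjDerived.qh_bijective P ⟨B, hD⟩))
  have key : ∀ ψ, (EtBC.bcAdjModD Λ f g f' g' h.w).app (DerivedCategory.Qh.obj A) ≫
      Rg.map (inv e ≫ DerivedCategory.Qh.map ψ ≫ eM.hom) = Φ' (Γ ψ) := by
    intro ψ
    rw [← cancel_epi ((U (Λ := Λ) f).app A)]
    simp only [Φ', IsIso.hom_inv_id_assoc]
    rw [reassoc_of% hfac]
    erw [← Functor.map_comp Rg e, IsIso.hom_inv_id_assoc]
    simp only [Γ, Functor.map_comp, Category.assoc]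
    refine congrArg (DerivedCategory.Qh.map θA ≫ ·) ?_
    exact ((U (Λ := Λ) g).naturality_assoc ψ (Rg.map eM.hom)).symm
  have hb : Function.Bijective (fun φ : (EtBC.RpushModD Λ f').obj
      ((EtBC.pullModD Λ g').obj (DerivedCategory.Qh.obj A)) ⟶ M =>
      (EtBC.bcAdjModD Λ f g f' g' h.w).app (DerivedCategory.Qh.obj A) ≫ Rg.map φ) := by
    refine (Function.Bijective.of_comp_iff _ hQ).1 ?_
    rw [show (fun φ : (EtBC.RpushModD Λ f').obj ((EtBC.pullModD Λ g').obj (DerivedCategory.Qh.obj A)) ⟶ M =>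
      (EtBC.bcAdjModD Λ f g f' g' h.w).app (DerivedCategory.Qh.obj A) ≫ Rg.map φ) ∘
      (fun ψ : P ⟶ B => inv e ≫ DerivedCategory.Qh.map ψ ≫ eM.hom) = Φ' ∘ Γ from funext key]
    exact hΦ.comp hΓ
  have heq : (fun φ => EtBC.bcMapModD Λ f g f' g' h.w adj (DerivedCategory.Qh.obj A) ≫ φ) =
      (adj.homEquiv _ M).symm ∘
      (fun φ => (EtBC.bcAdjModD Λ f g f' g' h.w).app (DerivedCategory.Qh.obj A) ≫ Rg.map φ) :=
    funext fun φ => (adj.homEquiv_naturality_right_symm _ φ).symm
  show Function.Bijective (fun φ => EtBC.bcMapModD Λ f g f' g' h.w adj (DerivedCategory.Qh.obj A) ≫ φ)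
  rw [heq]
  exact (Equiv.bijective _).comp hb

end Groth.L27.PBC.ModU
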