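import Groth.Agent.L27.PBC.GeoLift
import Groth.Agent.L27.PBC.CurveConst
import Groth.Agent.L27.PBC.CurveField
import Groth.Agent.S3520

/-! # Constant classes of a one-dimensional closed fibre lift -/

set_option autoImplicit false
set_option linter.style.haveILetI false
set_option linter.unusedSectionVars false
set_option backward.isDefEq.respectTransparency.types false

universe u

open CategoryTheory CategoryTheory.Limits AlgebraicGeometry Opposite TopologicalSpace

noncomputable section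

namespace Groth.L27.PBC

open Groth.L27.LimCoh

variable {A : Type u} [CommRing A] [HenselianLocalRing A] [IsSepClosed (IsLocalRing.ResidueField A)]
  {X : Scheme.{u}} (f : X ⟶ Spec (CommRingCat.of A))

/-- The closed point of the base. -/
abbrev clA (A : Type u) [CommRing A] [IsLocalRing A] :
    Spec (CommRingCat.of (IsLocalRing.ResidueField A)) ⟶ Spec (CommRingCat.of A) :=
  Spec.map (CommRingCat.ofHom (IsLocalRing.residue A))

theorem range_cf : Set.range (pullback.fst f (clA A)) = f ⁻¹' {IsLocalRing.closedPoint A} := by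
  rw [Scheme.Pullback.range_fst]
  congr 1
  refine Set.eq_singleton_iff_unique_mem.2 ⟨⟨(default : PrimeSpectrum (IsLocalRing.ResidueField A)), ?_⟩, ?_⟩
  · exact IsLocalRing.PrimeSpectrum.comap_residue A (default : PrimeSpectrum (IsLocalRing.ResidueField A))
  · rintro _ ⟨t, rfl⟩
    exact IsLocalRing.PrimeSpectrum.comap_residue A t

theorem exists_zeta (n : ℕ) [NeZero n] (hn : IsUnit (n : A)) :
    ∃ ζ : A, Polynomial.aeval ζ (Polynomial.cyclotomic n ℤ) = 0 := by
  let k := IsLocalRing.ResidueField A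
  have hnk : (n : k) ≠ 0 := by
    have := (hn.map (IsLocalRing.residue A)).ne_zero
    rwa [map_natCast] at this
  haveI : NeZero (n : k) := ⟨hnk⟩
  have hsep : (Polynomial.cyclotomic n k).Separable :=
    (Polynomial.separable_X_pow_sub_C (n := n) (1 : k) hnk one_ne_zero).of_dvd
      (by rw [map_one]; exact Polynomial.cyclotomic.dvd_X_pow_sub_one n k)
  obtain ⟨a, ha⟩ := IsSepClosed.exists_root (Polynomial.cyclotomic n k)
    (Polynomial.degree_cyclotomic_pos n k (NeZero.pos n)).ne' hsep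
  obtain ⟨a₀, rfl⟩ := IsLocalRing.residue_surjective a
  have hev : ∀ P : Polynomial A, IsLocalRing.residue A (P.eval a₀) =
      (P.map (IsLocalRing.residue A)).eval (IsLocalRing.residue A a₀) := fun P =>
    (Polynomial.eval_map_apply (IsLocalRing.residue A) a₀).symm
  have h1 : (Polynomial.cyclotomic n A).eval a₀ ∈ IsLocalRing.maximalIdeal A := by
    rw [← IsLocalRing.residue_eq_zero_iff, hev, Polynomial.map_cyclotomic]
    exact ha
  have h2 : IsUnit ((Polynomial.cyclotomic n A).derivative.eval a₀) := by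
    rw [← IsLocalRing.residue_ne_zero_iff_isUnit, hev, ← Polynomial.derivative_map, Polynomial.map_cyclotomic]
    exact hsep.eval₂_derivative_ne_zero (RingHom.id k) (by simpa using ha)
  obtain ⟨z, hz, -⟩ := HenselianLocalRing.is_henselian _ (Polynomial.cyclotomic.monic n A) a₀ h1 h2
  refine ⟨z, ?_⟩
  rw [Polynomial.aeval_def, Polynomial.eval₂_eq_eval_map, Polynomial.map_cyclotomic]
  exact hz

theorem pow_eq_one_of_aeval {R : Type u} [CommRing R] {n : ℕ} {ζ : R}
    (h : Polynomial.aeval ζ (Polynomial.cyclotomic n ℤ) = 0) : ζ ^ n = 1 := by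
  obtain ⟨Q, hQ⟩ := Polynomial.cyclotomic.dvd_X_pow_sub_one n ℤ
  have := congrArg (Polynomial.aeval ζ) hQ
  simp only [map_sub, map_pow, Polynomial.aeval_X, map_one, map_mul, h, zero_mul, sub_eq_zero] at this
  exact this

variable [IsProper f] [PreservesFiniteLimits (EtCoh.pull (pullback.fst f (clA A)))]
  (hdim : topologicalKrullDim ↥(pullback f (clA A)) ≤ 1)

include hdim

theorem surjective_two_ell {ℓ : ℕ} (hℓ : ℓ.Prime) (ν : ℕ) (hk : (ℓ : IsLocalRing.ResidueField A) ≠ 0) :
    Function.Surjective (EtCore.Hpull (pullback.fst f (clA A)) (EtCoh.const X (ZMod (ℓ ^ ν))) 2) := by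
  let i := pullback.fst f (clA A)
  let f₀ := pullback.snd f (clA A)
  haveI : IsLocallyNoetherian (pullback f (clA A)) := LocallyOfFiniteType.isLocallyNoetherian f₀
  haveI : CompactSpace ↥(pullback f (clA A)) := QuasiCompact.compactSpace_of_compactSpace f₀
  haveI : IsNoetherian (pullback f (clA A)) := {}
  haveI : IsClosedImmersion i := MorphismProperty.pullback_fst (P := @IsClosedImmersion) _ _
    (IsClosedImmersion.spec_of_surjective _ IsLocalRing.residue_surjective)
  haveI : NeZero (ℓ ^ ν) := ⟨pow_ne_zero _ hℓ.ne_zero⟩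
  have hn : IsUnit ((ℓ ^ ν : ℕ) : A) := by
    rw [Nat.cast_pow]
    refine IsUnit.pow _ ((IsLocalRing.residue_ne_zero_iff_isUnit _).1 ?_)
    rwa [map_natCast]
  obtain ⟨z, hz⟩ := exists_zeta (ℓ ^ ν) hn
  let φ : A →+* Γ(X, ⊤) := Coh.toGlobal f
  let ζ := φ z
  have hζ : Polynomial.aeval ζ (Polynomial.cyclotomic (ℓ ^ ν) ℤ) = 0 :=
    (Polynomial.aeval_algHom_apply φ.toIntAlgHom z _).trans ((congrArg φ hz).trans (map_zero φ))
  have hζ' : Polynomial.aeval (i.appTop ζ) (Polynomial.cyclotomic (ℓ ^ ν) ℤ) = 0 :=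
    (Polynomial.aeval_algHom_apply i.appTop.hom.toIntAlgHom ζ _).trans
      ((congrArg i.appTop.hom hζ).trans (map_zero i.appTop.hom))
  have hu : IsUnit ((ℓ ^ ν : ℕ) : Γ(X, ⊤)) := by
    have := hn.map φ
    rwa [map_natCast] at this
  have hu' : IsUnit ((ℓ ^ ν : ℕ) : Γ(pullback f (clA A), ⊤)) := by
    have := hu.map i.appTop.hom
    rwa [map_natCast] at this
  have hinv : Dix.InvertibleOn (pullback f (clA A)) ℓ := fun x hx => hk (by
    let ρ : IsLocalRing.ResidueField A →+* (pullback f (clA A)).residueField x :=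
      ((pullback f (clA A)).evaluation ⊤ x trivial).hom.comp (Coh.toGlobal f₀)
    exact ρ.injective ((map_natCast ρ ℓ).trans (hx.trans (map_zero ρ).symm)))
  have hS := kSC_shortExact (ℓ ^ ν) ζ (pow_eq_one_of_aeval hζ) hu hζ
  have hS' := kSC_shortExact (ℓ ^ ν) (i.appTop ζ) (pow_eq_one_of_aeval hζ') hu' hζ'
  intro c
  let S := kSC (ℓ ^ ν) (i.appTop ζ) (pow_eq_one_of_aeval hζ')
  let c' : EtCoh.H _ S.X₁ 2 := (EtCoh.HF _ 2).map (EtCore.pullConst i (ZMod (ℓ ^ ν))).hom c
  let d : EtCoh.H _ (EtCoh.Gm (pullback f (clA A))) 2 := (EtCoh.HF _ 2).map S.f c'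
  have hd : (ℓ ^ ν) • d = 0 := by
    refine (L28.GmTorsion.comp_mk₀_powMap (ℓ ^ ν) 2 d).symm.trans ?_
    refine (EtSite.HF_map_apply _ 2 d).symm.trans ?_
    refine (HF_map_comp S.f S.g 2 c').symm.trans ?_
    rw [S.zero]
    exact (EtSite.HF_map_apply _ 2 c').trans (by rw [Abelian.Ext.mk₀_zero, Abelian.Ext.comp_zero]; rfl)
  have hd0 : d = 0 := Groth.Agent.S3520.result (pullback f (clA A)) hdim ℓ hℓ hinv
    (fun x _ => cohDimLEAt_residue f₀ hdim x ℓ hℓ.pos)
    (fun x hx => L28.CurveCd.isSepClosed_residueField f₀ x hx) 2 le_rfl d ⟨ν, hd⟩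
  obtain ⟨b, hb⟩ := exists_δH hS' 1 c' hd0
  obtain ⟨x, hx⟩ := exists_preimage_gm i (geoLift f i (range_cf f)) hdim b
  obtain ⟨y, hy⟩ := mem_range_of_gm (ℓ ^ ν) ζ (pow_eq_one_of_aeval hζ) i hS (pow_eq_one_of_aeval hζ') hS' 1 b x hx
  exact ⟨y, (ConcreteCategory.bijective_of_isIso ((EtCoh.HF _ 2).map (EtCore.pullConst i (ZMod (ℓ ^ ν))).hom)).1
    (hy.trans hb)⟩

/-- Constant classes of positive degree on a closed fibre of dimension at most one lift. -/
theorem surjective_curve (M : Type) [AddCommGroup M] [Finite M] (q : ℕ) :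
    Function.Surjective (EtCore.Hpull (pullback.fst f (clA A)) (EtCoh.const X M) (q + 1)) := by
  let f₀ := pullback.snd f (clA A)
  match q with
  | 0 =>
    exact (@ProperH1.bijective_one_const A _ (IsLocalRing.maximalIdeal A) _ X f _
      ‹PreservesFiniteLimits (EtCoh.pull (pullback.fst f (clA A)))› M _ _).2
  | 1 =>
    refine surjective_of_cyclic (pullback.fst f (clA A)) 2 (fun p ν hp => ?_) M
    by_cases hk : (p : IsLocalRing.ResidueField A) = 0
    · haveI : Fact p.Prime := ⟨hp⟩
      haveI : CharP (IsLocalRing.ResidueField A) p := (CharP.charP_iff_prime_eq_zero hp).2 hk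
      haveI := subsingleton_pPow p f₀ hdim ν 2 le_rfl
      intro c
      exact ⟨0, (ConcreteCategory.bijective_of_isIso
        ((EtCoh.HF _ 2).map (EtCore.pullConst (pullback.fst f (clA A)) (ZMod (p ^ ν))).hom)).1
        (Subsingleton.elim (α := EtCoh.H (pullback f (clA A)) (EtCoh.const _ (ZMod (p ^ ν))) 2) _ _)⟩
    · exact surjective_two_ell f hdim hp ν hk
  | q + 2 =>
    haveI := subsingleton_gt_two f₀ hdim _ (L28.CurveCd.isTorsion_pull (pullback.fst f (clA A))
      (isTorsion_const X M)) q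
    exact fun c => ⟨0, Subsingleton.elim (α := EtCoh.H (pullback f (clA A)) _ (q + 3)) _ _⟩

end Groth.L27.PBC
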