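import Groth.Agent.L28.CurveCd.Maximal
import Mathlib.AlgebraicGeometry.Noetherian
import Mathlib.AlgebraicGeometry.AffineScheme
import Mathlib.RingTheory.Ideal.Operations

/-! # Points of a one-dimensional Noetherian scheme -/

set_option autoImplicit false
set_option linter.style.haveILetI false
set_option backward.isDefEq.respectTransparency.types false

universe u

open CategoryTheory AlgebraicGeometry TopologicalSpace

noncomputable section

namespace Groth.L27.PBC

/-- Maximal points (generic points of irreducible components). -/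
def IsMaxPoint {T : Type u} [TopologicalSpace T] (x : T) : Prop := ∀ y : T, y ⤳ x → y = x

theorem exists_maxPoint {T : Type u} [TopologicalSpace T] [QuasiSober T] [T0Space T] (x : T) :
    ∃ η : T, IsMaxPoint η ∧ η ⤳ x := by
  obtain ⟨η, hη⟩ := QuasiSober.sober (isIrreducible_irreducibleComponent (x := x)) isClosed_irreducibleComponent
  refine ⟨η, fun y hy => ?_, hη.specializes mem_irreducibleComponent⟩
  have hmax := irreducibleComponent_mem_irreducibleComponents x
  have hsub : irreducibleComponent x ⊆ closure {y} := hη.def ▸ specializes_iff_closure_subset.1 hy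
  have he : closure ({y} : Set T) = irreducibleComponent x :=
    le_antisymm (hmax.2 isIrreducible_singleton.closure hsub) hsub
  exact ((show IsGenericPoint y (irreducibleComponent x) from he).eq hη)

theorem finite_maxPoint {T : Type u} [TopologicalSpace T] [NoetherianSpace T] [T0Space T] :
    {x : T | IsMaxPoint x}.Finite ∨ ¬ QuasiSober T := by
  by_cases hs : QuasiSober T
  swap
  · exact Or.inr hs
  left
  refine Set.Finite.of_finite_image (f := fun x => closure ({x} : Set T))
    ((NoetherianSpace.finite_irreducibleComponents (α := T)).subset ?_) fun x _ y _ e => ?_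
  · rintro _ ⟨x, hx, rfl⟩
    refine ⟨isIrreducible_singleton.closure, fun U hU hsub => ?_⟩
    obtain ⟨η, hη⟩ := QuasiSober.sober hU.closure isClosed_closure
    have : η = x := hx η (hη.specializes (subset_closure (hsub (subset_closure rfl))))
    subst this
    show U ⊆ closure {η}
    rw [hη.def]
    exact subset_closure
  · exact ((inseparable_iff_closure_eq.2 e) : Inseparable x y).eq

theorem finite_maxPoints (Z : Scheme.{u}) [NoetherianSpace Z] : {x : Z | IsMaxPoint x}.Finite :=
  finite_maxPoint.resolve_right fun h => h inferInstance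

/-- A closed set of closed points of a Noetherian scheme is finite. -/
theorem finite_of_closed_points {T : Type u} [TopologicalSpace T] [NoetherianSpace T] [QuasiSober T] [T0Space T]
    {A : Set T} (hA : IsClosed A) (hcl : ∀ a ∈ A, IsClosed ({a} : Set T)) : A.Finite := by
  obtain ⟨S, hSf, hScl, hSirr, rfl⟩ := NoetherianSpace.exists_finite_set_isClosed_irreducible hA
  refine Set.Finite.sUnion hSf fun B hB => ?_
  obtain ⟨η, hη⟩ := QuasiSober.sober (hSirr B hB) (hScl B hB)
  have hmem : η ∈ B := hη.mem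
  rw [← hη.def, (hcl η ⟨B, hB, hmem⟩).closure_eq]
  exact Set.finite_singleton η

variable {Z : Scheme.{u}} [IsNoetherian Z]

theorem mem_basicOpen_iff_notMem {N : Z.Opens} (hN : IsAffineOpen N) (r : Γ(Z, N)) (y : N) :
    (y : Z) ∈ Z.basicOpen r ↔ r ∉ (hN.primeIdealOf y).asIdeal := by
  have e : hN.primeIdealOf y ∈ hN.fromSpec ⁻¹ᵁ Z.basicOpen r ↔ (y : Z) ∈ Z.basicOpen r := by
    show hN.fromSpec (hN.primeIdealOf y) ∈ Z.basicOpen r ↔ _
    rw [hN.fromSpec_primeIdealOf]
  rw [← e, hN.fromSpec_preimage_basicOpen]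
  rfl

/-- Near a non-maximal closed point of a curve there is an affine open with a function invertible exactly off it. -/
theorem exists_parameter (hdim : topologicalKrullDim Z ≤ 1) (x : Z)
    (hx : ¬ IsMaxPoint x) (W : Z.Opens) (hxW : x ∈ W) :
    ∃ (N : Z.Opens) (t : Γ(Z, N)), IsAffineOpen N ∧ x ∈ N ∧ N ≤ W ∧ x ∉ Z.basicOpen t ∧
      (N : Set Z) \ {x} ⊆ Z.basicOpen t := by
  classical
  obtain ⟨N₁, hN₁, hxN₁, hN₁W⟩ := exists_isAffineOpen_mem_and_subset hxW
  let P : N₁ → Ideal Γ(Z, N₁) := fun y => (hN₁.primeIdealOf y).asIdeal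
  have hfin : ({y : N₁ | IsMaxPoint (y : Z)}).Finite :=
    (finite_maxPoints Z).preimage Subtype.val_injective.injOn
  obtain ⟨t, htx, ht⟩ : ∃ t ∈ P ⟨x, hxN₁⟩, ∀ y : N₁, IsMaxPoint (y : Z) → t ∉ P y := by
    by_contra hno
    push Not at hno
    have hsub : (P ⟨x, hxN₁⟩ : Set Γ(Z, N₁)) ⊆ ⋃ y ∈ (SetLike.coe hfin.toFinset), (P y : Set Γ(Z, N₁)) := fun t ht => by
      obtain ⟨y, hy, hty⟩ := hno t ht
      exact Set.mem_iUnion₂.2 ⟨y, by simpa using hy, hty⟩
    obtain ⟨y, hy, hle⟩ := (Ideal.subset_union_prime (f := P) ⟨x, hxN₁⟩ ⟨x, hxN₁⟩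
      (fun i _ _ _ => (hN₁.primeIdealOf i).isPrime)).1 hsub
    have hy' : IsMaxPoint (y : Z) := by simpa using hy
    have hs : hN₁.primeIdealOf ⟨x, hxN₁⟩ ⤳ hN₁.primeIdealOf y := (PrimeSpectrum.le_iff_specializes _ _).1 hle
    have hs' := hs.map (f := hN₁.fromSpec) hN₁.fromSpec.continuous
    rw [hN₁.fromSpec_primeIdealOf, hN₁.fromSpec_primeIdealOf] at hs'
    exact hx (hy' x hs' ▸ hy')
  have hbad : ∀ y : N₁, (y : Z) ∉ Z.basicOpen t → IsClosed ({(y : Z)} : Set Z) := fun y hy =>
    (L28.CurveCd.isClosed_or_maximal hdim (y : Z)).resolve_right fun hmax => by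
      have := ht y hmax
      rw [← mem_basicOpen_iff_notMem hN₁] at this
      exact hy this
  have hxt : x ∉ Z.basicOpen t := fun h => (mem_basicOpen_iff_notMem hN₁ t ⟨x, hxN₁⟩).1 h htx
  let A : Set (N₁ : Scheme.{u}) := {y | (N₁.ι y : Z) ∉ Z.basicOpen t}
  have hA : A.Finite := by
    haveI : NoetherianSpace (N₁ : Scheme.{u}) := N₁.isOpenEmbedding'.isInducing.noetherianSpace
    refine finite_of_closed_points ((Z.basicOpen t).isOpen.preimage N₁.ι.continuous).isClosed_compl fun a ha => ?_
    have h := (hbad a ha).preimage N₁.ι.continuous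
    rwa [show (a : N₁).1 = N₁.ι a from rfl, ← Set.image_singleton, Set.preimage_image_eq _ N₁.ι.isOpenEmbedding.injective] at h
  let B : Set Z := (N₁.ι '' A) \ {x}
  have hBc : IsClosed B := by
    have hBf : B.Finite := (hA.image _).subset Set.diff_subset
    rw [← Set.biUnion_of_singleton B]
    exact hBf.isClosed_biUnion fun b hb => by
      obtain ⟨a, ha, rfl⟩ := hb.1
      exact hbad a ha
  let W' : Z.Opens := ⟨Bᶜ, hBc.isOpen_compl⟩
  obtain ⟨h, hle, hxh⟩ := hN₁.exists_basicOpen_le (V := W') ⟨x, fun hb => hb.2 rfl⟩ hxN₁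
  refine ⟨Z.basicOpen h, Z.presheaf.map (homOfLE (Z.basicOpen_le h)).op t, hN₁.basicOpen h, hxh,
    (Z.basicOpen_le h).trans hN₁W, ?_, ?_⟩
  · rw [Scheme.basicOpen_res]
    exact fun hh => hxt hh.2
  · rintro y ⟨hy, hyx⟩
    rw [Scheme.basicOpen_res]
    refine ⟨hy, ?_⟩
    by_contra hyt
    exact hle hy ⟨⟨⟨y, Z.basicOpen_le h hy⟩, hyt, rfl⟩, hyx⟩

end Groth.L27.PBC
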