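import Groth.Agent.S0503
import Mathlib.AlgebraicGeometry.ZariskisMainTheorem
import Mathlib.RingTheory.Spectrum.Prime.Topology

/-! # Finite neighbourhoods of isolated points of closed fibres over a henselian local ring -/

set_option autoImplicit false
set_option linter.style.haveILetI false
set_option backward.isDefEq.respectTransparency.types false

universe u

open CategoryTheory CategoryTheory.Limits AlgebraicGeometry TopologicalSpace

noncomputable section

namespace Groth.L27.PBC

variable {A : Type u} [CommRing A] [HenselianLocalRing A]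

/-- An isolated point of the closed fibre has an open neighbourhood that is finite over the base. -/
theorem exists_finite_nhd (R : Type u) [CommRing R] [Algebra A R] [Algebra.FiniteType A R] (P : PrimeSpectrum R)
    (hP : PrimeSpectrum.comap (algebraMap A R) P = IsLocalRing.closedPoint A)
    (huniq : ∀ P', PrimeSpectrum.comap (algebraMap A R) P' = IsLocalRing.closedPoint A → P' = P) :
    ∃ (R' : Type u) (_ : CommRing R') (_ : Algebra A R') (φ : R →ₐ[A] R'), Module.Finite A R' ∧
      IsOpen (Set.range (PrimeSpectrum.comap φ.toRingHom)) ∧ P ∈ Set.range (PrimeSpectrum.comap φ.toRingHom) := by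
  let p : Spec (CommRingCat.of R) ⟶ Spec (CommRingCat.of A) := Spec.map (CommRingCat.ofHom (algebraMap A R))
  haveI : LocallyOfFiniteType p := by
    rw [HasRingHomProperty.Spec_iff (P := @LocallyOfFiniteType)]
    exact RingHom.finiteType_algebraMap.2 inferInstance
  have hqf : p.QuasiFiniteAt P := by
    rw [Scheme.Hom.quasiFiniteAt_iff_isOpen_singleton_asFiber]
    haveI : Subsingleton (p.fiber (p P)) := by
      refine ⟨fun a b => ?_⟩
      apply (p.fiberHomeo (p P)).injective
      refine Subtype.ext ?_
      exact (huniq _ ((p.fiberHomeo (p P) a).2.trans hP)).trans (huniq _ ((p.fiberHomeo (p P) b).2.trans hP)).symm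
    exact isOpen_discrete _
  obtain ⟨h, hPh, hle⟩ : ∃ h : R, P ∈ PrimeSpectrum.basicOpen h ∧
      (SetLike.coe (PrimeSpectrum.basicOpen h)) ⊆ ({y | p.QuasiFiniteAt y} : Set (PrimeSpectrum R)) := by
    obtain ⟨_, ⟨h, rfl⟩, hPh, hle⟩ := PrimeSpectrum.isTopologicalBasis_basic_opens.exists_subset_of_mem_open
      (u := ({y | p.QuasiFiniteAt y} : Set (PrimeSpectrum R))) hqf p.isOpen_quasiFiniteAt
    exact ⟨h, hPh, hle⟩
  let S := Localization.Away h
  haveI : Algebra.FiniteType A S :=
    Algebra.FiniteType.trans inferInstance (IsLocalization.finiteType_of_monoid_fg (Submonoid.powers h) S)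
  let j : Spec (CommRingCat.of S) ⟶ Spec (CommRingCat.of R) := Spec.map (CommRingCat.ofHom (algebraMap R S))
  haveI : IsOpenImmersion j := IsOpenImmersion.of_isLocalization (R := R) (S := S) h
  have hj : Set.range j = SetLike.coe (PrimeSpectrum.basicOpen h) := PrimeSpectrum.localization_away_comap_range S h
  have hjp : j ≫ p = Spec.map (CommRingCat.ofHom (algebraMap A S)) := by
    rw [← Spec.map_comp, ← CommRingCat.ofHom_comp, ← IsScalarTower.algebraMap_eq]
  haveI : LocallyQuasiFinite (j ≫ p) := by
    let k : Spec (CommRingCat.of S) ⟶ (p.quasiFiniteLocus : Scheme.{u}) :=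
      IsOpenImmersion.lift p.quasiFiniteLocus.ι j (by rw [Scheme.Opens.range_ι, hj]; exact hle)
    have hk : k ≫ p.quasiFiniteLocus.ι = j := IsOpenImmersion.lift_fac _ _ _
    haveI : IsOpenImmersion (k ≫ p.quasiFiniteLocus.ι) := by rw [hk]; infer_instance
    haveI : IsOpenImmersion k := IsOpenImmersion.of_comp k p.quasiFiniteLocus.ι
    rw [← hk, Category.assoc]
    infer_instance
  haveI : Algebra.QuasiFinite A S := by
    have h' : LocallyQuasiFinite (Spec.map (CommRingCat.ofHom (algebraMap A S))) := hjp ▸ inferInstance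
    rw [HasRingHomProperty.Spec_iff (P := @LocallyQuasiFinite)] at h'
    exact RingHom.quasiFinite_algebraMap.1 h'
  obtain ⟨e, he, hfin, htop⟩ := Groth.Agent.S0503.result A S
  let J := Ideal.span ({1 - e} : Set S)
  refine ⟨S ⧸ J, inferInstance, inferInstance, (Ideal.Quotient.mkₐ A J).comp (IsScalarTower.toAlgHom A R S),
    hfin, ?_, ?_⟩
  · have hrange : Set.range (PrimeSpectrum.comap (Ideal.Quotient.mk J)) = PrimeSpectrum.basicOpen e := by
      rw [range_comap_of_surjective _ _ Ideal.Quotient.mk_surjective, Ideal.mk_ker, PrimeSpectrum.zeroLocus_span,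
        PrimeSpectrum.basicOpen_eq_zeroLocus_of_isIdempotentElem _ he]
    have : Set.range (PrimeSpectrum.comap ((Ideal.Quotient.mk J).comp (algebraMap R S))) =
        PrimeSpectrum.comap (algebraMap R S) '' PrimeSpectrum.basicOpen e := by
      rw [PrimeSpectrum.comap_comp, Set.range_comp, hrange]
    exact this ▸ (PrimeSpectrum.localization_away_isOpenEmbedding S h).isOpenMap _ (PrimeSpectrum.basicOpen e).isOpen
  · obtain ⟨Q, hQ⟩ : P ∈ Set.range (PrimeSpectrum.comap (algebraMap R S)) := by
      rw [PrimeSpectrum.localization_away_comap_range S h]; exact hPh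
    have hQm : Q.asIdeal.comap (algebraMap A S) = IsLocalRing.maximalIdeal A := by
      rw [IsScalarTower.algebraMap_eq A R S, ← Ideal.comap_comap]
      exact congrArg PrimeSpectrum.asIdeal ((congrArg (PrimeSpectrum.comap (algebraMap A R)) hQ).trans hP)
    have heQ : e ∉ Q.asIdeal := fun heQ => by
      have hle' : Ideal.map (algebraMap A (S ⧸ Ideal.span ({e} : Set S))) (IsLocalRing.maximalIdeal A) ≤
          Q.asIdeal.map (Ideal.Quotient.mk _) := by
        rw [IsScalarTower.algebraMap_eq A S (S ⧸ Ideal.span ({e} : Set S)), Ideal.Quotient.algebraMap_eq, ← Ideal.map_map]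
        exact Ideal.map_mono (Ideal.map_le_iff_le_comap.2 hQm.ge)
      rw [htop, top_le_iff] at hle'
      have := congrArg (Ideal.comap (Ideal.Quotient.mk (Ideal.span ({e} : Set S)))) hle'
      rw [Ideal.comap_map_of_surjective _ Ideal.Quotient.mk_surjective, Ideal.comap_top, ← RingHom.ker_eq_comap_bot,
        Ideal.mk_ker, sup_eq_left.2 ((Ideal.span_singleton_le_iff_mem _).2 heQ)] at this
      exact Q.isPrime.ne_top this
    obtain ⟨Q', hQ'⟩ : Q ∈ Set.range (PrimeSpectrum.comap (Ideal.Quotient.mk J)) := by
      rw [range_comap_of_surjective _ _ Ideal.Quotient.mk_surjective, Ideal.mk_ker, PrimeSpectrum.zeroLocus_span,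
        ← PrimeSpectrum.basicOpen_eq_zeroLocus_of_isIdempotentElem _ he]
      exact heQ
    exact ⟨Q', (congrArg (PrimeSpectrum.comap (algebraMap R S)) hQ').trans hQ⟩

end Groth.L27.PBC
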