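import Groth.Agent.L27.PBC.GmLift
import Groth.Agent.L27.PBC.QFNhd
import Mathlib.AlgebraicGeometry.Morphisms.Finite

/-! # Local equations on the closed fibre lift over a henselian local ring -/

set_option autoImplicit false
set_option linter.style.haveILetI false
set_option backward.isDefEq.respectTransparency.types false

universe u

open CategoryTheory CategoryTheory.Limits AlgebraicGeometry TopologicalSpace

noncomputable section

namespace Groth.L27.PBC

open Groth.L21.Extend (rO rO_rO)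

variable {X Z : Scheme.{u}} {i : Z ⟶ X}

theorem app_rO {V W : X.Opens} (h : V ≤ W) (a : Γ(X, W)) :
    i.app V (rO X h a) = rO Z (i.preimage_mono h) (i.app W a) :=
  NatTrans.naturality_apply i.c (homOfLE h).op a

/-- Conclusion of the lifting property from a closed set and a neighbourhood. -/
theorem geoLift_finish [IsClosedImmersion i] {x : Z} {N : Z.Opens} {b : Γ(Z, N)} {V : X.Opens}
    (hVN : i ⁻¹ᵁ V ≤ N) {bt : Γ(X, V)} (hbt : i.app V bt = rO Z hVN b)
    (T : Set X) (hT : IsClosed T) (hxT : i x ∈ T) (honly : ∀ z, i z ∈ T → z = x)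
    (V' : X.Opens) (hV' : V' ≤ V) (hTV : T ⊆ V') (hinv : (V' : Set X) \ T ⊆ X.basicOpen bt) :
    ∃ (U W : X.Opens) (hW : i ⁻¹ᵁ W ≤ N), U ⊔ W = ⊤ ∧ ((i ⁻¹ᵁ U : Z.Opens) : Set Z) = {x}ᶜ ∧
      ∃ a : Γ(X, U ⊓ W)ˣ, i.app (U ⊓ W) (a : Γ(X, U ⊓ W)) =
        rO Z ((i.preimage_mono inf_le_right).trans hW : i ⁻¹ᵁ (U ⊓ W) ≤ N) b := by
  let U : X.Opens := ⟨Tᶜ, hT.isOpen_compl⟩
  refine ⟨U, V', (i.preimage_mono hV').trans hVN, ?_, ?_, ?_⟩
  · exact eq_top_iff.2 fun y _ => (em (y ∈ T)).elim (fun h => Or.inr (hTV h)) Or.inl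
  · ext z
    exact ⟨fun hz e => hz (show i z ∈ T from (Set.mem_singleton_iff.1 e).symm ▸ hxT), fun hz h => hz (honly z h)⟩
  have hle : U ⊓ V' ≤ X.basicOpen bt := fun y hy => hinv ⟨hy.2, hy.1⟩
  have hu : IsUnit (rO X (inf_le_right.trans hV' : U ⊓ V' ≤ V) bt) := by
    have := (RingedSpace.isUnit_res_basicOpen X.toRingedSpace bt).map (X.presheaf.map (homOfLE hle).op).hom
    change IsUnit (rO X hle (rO X (X.basicOpen_le bt) bt)) at this
    rwa [rO_rO] at this
  exact ⟨hu.unit, (app_rO _ bt).trans ((congrArg (rO Z _) hbt).trans (rO_rO _ _ _))⟩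

/-- Over a henselian local ring, equations of closed points of the closed fibre lift. -/
theorem geoLift {A : Type u} [CommRing A] [HenselianLocalRing A] (f : X ⟶ Spec (CommRingCat.of A))
    [IsSeparated f] [LocallyOfFiniteType f] (i : Z ⟶ X) [IsClosedImmersion i]
    (hi : Set.range i = f ⁻¹' {IsLocalRing.closedPoint A}) : GeoLift i := by
  intro x hx N hxN b hb
  have himg : IsClosed (i '' (N : Set Z)ᶜ) := i.isClosedEmbedding.isClosedMap _ N.isOpen.isClosed_compl
  obtain ⟨V, hV, hxV, hVN₀⟩ := exists_isAffineOpen_mem_and_subset (U := (⟨_, himg.isOpen_compl⟩ : X.Opens))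
    (x := i x) (fun ⟨z, hz, e⟩ => hz (i.isClosedEmbedding.injective e ▸ hxN))
  have hVN : i ⁻¹ᵁ V ≤ N := fun z hz => by
    by_contra h
    exact hVN₀ hz ⟨z, h, rfl⟩
  obtain ⟨bt, hbt⟩ := i.app_surjective V hV (rO Z hVN b)
  have hxc : IsClosed ({i x} : Set X) := by
    rw [← Set.image_singleton]
    exact i.isClosedEmbedding.isClosedMap _ hx
  by_cases hxb : i x ∈ X.basicOpen bt
  · exact geoLift_finish hVN hbt {i x} hxc rfl (fun z hz => i.isClosedEmbedding.injective hz)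
      (X.basicOpen bt) (X.basicOpen_le bt) (Set.singleton_subset_iff.2 hxb) (fun y hy => hy.1)
  -- the zero locus of the lifted equation
  let q : CommRingCat.of Γ(X, V) ⟶ CommRingCat.of (Γ(X, V) ⧸ Ideal.span ({bt} : Set Γ(X, V))) :=
    CommRingCat.ofHom (Ideal.Quotient.mk _)
  let R := Γ(X, V) ⧸ Ideal.span ({bt} : Set Γ(X, V))
  let j : Spec (CommRingCat.of R) ⟶ X := Spec.map q ≫ hV.fromSpec
  haveI : IsClosedImmersion (Spec.map q) := IsClosedImmersion.spec_of_surjective q Ideal.Quotient.mk_surjective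
  obtain ⟨ψ, hψ⟩ : ∃ ψ, Spec.map ψ = j ≫ f := ⟨_, Spec.map_preimage _⟩
  letI : Algebra A R := ψ.hom.toAlgebra
  haveI : Algebra.FiniteType A R := by
    have h : LocallyOfFiniteType (Spec.map ψ) := hψ ▸ inferInstanceAs (LocallyOfFiniteType ((Spec.map q ≫ hV.fromSpec) ≫ f))
    rw [HasRingHomProperty.Spec_iff (P := @LocallyOfFiniteType)] at h
    exact h
  have hrange : ∀ y ∈ V, y ∉ X.basicOpen bt → ∃ Q, j Q = y := fun y hy hyb => by
    obtain ⟨Q, hQ⟩ : y ∈ Set.range hV.fromSpec := by rw [hV.range_fromSpec]; exact hy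
    have hQb : Q ∉ PrimeSpectrum.basicOpen bt := fun h => hyb (by
      have : Q ∈ hV.fromSpec ⁻¹ᵁ X.basicOpen bt := by rw [hV.fromSpec_preimage_basicOpen]; exact h
      rw [← hQ]; exact this)
    obtain ⟨Q', hQ'⟩ : Q ∈ Set.range (PrimeSpectrum.comap (Ideal.Quotient.mk (Ideal.span ({bt} : Set Γ(X, V))))) := by
      rw [range_comap_of_surjective _ _ Ideal.Quotient.mk_surjective, Ideal.mk_ker, PrimeSpectrum.zeroLocus_span]
      exact fun r hr => by rw [Set.mem_singleton_iff.1 hr]; exact not_not.1 hQb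
    exact ⟨Q', (congrArg (fun z => hV.fromSpec z) hQ').trans hQ⟩
  have hjb : ∀ Q, j Q ∉ X.basicOpen bt := fun Q h => by
    have h' : (Spec.map q) Q ∈ hV.fromSpec ⁻¹ᵁ X.basicOpen bt := h
    rw [hV.fromSpec_preimage_basicOpen] at h'
    refine h' ?_
    show Ideal.Quotient.mk (Ideal.span ({bt} : Set Γ(X, V))) bt ∈ Q.asIdeal
    rw [Ideal.Quotient.eq_zero_iff_mem.2 (Ideal.mem_span_singleton_self bt)]
    exact zero_mem _
  have hjV : ∀ Q, j Q ∈ V := fun Q => by
    have : hV.fromSpec (Spec.map q Q) ∈ Set.range hV.fromSpec := ⟨_, rfl⟩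
    rwa [hV.range_fromSpec] at this
  have hjinj : Function.Injective j := fun Q Q' e =>
    (Spec.map q).isClosedEmbedding.injective (hV.fromSpec.isOpenEmbedding.injective e)
  obtain ⟨P, hP⟩ := hrange (i x) hxV hxb
  have hover : ∀ Q, PrimeSpectrum.comap (algebraMap A R) Q = f (j Q) := fun Q =>
    congrArg (fun g : Spec (CommRingCat.of R) ⟶ Spec (CommRingCat.of A) => g Q) hψ
  have honly : ∀ z Q, i z = j Q → z = x := fun z Q e => by
    have hzV : z ∈ i ⁻¹ᵁ V := show i z ∈ V from e ▸ hjV Q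
    by_contra hzx
    have hzb : z ∈ Z.basicOpen (rO Z hVN b) := by
      rw [Scheme.basicOpen_res]
      exact ⟨hzV, hb ⟨hVN hzV, hzx⟩⟩
    have : z ∈ Z.basicOpen (i.app V bt) := hbt.symm ▸ hzb
    rw [← Scheme.preimage_basicOpen] at this
    exact hjb Q (e ▸ this)
  have huniq : ∀ P', PrimeSpectrum.comap (algebraMap A R) P' = IsLocalRing.closedPoint A → P' = P := fun P' h => by
    rw [hover] at h
    obtain ⟨z, hz⟩ : j P' ∈ Set.range i := hi.ge h
    exact hjinj ((hz.symm.trans (congrArg (fun z => i z) (honly z P' hz))).trans hP.symm)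
  have hPc : PrimeSpectrum.comap (algebraMap A R) P = IsLocalRing.closedPoint A :=
    (hover P).trans (hP.symm ▸ hi.le ⟨x, rfl⟩)
  obtain ⟨R', _, _, φ, hfin, hopen, hPmem⟩ := exists_finite_nhd R P hPc huniq
  let k : Spec (CommRingCat.of R') ⟶ X := Spec.map (CommRingCat.ofHom φ.toRingHom) ≫ j
  haveI : IsFinite (k ≫ f) := by
    have e : k ≫ f = Spec.map (CommRingCat.ofHom (algebraMap A R')) := by
      rw [Category.assoc, ← hψ, ← Spec.map_comp]
      refine congrArg Spec.map (CommRingCat.hom_ext ?_)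
      exact RingHom.ext φ.commutes
    rw [e, IsFinite.SpecMap_iff]
    exact RingHom.finite_algebraMap.2 hfin
  haveI : IsFinite k := IsFinite.of_comp k f
  let O := Set.range (PrimeSpectrum.comap φ.toRingHom)
  have hkr : Set.range k = j '' O := by
    show Set.range (j ∘ PrimeSpectrum.comap φ.toRingHom) = _
    exact Set.range_comp _ _
  have hc : IsClosed ((Spec.map q) '' Oᶜ) := (Spec.map q).isClosedEmbedding.isClosedMap _ hopen.isClosed_compl
  let V' : X.Opens := hV.fromSpec ''ᵁ ⟨_, hc.isOpen_compl⟩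
  have hV'mem : ∀ Q, Q ∈ O → j Q ∈ V' := fun Q hQ =>
    ⟨Spec.map q Q, fun ⟨Q', hQ', e⟩ => hQ' ((Spec.map q).isClosedEmbedding.injective e ▸ hQ), rfl⟩
  refine geoLift_finish hVN hbt (Set.range k) k.isClosedMap.isClosed_range ?_ ?_ V' ?_ ?_ ?_
  · rw [hkr]; exact ⟨P, hPmem, hP⟩
  · rw [hkr]
    rintro z ⟨Q, -, e⟩
    exact honly z Q e.symm
  · rintro _ ⟨y, -, rfl⟩
    exact hV.range_fromSpec.subset ⟨y, rfl⟩
  · rw [hkr]
    rintro _ ⟨Q, hQ, rfl⟩
    exact hV'mem Q hQ
  · rintro y ⟨⟨y', hy', rfl⟩, hyT⟩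
    by_contra hyb
    obtain ⟨Q, hQ⟩ := hrange _ (hV.range_fromSpec.subset ⟨y', rfl⟩) hyb
    have hq : Spec.map q Q = y' := hV.fromSpec.isOpenEmbedding.injective hQ
    exact hy' ⟨Q, fun hQO => hyT (hkr.ge ⟨Q, hQO, hQ⟩), hq⟩

end Groth.L27.PBC
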