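import Groth.Agent.L27.PBC.GmPres
import Groth.Agent.L27.PBC.CurveTop
import Mathlib.Data.Set.Card

/-! # Classes of the multiplicative group of a one-dimensional closed fibre lift -/

set_option autoImplicit false
set_option linter.style.haveILetI false
set_option linter.unusedSectionVars false
set_option backward.isDefEq.respectTransparency.types false

universe u

open CategoryTheory CategoryTheory.Limits AlgebraicGeometry Opposite TopologicalSpace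

noncomputable section

namespace Groth.L27.PBC

open Groth.L27 (MV.oE MV.oHom MV.oTop)
open Groth.L27.EtFlasque (res res_res res_self res_nat glue_opens ext_opens)
open Groth.L28.GmH1 (gm rU res_gm)
open Groth.L27.LimCoh (secEq δH)
open Groth.L21.Extend (rO rO_rO)

/-- A function on an open of `Z`, invertible outside a closed point, comes from a unit of an overlap. -/
def GeoLift {X Z : Scheme.{u}} (i : Z ⟶ X) : Prop :=
  ∀ (x : Z), IsClosed ({x} : Set Z) → ∀ (N : Z.Opens), x ∈ N → ∀ (b : Γ(Z, N)),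
    (N : Set Z) \ {x} ⊆ Z.basicOpen b →
      ∃ (U V : X.Opens) (hV : i ⁻¹ᵁ V ≤ N), U ⊔ V = ⊤ ∧ ((i ⁻¹ᵁ U : Z.Opens) : Set Z) = {x}ᶜ ∧
        ∃ a : Γ(X, U ⊓ V)ˣ, i.app (U ⊓ V) (a : Γ(X, U ⊓ V)) =
          rO Z ((i.preimage_mono inf_le_right).trans hV : i ⁻¹ᵁ (U ⊓ V) ≤ N) b

section Basic

variable {Z : Scheme.{u}} {I Q : EtCoh.Ab Z} {f : EtCoh.Gm Z ⟶ I} {g : I ⟶ Q} {w : f ≫ g = 0}

theorem rO_mul' {V W : Z.Opens} (h : V ≤ W) (a b : Γ(Z, W)) : rO Z h (a * b) = rO Z h a * rO Z h b :=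
  map_mul (Z.presheaf.map (homOfLE h).op).hom a b

theorem rO_pow' {V W : Z.Opens} (h : V ≤ W) (a : Γ(Z, W)) (m : ℕ) : rO Z h (a ^ m) = rO Z h a ^ m :=
  map_pow (Z.presheaf.map (homOfLE h).op).hom a m

theorem gm_pow {O : Z.Opens} (a : Γ(Z, O)ˣ) (m : ℕ) : gm (a ^ m) = m • gm a := by
  induction m with
  | zero => rw [pow_zero, zero_nsmul]; exact L28.GmH1.gm_one O
  | succ m ih => rw [pow_succ, L28.GmH1.gm_mul, ih, succ_nsmul]

theorem Pres.nsmul {U V : Z.Opens} {s : (EtCoh.Gm Z).obj.obj (op (MV.oE (U ⊓ V)))}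
    {t : Q.obj.obj (op (EtCoh.top Z))} (h : Pres f g U V s t) (m : ℕ) : Pres f g U V (m • s) (m • t) := by
  obtain ⟨a, b, ha, hb, hs⟩ := h
  refine ⟨m • a, m • b, ?_, ?_, ?_⟩
  · rw [map_nsmul, ha]; exact (map_nsmul (Q.obj.map (MV.oTop U).op).hom _ _).symm
  · rw [map_nsmul, hb]; exact (map_nsmul (Q.obj.map (MV.oTop V).op).hom _ _).symm
  · rw [map_nsmul, map_nsmul, map_nsmul, ← hs, nsmul_sub]

/-- Liftability of a section of the quotient over an open. -/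
def Lifts (g : I ⟶ Q) (W : Z.Opens) (t : Q.obj.obj (op (EtCoh.top Z))) : Prop :=
  ∃ z : I.obj.obj (op (MV.oE W)), g.hom.app _ z = resTop W t

theorem sections_eq_of_empty (F : EtCoh.Ab Z) {W : Z.Opens} (h : (W : Set Z) = ∅)
    (s t : F.obj.obj (op (MV.oE W))) : s = t :=
  ext_opens F (ι := PEmpty.{1}) (fun e => e.elim) (fun e => e.elim)
    (fun x hx => (Set.eq_empty_iff_forall_notMem.1 h x hx).elim) fun e => e.elim

theorem lifts_iSup_disjoint {ι : Type*} (O : ι → Z.Opens) (hd : Pairwise fun a b => (O a : Set Z) ∩ O b = ∅)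
    {t : Q.obj.obj (op (EtCoh.top Z))} (h : ∀ a, Lifts g (O a) t) : Lifts g (⨆ a, O a) t := by
  choose z hz using h
  obtain ⟨s, hs⟩ := glue_opens I O (fun a => le_iSup O a) (fun x hx => Opens.mem_iSup.1 hx) z fun a b => by
    by_cases hab : a = b
    · subst hab
      exact congrArg (res I · (z a)) (Subsingleton.elim _ _) |>.trans rfl
    · exact sections_eq_of_empty I (hd hab) _ _
  refine ⟨s, ext_opens Q O (fun a => le_iSup O a) (fun x hx => Opens.mem_iSup.1 hx) fun a => ?_⟩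
  rw [← res_nat, hs, hz, res_resTop]

theorem Pres.lifts_sup {U V : Z.Opens} {t : Q.obj.obj (op (EtCoh.top Z))} (h : Pres f g U V 0 t) :
    Lifts g (U ⊔ V) t := by
  obtain ⟨a, b, ha, hb, hs⟩ := h
  rw [map_zero, sub_eq_zero] at hs
  let O : ULift.{u} Bool → Z.Opens := fun k => if k.down then U else V
  have hO : ∀ k, O k ≤ U ⊔ V := by rintro ⟨_ | _⟩; exacts [le_sup_right, le_sup_left]
  have hc : ∀ x ∈ U ⊔ V, ∃ k, x ∈ O k := fun x hx =>
    hx.elim (fun h => ⟨⟨true⟩, h⟩) fun h => ⟨⟨false⟩, h⟩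
  let z : ∀ k, I.obj.obj (op (MV.oE (O k))) := fun ⟨k⟩ => match k with
    | true => a
    | false => b
  have hz : ∀ k, g.hom.app _ (z k) = resTop (O k) t := by rintro ⟨_ | _⟩; exacts [hb, ha]
  have hs' : res I (inf_le_left : V ⊓ U ≤ V) b = res I (inf_le_right : V ⊓ U ≤ U) a := by
    have e := congrArg (res I (le_inf inf_le_right inf_le_left : V ⊓ U ≤ U ⊓ V)) hs
    rwa [res_res, res_res] at e
  obtain ⟨s, hgl⟩ := glue_opens I O hO hc z (by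
    rintro ⟨_ | _⟩ ⟨_ | _⟩
    exacts [rfl, hs', hs.symm, rfl])
  refine ⟨s, ext_opens Q O hO hc fun k => ?_⟩
  rw [← res_nat, hgl, hz, res_resTop]

theorem cls_eq_zero_of_lifts (hS : (ShortComplex.mk f g w).ShortExact) {W : Z.Opens} (hW : (W : Set Z) = Set.univ)
    {t : Q.obj.obj (op (EtCoh.top Z))} (h : Lifts g W t) : cls hS t = 0 := by
  obtain rfl : W = ⊤ := Opens.ext hW
  obtain ⟨z, hz⟩ := h
  exact (L28.GmH1.δ_eq_zero_iff hS _).2
    (Pres.exists_lift (f := f) (g := g) (U := ⊤) (V := ⊤) (sup_idem ⊤) ⟨z, z, hz, hz, by rw [map_zero, sub_eq_zero]⟩)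

theorem exists_lifts_nhd (hS : (ShortComplex.mk f g w).ShortExact) (t : Q.obj.obj (op (EtCoh.top Z))) (x : Z) :
    ∃ N : Z.Opens, x ∈ N ∧ Lifts g N t := by
  obtain ⟨O, hO, hxO, -⟩ := exists_isAffineOpen_mem_and_subset (U := (⊤ : Z.Opens)) (x := x) trivial
  have hOι : IsOpenImmersion O.ι := inferInstance
  haveI : IsAffine (MV.oE O).left := hO
  obtain ⟨U', j, hjo, ⟨z, hz⟩, s', hs'⟩ :=
    L28.GmH1.exists_lift_at hS (resTop O t) (⟨x, hxO⟩ : (MV.oE O).left)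
  haveI := hjo
  have hUh : U'.hom = j.left ≫ O.ι := (MorphismProperty.Over.w j).symm
  haveI : IsOpenImmersion U'.hom := by
    rw [hUh]
    exact MorphismProperty.comp_mem @IsOpenImmersion j.left O.ι hjo hOι
  let m : MV.oE U'.hom.opensRange ⟶ U' :=
    MorphismProperty.Over.homMk U'.hom.isoOpensRange.inv (Scheme.Hom.isoOpensRange_inv_comp _)
  refine ⟨U'.hom.opensRange, ⟨z, ?_⟩, I.obj.map m.op s', ?_⟩
  · rw [hUh, Scheme.Hom.comp_apply, hz]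
    rfl
  · rw [NatTrans.naturality_apply g.hom m.op s', hs']
    show Q.obj.map m.op (Q.obj.map j.op (Q.obj.map (MV.oTop O).op t)) = _
    rw [← Functor.map_comp_apply, ← Functor.map_comp_apply]
    exact congrArg (fun l => Q.obj.map l t) (Quiver.Hom.unop_inj ((EtCore.topIsTerminal Z).hom_ext _ _))

/-- Every class is trivial on an open containing the maximal points. -/
theorem exists_lifts_maxPoints [NoetherianSpace Z] (hS : (ShortComplex.mk f g w).ShortExact)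
    (t : Q.obj.obj (op (EtCoh.top Z))) : ∃ W : Z.Opens, (∀ x : Z, IsMaxPoint x → x ∈ W) ∧ Lifts g W t := by
  choose N hxN hN using exists_lifts_nhd hS t
  let M := {η : Z | IsMaxPoint η}
  let K : ↥M → Set Z := fun η => ⋃ η' ∈ M \ {η.1}, closure {η'}
  have hKc : ∀ η, IsClosed (K η) := fun η =>
    ((finite_maxPoints Z).subset Set.sdiff_subset).isClosed_biUnion fun _ _ => isClosed_closure
  let O : ↥M → Z.Opens := fun η => N η.1 ⊓ ⟨(K η)ᶜ, (hKc η).isOpen_compl⟩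
  have hmem : ∀ η, η.1 ∈ O η := fun η => ⟨hxN _, fun hη => by
    obtain ⟨η', ⟨hη', hne⟩, hcl⟩ := Set.mem_iUnion₂.1 hη
    exact hne (η.2 η' (specializes_iff_mem_closure.2 hcl))⟩
  have honly : ∀ η (y : Z), y ∈ O η → IsMaxPoint y → y = η.1 := fun η y hy hmax => by
    by_contra hne
    exact hy.2 (Set.mem_iUnion₂.2 ⟨y, ⟨hmax, hne⟩, subset_closure rfl⟩)
  refine ⟨⨆ η, O η, fun x hx => Opens.mem_iSup.2 ⟨⟨x, hx⟩, hmem _⟩, lifts_iSup_disjoint O ?_ fun η => ?_⟩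
  · intro a b hab
    refine Set.eq_empty_iff_forall_notMem.2 fun y hy => hab (Subtype.ext ?_)
    obtain ⟨m, hm, hmy⟩ := exists_maxPoint y
    exact (honly a m (hmy.mem_open (O a).isOpen hy.1) hm).symm.trans (honly b m (hmy.mem_open (O b).isOpen hy.2) hm)
  · obtain ⟨z, hz⟩ := hN η.1
    refine ⟨res I inf_le_left z, ?_⟩
    rw [res_nat, hz, res_resTop]

theorem le_basicOpen_of_isUnit {V N : Z.Opens} (h : V ≤ N) (b : Γ(Z, N)) (hb : IsUnit (rO Z h b)) :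
    V ≤ Z.basicOpen b := fun y hy => by
  rw [Scheme.mem_basicOpen Z b y (h hy)]
  have := hb.map (Z.presheaf.germ V y hy).hom
  rwa [TopCat.Presheaf.germ_res_apply] at this

end Basic

variable {X Z : Scheme.{u}} (i : Z ⟶ X) [PreservesFiniteLimits (EtCoh.pull i)] [IsNoetherian Z]

/-- Under the geometric lifting property, all classes of the multiplicative group come from upstairs. -/
theorem exists_preimage_gm (hi : GeoLift i) (hdim : topologicalKrullDim Z ≤ 1) (c : EtCoh.H Z (EtCoh.Gm Z) 1) :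
    ∃ y, EtLim.HpullThen i (EtCoh.Gm X) (gmAdj i) 1 y = c := by
  obtain ⟨I₀, Q₀, f₀, g₀, w₀, hI₀, hS₀⟩ := L28.GmH1.exists_embedding (X := Z)
  obtain ⟨I, Q, f, g, w, hI, hS⟩ := L28.GmH1.exists_embedding (X := X)
  haveI := hI₀; haveI := hI
  obtain ⟨φ₂, φ₃, h2, h3, hcls⟩ := exists_compat i hS hS₀
  let R := (EtLim.HpullThen i (EtCoh.Gm X) (gmAdj i) 1).range
  suffices main : ∀ (n : ℕ) (W : Z.Opens) (t : Q₀.obj.obj (op (EtCoh.top Z))), (∀ x, IsMaxPoint x → x ∈ W) →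
      Lifts g₀ W t → ((W : Set Z)ᶜ).ncard ≤ n → cls hS₀ t ∈ R by
    obtain ⟨t, rfl⟩ := exists_cls hS₀ c
    obtain ⟨W, hW, hl⟩ := exists_lifts_maxPoints hS₀ t
    exact main _ W t hW hl le_rfl
  intro n
  have hfin : ∀ W : Z.Opens, (∀ x, IsMaxPoint x → x ∈ W) → ((W : Set Z)ᶜ).Finite := fun W hW =>
    finite_of_closed_points W.isOpen.isClosed_compl fun a ha =>
      (L28.CurveCd.isClosed_or_maximal hdim a).resolve_right fun hmax => ha (hW a hmax)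
  induction n with
  | zero =>
    intro W t hW hl hn
    have he : ((W : Set Z)ᶜ) = ∅ := (Set.ncard_eq_zero (hfin W hW)).1 (Nat.le_zero.1 hn)
    rw [cls_eq_zero_of_lifts hS₀ (Set.compl_empty_iff.1 he) hl]
    exact zero_mem _
  | succ n ih =>
    intro W t hW hl hn
    rcases Set.eq_empty_or_nonempty ((W : Set Z)ᶜ) with he | ⟨x, hx⟩
    · rw [cls_eq_zero_of_lifts hS₀ (Set.compl_empty_iff.1 he) hl]
      exact zero_mem _
    have hxmax : ¬ IsMaxPoint x := fun h => hx (hW x h)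
    have hxcl : IsClosed ({x} : Set Z) :=
      (L28.CurveCd.isClosed_or_maximal hdim x).resolve_right hxmax
    have hrest : IsClosed ((W : Set Z)ᶜ \ {x}) := by
      rw [← Set.biUnion_of_singleton ((W : Set Z)ᶜ \ {x})]
      refine ((hfin W hW).subset Set.sdiff_subset).isClosed_biUnion fun a ha => ?_
      exact (L28.CurveCd.isClosed_or_maximal hdim a).resolve_right fun hmax => ha.1 (hW a hmax)
    obtain ⟨N₁, hxN₁, b₁, hb₁⟩ := exists_lifts_nhd hS₀ t x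
    obtain ⟨N, τ, hN, hxN, hNle, hxτ, hτ⟩ := exists_parameter hdim x hxmax
      (N₁ ⊓ ⟨((W : Set Z)ᶜ \ {x})ᶜ, hrest.isOpen_compl⟩) ⟨hxN₁, fun h => h.2 rfl⟩
    have hDeq : Z.basicOpen τ = W ⊓ N := Opens.ext (Set.ext fun y => by
      refine ⟨fun hy => ⟨?_, Z.basicOpen_le τ hy⟩, fun hy => hτ ⟨hy.2, fun e => hx (e ▸ hy.1)⟩⟩
      by_contra hyW
      exact (hNle (Z.basicOpen_le τ hy)).2 ⟨hyW, fun e => hxτ (e ▸ hy)⟩)
    obtain ⟨a, ha⟩ := hl
    obtain ⟨b, hb⟩ : Lifts g₀ N t := ⟨res I₀ (hNle.trans inf_le_left) b₁, by rw [res_nat, hb₁, res_resTop]⟩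
    obtain ⟨z, hz⟩ := L28.EtCartan.app_exact hS₀ (MV.oE (W ⊓ N))
      (res I₀ inf_le_right b - res I₀ inf_le_left a) (by
        show g₀.hom.app _ _ = 0
        rw [map_sub, res_nat, res_nat, hb, ha, res_resTop, res_resTop, sub_self])
    obtain ⟨u, rfl⟩ := L28.GmH1.gm_surjective z
    have hpres : Pres f₀ g₀ W N (gm u) t := ⟨a, b, ha, hb, hz.symm⟩
    -- the cocycle as a fraction
    haveI := hN.isLocalization_basicOpen τ
    obtain ⟨⟨b₀, ⟨_, m, rfl⟩⟩, hfrac⟩ := IsLocalization.surj (Submonoid.powers τ)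
      (rO Z hDeq.le (u : Γ(Z, W ⊓ N)))
    have hmn : W ⊓ N ≤ N := inf_le_right
    have hτu : IsUnit (rO Z hmn τ) := by
      have := (RingedSpace.isUnit_res_basicOpen Z.toRingedSpace τ).map (Z.presheaf.map (homOfLE hDeq.ge).op).hom
      change IsUnit (rO Z hDeq.ge (rO Z (Z.basicOpen_le τ) τ)) at this
      rwa [rO_rO] at this
    have hb₀ : rO Z hmn b₀ = (u : Γ(Z, W ⊓ N)) * rO Z hmn τ ^ m := by
      have e := congrArg (rO Z hDeq.ge) hfrac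
      change rO Z hDeq.ge (rO Z hDeq.le (u : Γ(Z, W ⊓ N)) * rO Z (Z.basicOpen_le τ) (τ ^ m)) =
        rO Z hDeq.ge (rO Z (Z.basicOpen_le τ) b₀) at e
      rw [rO_mul', rO_pow', rO_pow', rO_rO, rO_rO, rO_rO, L28.GmH1.rO_self'] at e
      exact e.symm
    have hb₀le : (N : Set Z) \ {x} ⊆ Z.basicOpen b₀ := fun y hy =>
      le_basicOpen_of_isUnit hmn b₀ (hb₀ ▸ u.isUnit.mul (hτu.pow m)) (hDeq.le (hτ hy))
    obtain ⟨U₁, V₁, hV₁, hUV₁, hU₁, a₁, ha₁⟩ := hi x hxcl N hxN b₀ hb₀le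
    obtain ⟨U₂, V₂, hV₂, hUV₂, hU₂, a₂, ha₂⟩ := hi x hxcl N hxN τ hτ
    obtain ⟨t₁, ht₁⟩ := exists_pres hS hUV₁ (gm a₁)
    obtain ⟨t₂, ht₂⟩ := exists_pres hS hUV₂ (gm a₂)
    have hxV : ∀ (U V : X.Opens), U ⊔ V = ⊤ → ((i ⁻¹ᵁ U : Z.Opens) : Set Z) = {x}ᶜ → x ∈ i ⁻¹ᵁ V := by
      intro U V hUV hU
      have h : i x ∈ U ⊔ V := hUV ▸ trivial
      exact h.resolve_left fun h => (Set.ext_iff.1 hU x).1 h rfl
    let V' : Z.Opens := i ⁻¹ᵁ V₁ ⊓ i ⁻¹ᵁ V₂ ⊓ N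
    have hxV' : x ∈ V' := ⟨⟨hxV _ _ hUV₁ hU₁, hxV _ _ hUV₂ hU₂⟩, hxN⟩
    have hWU : ∀ (U : X.Opens), ((i ⁻¹ᵁ U : Z.Opens) : Set Z) = {x}ᶜ → W ≤ i ⁻¹ᵁ U := fun U hU y hy =>
      (Set.ext_iff.1 hU y).2 fun e => hx (e ▸ hy)
    have hle₁ : W ⊓ V' ≤ i ⁻¹ᵁ U₁ ⊓ i ⁻¹ᵁ V₁ := inf_le_inf (hWU _ hU₁) (inf_le_left.trans inf_le_left)
    have hle₂ : W ⊓ V' ≤ i ⁻¹ᵁ U₂ ⊓ i ⁻¹ᵁ V₂ := inf_le_inf (hWU _ hU₂) (inf_le_left.trans inf_le_right)
    let w₁ : Γ(Z, W ⊓ V')ˣ := rU hle₁ (Units.map (i.app (U₁ ⊓ V₁)).hom.toMonoidHom a₁)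
    let w₂ : Γ(Z, W ⊓ V')ˣ := rU hle₂ (Units.map (i.app (U₂ ⊓ V₂)).hom.toMonoidHom a₂)
    have e₁ : res (EtCoh.Gm Z) hle₁ (rho i (EtLim.GmPush i) (U₁ ⊓ V₁) (gm a₁)) = gm w₁ :=
      (congrArg (res (EtCoh.Gm Z) hle₁) (rho_GmPush i a₁)).trans (res_gm hle₁ _)
    have e₂ : res (EtCoh.Gm Z) hle₂ (rho i (EtLim.GmPush i) (U₂ ⊓ V₂) (gm a₂)) = gm w₂ :=
      (congrArg (res (EtCoh.Gm Z) hle₂) (rho_GmPush i a₂)).trans (res_gm hle₂ _)
    have P₁ : Pres f₀ g₀ W V' (gm w₁) (rhoTop i φ₃ t₁) :=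
      e₁ ▸ (ht₁.pull i h2 h3).restrict (hWU _ hU₁) (inf_le_left.trans inf_le_left : V' ≤ _)
    have P₂ : Pres f₀ g₀ W V' (gm w₂) (rhoTop i φ₃ t₂) :=
      e₂ ▸ (ht₂.pull i h2 h3).restrict (hWU _ hU₂) (inf_le_left.trans inf_le_right : V' ≤ _)
    have hWV : W ⊓ V' ≤ W ⊓ N := inf_le_inf le_rfl inf_le_right
    have P₀ := hpres.restrict le_rfl (inf_le_right : V' ≤ N)
    rw [res_gm] at P₀
    let v : Γ(Z, W ⊓ V')ˣ := rU hWV u
    have hcoc : w₁ = v * w₂ ^ m := by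
      refine Units.ext ?_
      show rO Z hle₁ (i.app (U₁ ⊓ V₁) (a₁ : Γ(X, U₁ ⊓ V₁))) =
        rO Z hWV (u : Γ(Z, W ⊓ N)) * (rO Z hle₂ (i.app (U₂ ⊓ V₂) (a₂ : Γ(X, U₂ ⊓ V₂)))) ^ m
      rw [ha₁, ha₂]
      have e := congrArg (rO Z hWV) hb₀
      rw [rO_mul', rO_pow', rO_rO, rO_rO] at e
      exact (rO_rO _ _ _).trans (e.trans (congrArg (fun z => rO Z hWV (u : Γ(Z, W ⊓ N)) * z ^ m) (rO_rO _ _ _).symm))
    have P := P₀.sub (P₁.sub (P₂.nsmul m))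
    have hzero : gm v - (gm w₁ - m • gm w₂) = 0 := by
      rw [hcoc, L28.GmH1.gm_mul, gm_pow, add_sub_cancel_right, sub_self]
    rw [hzero] at P
    have hW' : ∀ y, IsMaxPoint y → y ∈ W ⊔ V' := fun y hy => Or.inl (hW y hy)
    have hlt : ((W ⊔ V' : Z.Opens) : Set Z)ᶜ.ncard < ((W : Set Z)ᶜ).ncard := by
      refine Set.ncard_lt_ncard ?_ (hfin W hW)
      rw [Opens.coe_sup, Set.compl_union]
      exact ⟨Set.inter_subset_left, fun h => (h hx).2 hxV'⟩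
    have hIH := ih (W ⊔ V') _ hW' P.lifts_sup (by omega)
    rw [cls_sub, cls_sub] at hIH
    have hR₁ : cls hS₀ (rhoTop i φ₃ t₁) ∈ R := ⟨_, hcls t₁⟩
    have hR₂ : cls hS₀ (m • rhoTop i φ₃ t₂) ∈ R := ⟨cls hS (m • t₂), (hcls _).trans (congrArg (cls hS₀) (map_nsmul _ _ _))⟩
    have := add_mem hIH (sub_mem hR₁ hR₂)
    rwa [sub_add_cancel] at this

end Groth.L27.PBC
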