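import Groth.Agent.L27.EtSite.MuConst
import Groth.Agent.L27.LimCoh.HMaps
import Groth.Agent.L28.GmTorsion.Basic
import Groth.Prelude.Def_EtLim
import Groth.Prelude.Def_SixF3

/-! # The Kummer sequence with constant coefficients, and its functoriality -/

set_option autoImplicit false
set_option linter.style.haveILetI false
set_option linter.unusedSectionVars false
set_option backward.isDefEq.respectTransparency.types false

universe u

open CategoryTheory CategoryTheory.Limits AlgebraicGeometry Opposite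

noncomputable section

namespace Groth.L27.PBC

variable {X Z : Scheme.{u}} (n : ℕ) [NeZero n] (ζ : Γ(X, ⊤)) (hζn : ζ ^ n = 1)

/-- `ℤ/n → 𝔾ₘ → 𝔾ₘ` given by a root of unity. -/
def kSC : ShortComplex (EtCoh.Ab X) :=
  ShortComplex.mk (MuConst.toGm n ζ hζn) (EtCoh.powMap X n) (MuConst.toGm_pow n ζ hζn)

theorem kSC_shortExact (hunit : IsUnit (n : Γ(X, ⊤)))
    (hζ : Polynomial.aeval ζ (Polynomial.cyclotomic n ℤ) = 0) : (kSC n ζ hζn).ShortExact := by
  haveI := MuConst.isIso_toMu n ζ hζn hunit hζ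
  refine ShortComplex.shortExact_of_iso (ShortComplex.isoMk (S₁ := EtSix.kummerSC X n) (S₂ := kSC n ζ hζn)
      (asIso (MuConst.toMu n ζ hζn)).symm (Iso.refl _) (Iso.refl _) ?_ ?_)
    (EtSix.kummerShortExact (L28.GmTorsion.epi_powMap hunit))
  · show (asIso (MuConst.toMu n ζ hζn)).inv ≫ MuConst.toGm n ζ hζn = EtCoh.muι X n ≫ 𝟙 _
    rw [Category.comp_id, Iso.inv_comp_eq]
    exact (kernel.lift_ι _ (MuConst.toGm n ζ hζn) (MuConst.toGm_pow n ζ hζn)).symm
  · exact (Category.id_comp _).trans (Category.comp_id _).symm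

variable (i : Z ⟶ X)

/-- Units pull back. -/
def gmAdj : (EtCoh.pull i).obj (EtCoh.Gm X) ⟶ EtCoh.Gm Z :=
  ((EtCoh.pullPushAdj i).homEquiv _ _).symm (EtLim.GmPush i)

theorem bcTop_inv_fst : (EtCore.bcTopIso i).inv.left ≫ pullback.fst (EtCoh.top X).hom i = i := by
  let t : Z ⟶ pullback (EtCoh.top X).hom i := (EtCore.bcTopIso i).inv.left
  have h : t ≫ pullback.snd (EtCoh.top X).hom i = 𝟙 Z := MorphismProperty.Over.w (EtCore.bcTopIso i).inv
  show t ≫ pullback.fst (EtCoh.top X).hom i = i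
  refine (congrArg (t ≫ ·) (Category.comp_id (pullback.fst (EtCoh.top X).hom i)).symm).trans ?_
  exact (congrArg (t ≫ ·) pullback.condition).trans ((Category.assoc _ _ _).symm.trans
    ((congrArg (· ≫ i) h).trans (Category.id_comp i)))

theorem pullConst_hom_toGm (hζn' : i.appTop ζ ^ n = 1) :
    (EtCore.pullConst i (ZMod n)).hom ≫ MuConst.toGm n (i.appTop ζ) hζn' =
      (EtCoh.pull i).map (MuConst.toGm n ζ hζn) ≫ gmAdj i := by
  rw [← Iso.eq_inv_comp]
  let A₁ := ((EtCore.constAdj X).comp (EtCoh.pullPushAdj i)).ofNatIsoRight (EtCore.pushGsecIso i)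
  let A₂ := EtCore.constAdj Z
  let M : AddCommGrpCat.{u + 1} := AddCommGrpCat.of (ULift.{u + 1} (ZMod n))
  refine (A₂.homEquiv M _).injective ?_
  have key : ∀ b : (EtCoh.pull i).obj (EtCoh.const X (ZMod n)) ⟶ EtCoh.Gm Z,
      A₂.homEquiv M _ ((EtCore.pullConst i (ZMod n)).inv ≫ b) = A₁.homEquiv M _ b := fun b => by
    rw [Adjunction.homEquiv_unit, Adjunction.homEquiv_unit, Functor.map_comp, ← Category.assoc]
    refine congrArg (· ≫ (EtCore.gsec Z).map b) ?_
    exact Adjunction.unit_leftAdjointUniq_hom_app A₂ A₁ M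
  refine Eq.trans ?_ (key _).symm
  have h2 : A₁.homEquiv M _ ((EtCoh.pull i).map (MuConst.toGm n ζ hζn) ≫ gmAdj i) =
      (EtCore.constAdj X).homEquiv M _ (MuConst.toGm n ζ hζn ≫ EtLim.GmPush i) ≫
        (EtCore.pushGsecIso i).hom.app (EtCoh.Gm Z) := by
    rw [Adjunction.homEquiv_ofNatIsoRight_apply, Adjunction.comp_homEquiv]
    simp only [Equiv.trans_apply]
    rw [gmAdj, Adjunction.homEquiv_naturality_left, Equiv.apply_symm_apply]
  rw [h2, Adjunction.homEquiv_naturality_right, MuConst.toGm, MuConst.toGm, Equiv.apply_symm_apply,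
    Equiv.apply_symm_apply]
  refine ConcreteCategory.hom_ext _ _ fun a => ?_
  obtain ⟨a⟩ := a
  show MuConst.topHom n (i.appTop ζ) hζn' ⟨a⟩ = (EtCoh.Gm Z).obj.map (EtCore.bcTopIso i).inv.op
    ((EtLim.GmPush i).hom.app (op (EtCoh.top X)) (MuConst.topHom n ζ hζn ⟨a⟩))
  rw [MuConst.topHom_apply, MuConst.topHom_apply, map_nsmul]
  refine Eq.trans ?_ (map_nsmul ((EtCoh.Gm Z).obj.map (EtCore.bcTopIso i).inv.op).hom _ _).symm
  refine congrArg (a.val • ·) (MuConst.toUnit_injective (Units.ext ?_))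
  show i.appTop ζ = (EtCore.bcTopIso i).inv.left.appTop ((pullback.fst (EtCoh.top X).hom i).appTop ζ)
  exact ((ConcreteCategory.congr_hom (Scheme.Hom.comp_appTop (EtCore.bcTopIso i).inv.left
    (pullback.fst (EtCoh.top X).hom i)) ζ).symm.trans
    (congrArg (fun g : Z ⟶ X => g.appTop ζ) (bcTop_inv_fst i))).symm

/-- The comparison of the Kummer sequences. -/
def kMor (hζn' : i.appTop ζ ^ n = 1) : (kSC n ζ hζn).map (EtCoh.pull i) ⟶ kSC n (i.appTop ζ) hζn' :=
  ShortComplex.homMk (EtCore.pullConst i (ZMod n)).hom (gmAdj i) (gmAdj i)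
    (pullConst_hom_toGm n ζ hζn i hζn')
    (by
      show gmAdj i ≫ EtCoh.powMap Z n = (EtCoh.pull i).map (EtCoh.powMap X n) ≫ gmAdj i
      haveI : (EtCoh.pull i).Additive := (EtCoh.pullPushAdj i).left_adjoint_additive
      rw [EtCoh.powMap, EtCoh.powMap, Functor.map_nsmul, CategoryTheory.Functor.map_id, Preadditive.comp_nsmul,
        Preadditive.nsmul_comp, Category.comp_id, Category.id_comp])

open Groth.L27.LimCoh in
/-- Boundary classes of upstairs `𝔾ₘ` classes lift. -/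
theorem mem_range_of_gm [PreservesFiniteLimits (EtCoh.pull i)] (hS : (kSC n ζ hζn).ShortExact)
    (hζn' : i.appTop ζ ^ n = 1) (hS' : (kSC n (i.appTop ζ) hζn').ShortExact) (q : ℕ)
    (c : EtCoh.H Z (EtCoh.Gm Z) q) (x : EtCoh.H X (EtCoh.Gm X) q)
    (hx : EtLim.HpullThen i (EtCoh.Gm X) (gmAdj i) q x = c) :
    ∃ y, (EtCoh.HF Z (q + 1)).map (EtCore.pullConst i (ZMod n)).hom
      (EtCore.Hpull i (EtCoh.const X (ZMod n)) (q + 1) y) = δH hS' q c := by
  refine ⟨δH hS q x, ?_⟩
  rw [← hx]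
  exact (HpullThen_apply i _ _ (q + 1) _).symm.trans (HpullThen_δH i hS hS' (kMor n ζ hζn i hζn') q x)

end Groth.L27.PBC
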