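import Groth.Agent.L28.GmH1.Iff
import Groth.Agent.L28.GmH1.Assoc
import Groth.Agent.L27.MV.SES
import Groth.Agent.L27.PBC.KummerMor

/-! # Classes of the multiplicative group given by a unit on a two-open overlap -/

set_option autoImplicit false
set_option linter.style.haveILetI false
set_option linter.unusedSectionVars false
set_option backward.isDefEq.respectTransparency.types false

universe u

open CategoryTheory CategoryTheory.Limits AlgebraicGeometry Opposite TopologicalSpace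

noncomputable section

namespace Groth.L27.PBC

open Groth.L27 (MV.oE MV.oHom MV.oTop)
open Groth.L27.EtFlasque (res res_res res_self res_nat flasque_of_injective)
open Groth.L28.GmH1 (gm rU res_gm)
open Groth.L27.LimCoh (secEq δH)

variable {X : Scheme.{u}} {I Q : EtCoh.Ab X} (f : EtCoh.Gm X ⟶ I) (g : I ⟶ Q)

/-- The restriction of a global section. -/
abbrev resTop {F : EtCoh.Ab X} (W : X.Opens) (t : F.obj.obj (op (EtCoh.top X))) : F.obj.obj (op (MV.oE W)) :=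
  F.obj.map (MV.oTop W).op t

theorem res_resTop {F : EtCoh.Ab X} {V W : X.Opens} (h : V ≤ W) (t : F.obj.obj (op (EtCoh.top X))) :
    res F h (resTop W t) = resTop V t := by
  show F.obj.map _ (F.obj.map _ t) = _
  rw [← Functor.map_comp_apply, ← op_comp]
  exact congrArg (fun l => F.obj.map (Quiver.Hom.op l) t) ((EtCore.topIsTerminal X).hom_ext _ _)

/-- A global section of the quotient whose class is that of the cocycle `s` of the covering `U, V`. -/
def Pres (U V : X.Opens) (s : (EtCoh.Gm X).obj.obj (op (MV.oE (U ⊓ V)))) (t : Q.obj.obj (op (EtCoh.top X))) : Prop :=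
  ∃ (a : I.obj.obj (op (MV.oE U))) (b : I.obj.obj (op (MV.oE V))),
    g.hom.app _ a = resTop U t ∧ g.hom.app _ b = resTop V t ∧
      res I (inf_le_right : U ⊓ V ≤ V) b - res I (inf_le_left : U ⊓ V ≤ U) a = f.hom.app _ s

variable {f g} {w : f ≫ g = 0}

theorem gf_zero (hS : (ShortComplex.mk f g w).ShortExact) {O : X.Opens} (z : (EtCoh.Gm X).obj.obj (op (MV.oE O))) :
    g.hom.app _ (f.hom.app _ z) = 0 := L28.GmH1.g_f f g (w := w) z

theorem exists_pres [Injective I] (hS : (ShortComplex.mk f g w).ShortExact) {U V : X.Opens} (hUV : U ⊔ V = ⊤)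
    (s : (EtCoh.Gm X).obj.obj (op (MV.oE (U ⊓ V)))) : ∃ t, Pres f g U V s t := by
  obtain ⟨b, hb⟩ := flasque_of_injective I (inf_le_right : U ⊓ V ≤ V) (f.hom.app _ s)
  obtain ⟨t, ⟨h1, h2⟩, -⟩ := MV.exists_glue U V hUV Q 0 (g.hom.app _ b) (by
    rw [map_zero]
    show (0 : Q.obj.obj _) = res Q (inf_le_right : U ⊓ V ≤ V) (g.hom.app _ b)
    rw [← res_nat, hb, gf_zero hS])
  exact ⟨t, 0, b, (map_zero _).trans h1.symm, h2.symm, by rw [map_zero, sub_zero, hb]⟩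

theorem Pres.sub {U V : X.Opens} {s s' : (EtCoh.Gm X).obj.obj (op (MV.oE (U ⊓ V)))}
    {t t' : Q.obj.obj (op (EtCoh.top X))} (h : Pres f g U V s t) (h' : Pres f g U V s' t') :
    Pres f g U V (s - s') (t - t') := by
  obtain ⟨a, b, ha, hb, hs⟩ := h
  obtain ⟨a', b', ha', hb', hs'⟩ := h'
  refine ⟨a - a', b - b', ?_, ?_, ?_⟩
  · rw [map_sub, ha, ha']; exact (map_sub (Q.obj.map (MV.oTop U).op).hom t t').symm
  · rw [map_sub, hb, hb']; exact (map_sub (Q.obj.map (MV.oTop V).op).hom t t').symm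
  · rw [map_sub, map_sub, map_sub, ← hs, ← hs']; abel

theorem Pres.restrict {U V U' V' : X.Opens} {s : (EtCoh.Gm X).obj.obj (op (MV.oE (U ⊓ V)))}
    {t : Q.obj.obj (op (EtCoh.top X))} (h : Pres f g U V s t) (hU : U' ≤ U) (hV : V' ≤ V) :
    Pres f g U' V' (res (EtCoh.Gm X) (inf_le_inf hU hV) s) t := by
  obtain ⟨a, b, ha, hb, hs⟩ := h
  refine ⟨res I hU a, res I hV b, ?_, ?_, ?_⟩
  · rw [res_nat, ha, res_resTop]
  · rw [res_nat, hb, res_resTop]
  · rw [res_nat, ← hs, map_sub, res_res, res_res, res_res, res_res]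

/-- A presentation by the trivial cocycle gives the zero class. -/
theorem Pres.exists_lift {U V : X.Opens} (hUV : U ⊔ V = ⊤) {t : Q.obj.obj (op (EtCoh.top X))}
    (h : Pres f g U V 0 t) : ∃ z, g.hom.app (op (EtCoh.top X)) z = t := by
  obtain ⟨a, b, ha, hb, hs⟩ := h
  rw [map_zero, sub_eq_zero] at hs
  obtain ⟨z, ⟨h1, h2⟩, -⟩ := MV.exists_glue U V hUV I a b hs.symm
  refine ⟨z, ?_⟩
  obtain ⟨t₀, -, huniq⟩ := MV.exists_glue U V hUV Q (resTop U t) (resTop V t) (by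
    show res Q _ (resTop U t) = res Q _ (resTop V t)
    rw [res_resTop, res_resTop])
  refine (huniq _ ⟨?_, ?_⟩).trans (huniq t ⟨rfl, rfl⟩).symm
  · rw [← ha, ← h1]; exact (NatTrans.naturality_apply g.hom (MV.oTop U).op z).symm
  · rw [← hb, ← h2]; exact (NatTrans.naturality_apply g.hom (MV.oTop V).op z).symm

/-- The class of a global section of the quotient. -/
abbrev cls (hS : (ShortComplex.mk f g w).ShortExact) (t : Q.obj.obj (op (EtCoh.top X))) : EtCoh.H X (EtCoh.Gm X) 1 :=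
  δH hS 0 ((secEq Q).symm t)

theorem cls_sub (hS : (ShortComplex.mk f g w).ShortExact) (t t' : Q.obj.obj (op (EtCoh.top X))) :
    cls hS (t - t') = cls hS t - cls hS t' := by
  rw [cls, map_sub]
  exact map_sub (δH hS 0) _ _

theorem Pres.cls_eq (hS : (ShortComplex.mk f g w).ShortExact) {U V : X.Opens} (hUV : U ⊔ V = ⊤)
    {s : (EtCoh.Gm X).obj.obj (op (MV.oE (U ⊓ V)))} {t t' : Q.obj.obj (op (EtCoh.top X))}
    (h : Pres f g U V s t) (h' : Pres f g U V s t') : cls hS t = cls hS t' := by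
  rw [← sub_eq_zero, ← cls_sub]
  exact (L28.GmH1.δ_eq_zero_iff hS _).2 (Pres.exists_lift hUV (sub_self s ▸ h.sub h'))

theorem exists_cls (hS : (ShortComplex.mk f g w).ShortExact) [Injective I] (c : EtCoh.H X (EtCoh.Gm X) 1) :
    ∃ t, cls hS t = c := by
  obtain ⟨y, rfl⟩ := LimCoh.exists_δH hS 0 c (LimCoh.eq_zero_of_injective I 0 _)
  exact ⟨secEq Q y, congrArg (δH hS 0) ((secEq Q).symm_apply_apply y)⟩

section Pullback

variable {Z : Scheme.{u}} (i : Z ⟶ X) [PreservesFiniteLimits (EtCoh.pull i)] {I₀ Q₀ : EtCoh.Ab Z}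
  {f₀ : EtCoh.Gm Z ⟶ I₀} {g₀ : I₀ ⟶ Q₀} {w₀ : f₀ ≫ g₀ = 0}

/-- The inclusion of a preimage. -/
def qO (W : X.Opens) : MV.oE (i ⁻¹ᵁ W) ⟶ (EtCoh.bc i).obj (MV.oE W) :=
  LimCoh.lift i (T := MV.oE (i ⁻¹ᵁ W)) (V := MV.oE W) (i ∣_ W) (morphismRestrict_ι i W)

/-- Pullback of sections over opens along a morphism to a direct image. -/
def rho {F : EtCoh.Ab X} {G : EtCoh.Ab Z} (φ : F ⟶ (EtCoh.push i).obj G) (W : X.Opens) :
    (F.obj.obj (op (MV.oE W))) →+ (G.obj.obj (op (MV.oE (i ⁻¹ᵁ W)))) :=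
  (G.obj.map (qO i W).op).hom.comp (φ.hom.app (op (MV.oE W))).hom

/-- Pullback of global sections along a morphism to a direct image. -/
def rhoTop {F : EtCoh.Ab X} {G : EtCoh.Ab Z} (φ : F ⟶ (EtCoh.push i).obj G) :
    (F.obj.obj (op (EtCoh.top X))) →+ (G.obj.obj (op (EtCoh.top Z))) :=
  (G.obj.map (EtCore.bcTopIso i).inv.op).hom.comp (φ.hom.app (op (EtCoh.top X))).hom

theorem rho_nat {F F' : EtCoh.Ab X} {G G' : EtCoh.Ab Z} (φ : F ⟶ (EtCoh.push i).obj G)
    (φ' : F' ⟶ (EtCoh.push i).obj G') (a : F ⟶ F') (b : G ⟶ G') (e : a ≫ φ' = φ ≫ (EtCoh.push i).map b)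
    (W : X.Opens) (s : F.obj.obj (op (MV.oE W))) :
    rho i φ' W (a.hom.app _ s) = b.hom.app _ (rho i φ W s) := by
  refine (congrArg (G'.obj.map (qO i W).op)
    (congrArg (fun m : F ⟶ (EtCoh.push i).obj G' => m.hom.app (op (MV.oE W)) s) e)).trans ?_
  exact (NatTrans.naturality_apply b.hom (qO i W).op _).symm

theorem qO_comp {V W : X.Opens} (h : V ≤ W) :
    MV.oHom (i.preimage_mono h) ≫ qO i W = qO i V ≫ (EtCoh.bc i).map (MV.oHom h) :=
  LimCoh.bc_hom_ext i ((cancel_mono W.ι).1 ((Category.assoc _ _ _).trans ((congrArg (_ ≫ ·) (LimCoh.fstB_w i (MV.oE W))).trans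
    (Eq.trans ((Category.assoc _ _ _).symm.trans ((congrArg (· ≫ i) ((MorphismProperty.Over.w (MV.oHom (i.preimage_mono h) ≫ qO i W)).trans
      (MorphismProperty.Over.w (qO i V ≫ (EtCoh.bc i).map (MV.oHom h))).symm)).trans (Category.assoc _ _ _)))
      ((congrArg (_ ≫ ·) (LimCoh.fstB_w i (MV.oE W))).symm.trans (Category.assoc _ _ _).symm)))))

theorem rho_res {F : EtCoh.Ab X} {G : EtCoh.Ab Z} (φ : F ⟶ (EtCoh.push i).obj G) {V W : X.Opens} (h : V ≤ W)
    (s : F.obj.obj (op (MV.oE W))) : rho i φ V (res F h s) = res G (i.preimage_mono h) (rho i φ W s) := by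
  refine (congrArg (G.obj.map (qO i V).op) (NatTrans.naturality_apply φ.hom (MV.oHom h).op s)).trans ?_
  show G.obj.map _ (G.obj.map _ _) = G.obj.map _ (G.obj.map _ _)
  refine (Functor.map_comp_apply G.obj _ _ _).symm.trans (Eq.trans ?_ (Functor.map_comp_apply G.obj _ _ _))
  exact congrArg (fun l => G.obj.map (Quiver.Hom.op l) (φ.hom.app (op (MV.oE W)) s)) (qO_comp i h).symm

theorem rho_resTop {F : EtCoh.Ab X} {G : EtCoh.Ab Z} (φ : F ⟶ (EtCoh.push i).obj G) (W : X.Opens)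
    (t : F.obj.obj (op (EtCoh.top X))) : rho i φ W (resTop W t) = resTop (i ⁻¹ᵁ W) (rhoTop i φ t) := by
  refine (congrArg (G.obj.map (qO i W).op) (NatTrans.naturality_apply φ.hom (MV.oTop W).op t)).trans ?_
  show G.obj.map _ (G.obj.map _ _) = G.obj.map _ (G.obj.map _ _)
  refine (Functor.map_comp_apply G.obj _ _ _).symm.trans (Eq.trans ?_ (Functor.map_comp_apply G.obj _ _ _))
  exact congrArg (fun l => G.obj.map (Quiver.Hom.op l) (φ.hom.app (op (EtCoh.top X)) t))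
    ((EtCore.bcTopIsTerminal i).hom_ext (qO i W ≫ (EtCoh.bc i).map (MV.oTop W))
      (MV.oTop (i ⁻¹ᵁ W) ≫ (EtCore.bcTopIso i).inv))

theorem rho_GmPush {W : X.Opens} (a : Γ(X, W)ˣ) :
    rho i (EtLim.GmPush i) W (gm a) = gm (Units.map (i.app W).hom.toMonoidHom a) := by
  refine L28.GmH1.ext_U ?_
  show (qO i W).left.appTop ((pullback.fst (MV.oE W).hom i).appTop (X.presheaf.map (homOfLE (W.ι_image_le ⊤)).op (a : Γ(X, W)))) =
    Z.presheaf.map (homOfLE ((i ⁻¹ᵁ W).ι_image_le ⊤)).op (i.app W (a : Γ(X, W)))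
  refine ((ConcreteCategory.congr_hom (Scheme.Hom.comp_appTop (qO i W).left (pullback.fst (MV.oE W).hom i)) _).symm.trans
    (congrArg (fun k : ((i ⁻¹ᵁ W : Z.Opens) : Scheme.{u}) ⟶ (W : Scheme.{u}) =>
      k.appTop (X.presheaf.map (homOfLE (W.ι_image_le ⊤)).op (a : Γ(X, W)))) (LimCoh.lift_fstB i _ _))).trans ?_
  rw [morphismRestrict_appTop]
  refine (congrArg (Z.presheaf.map _) (NatTrans.naturality_apply i.c _ (a : Γ(X, W)))).trans ?_
  show Z.presheaf.map _ (Z.presheaf.map _ _) = _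
  rw [← Functor.map_comp_apply]
  rfl

theorem exists_compat [Injective I₀] (hS : (ShortComplex.mk f g w).ShortExact)
    (hS₀ : (ShortComplex.mk f₀ g₀ w₀).ShortExact) :
    ∃ (φ₂ : I ⟶ (EtCoh.push i).obj I₀) (φ₃ : Q ⟶ (EtCoh.push i).obj Q₀),
      f ≫ φ₂ = EtLim.GmPush i ≫ (EtCoh.push i).map f₀ ∧ g ≫ φ₃ = φ₂ ≫ (EtCoh.push i).map g₀ ∧
      ∀ t, EtLim.HpullThen i (EtCoh.Gm X) (gmAdj i) 1 (cls hS t) = cls hS₀ (rhoTop i φ₃ t) := by
  haveI : Injective ((EtCoh.push i).obj I₀) := Injective.injective_of_adjoint (EtCoh.pullPushAdj i) I₀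
  haveI : Mono f := hS.mono_f
  haveI : Epi g := hS.epi_g
  let φ₂ := Injective.factorThru (EtLim.GmPush i ≫ (EtCoh.push i).map f₀) f
  have h2 : f ≫ φ₂ = EtLim.GmPush i ≫ (EtCoh.push i).map f₀ := Injective.comp_factorThru _ _
  let c := CokernelCofork.IsColimit.desc' hS.gIsCokernel (φ₂ ≫ (EtCoh.push i).map g₀) (by
    rw [← Category.assoc, h2, Category.assoc, ← Functor.map_comp, w₀, Functor.map_zero, comp_zero])
  refine ⟨φ₂, c.1, h2, c.2, fun t => ?_⟩
  let φ : (ShortComplex.mk f g w).map (EtCoh.pull i) ⟶ ShortComplex.mk f₀ g₀ w₀ :=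
    ShortComplex.homMk (gmAdj i) (((EtCoh.pullPushAdj i).homEquiv _ _).symm φ₂)
      (((EtCoh.pullPushAdj i).homEquiv _ _).symm c.1)
      (by
        show gmAdj i ≫ f₀ = (EtCoh.pull i).map f ≫ _
        rw [← Adjunction.homEquiv_naturality_left_symm, h2, Adjunction.homEquiv_naturality_right_symm]
        rfl)
      (by
        show _ ≫ g₀ = (EtCoh.pull i).map g ≫ _
        rw [← Adjunction.homEquiv_naturality_right_symm, ← Adjunction.homEquiv_naturality_left_symm]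
        exact congrArg _ c.2.symm)
  refine (LimCoh.HpullThen_δH i hS hS₀ φ 0 _).trans (congrArg (δH hS₀ 0) ((secEq Q₀).injective ?_))
  refine (LimCoh.secEq_HpullThen i Q _ _).trans ?_
  rw [AddEquiv.apply_symm_apply, AddEquiv.apply_symm_apply]
  show Q₀.obj.map (EtCore.bcTopIso i).inv.op ((((EtCoh.pullPushAdj i).homEquiv _ _)
    (((EtCoh.pullPushAdj i).homEquiv _ _).symm c.1)).hom.app (op (EtCoh.top X)) t) = _
  rw [Equiv.apply_symm_apply]
  rfl

/-- Presentations pull back. -/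
theorem Pres.pull {φ₂ : I ⟶ (EtCoh.push i).obj I₀} {φ₃ : Q ⟶ (EtCoh.push i).obj Q₀}
    (h2 : f ≫ φ₂ = EtLim.GmPush i ≫ (EtCoh.push i).map f₀) (h3 : g ≫ φ₃ = φ₂ ≫ (EtCoh.push i).map g₀)
    {U V : X.Opens} {s : (EtCoh.Gm X).obj.obj (op (MV.oE (U ⊓ V)))} {t : Q.obj.obj (op (EtCoh.top X))}
    (h : Pres f g U V s t) :
    Pres f₀ g₀ (i ⁻¹ᵁ U) (i ⁻¹ᵁ V) (rho i (EtLim.GmPush i) (U ⊓ V) s) (rhoTop i φ₃ t) := by
  obtain ⟨a, b, ha, hb, hs⟩ := h
  refine ⟨rho i φ₂ U a, rho i φ₂ V b, ?_, ?_, ?_⟩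
  · rw [← rho_nat i φ₂ φ₃ g g₀ h3, ha, rho_resTop]
  · rw [← rho_nat i φ₂ φ₃ g g₀ h3, hb, rho_resTop]
  · refine Eq.trans ?_ ((congrArg (rho i φ₂ (U ⊓ V)) hs).trans (rho_nat i (EtLim.GmPush i) φ₂ f f₀ h2 (U ⊓ V) s))
    rw [map_sub, rho_res, rho_res]
    rfl

end Pullback

end Groth.L27.PBC
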