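import Groth.Agent.L27.PBC.Main
import Groth.Agent.L27.PBC.Henselian
import Groth.Agent.S0121
import Groth.Agent.S17971
import Groth.Agent.S0388
import Groth.Agent.S1297
import Groth.Agent.L02.CAlg.QFSlice.Charts

/-! # Proper schemes over henselian pairs and proper henselian couples -/

set_option autoImplicit false
set_option linter.style.haveILetI false
set_option linter.unusedSectionVars false
set_option backward.isDefEq.respectTransparency.types false

universe u

open CategoryTheory CategoryTheory.Limits AlgebraicGeometry Opposite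

noncomputable section

namespace Groth.L27.PBC

open Groth.L27.HenselProper (ι)

section Pair

variable {A : Type u} [CommRing A] (I : Ideal A) [HenselianRing A I] {X : Scheme.{u}}
  (f : X ⟶ Spec (CommRingCat.of A)) [IsProper f]

theorem bijective_Hpull_base [PreservesFiniteLimits (EtCoh.pull (ι I))] (G : EtCoh.Ab (Spec (CommRingCat.of A)))
    (hG : EtCoh.IsTorsion G) (q : ℕ) : Function.Bijective (EtCore.Hpull (ι I) G q) := by
  haveI : IsClosedImmersion (ι I) := IsClosedImmersion.spec_of_surjective _ Ideal.Quotient.mk_surjective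
  have hP : Function.Bijective (EtLim.HofPush (ι I) ((EtCoh.pull (ι I)).obj G) q) :=
    EtSite.bijective_HofPush (ι I) _ (fun p hp =>
      EtSite.isZero_Rpush_of_propB (ι I) (EtSite.propB_of_isIntegralHom (ι I)) _ p hp) q
  have hc : (EtCore.Hpull (ι I) G q : _ → _) =
      EtLim.HofPush (ι I) ((EtCoh.pull (ι I)).obj G) q ∘ Sheaf.H.map ((EtCoh.pullPushAdj (ι I)).unit.app G) q :=
    funext fun e => EtSite.Hpull_apply (ι I) G q e
  rw [hc]
  exact hP.comp (Groth.Agent.S0121.result A I G hG q)

/-- Torsion cohomology of a proper scheme over a henselian pair is that of the special fibre. -/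
theorem bijective_special [PreservesFiniteLimits (EtCoh.pull (pullback.fst f (ι I)))] :
    ∀ (q : ℕ) (F : EtCoh.Ab X), EtCoh.IsTorsion F → Function.Bijective (EtCore.Hpull (pullback.fst f (ι I)) F q) := by
  haveI : CompactSpace X := QuasiCompact.compactSpace_of_compactSpace f
  haveI : QuasiSeparatedSpace X := quasiSeparatedSpace_of_quasiSeparated f
  haveI := EtSite.preservesFiniteLimits_pull (ι I)
  haveI := EtSite.preservesFiniteLimits_pull f
  haveI : IsClosedImmersion (ι I) := IsClosedImmersion.spec_of_surjective _ Ideal.Quotient.mk_surjective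
  refine bijective_of_effacement _ (fun F _ => ProperH1.bijective_zero I f F) fun n F hF ξ => ?_
  obtain ⟨G, φ, _, hG, hGv, hGR⟩ :=
    CompTransfer.exists_torsion_effacement Set.univ F (AffineEfface.isLTorsion_univ hF)
  refine ⟨G, φ, ‹_›, AffineEfface.isTorsion_of_isLTorsion hG, ?_⟩
  haveI := hGv n
  haveI : Subsingleton (EtCoh.H (Spec (CommRingCat.of A)) ((EtCoh.push f).obj G) (n + 1)) :=
    (EtSite.bijective_HofPush f G (fun q hq => hGR f q hq) (n + 1)).1.subsingleton
  have h0 : Subsingleton (EtCoh.H (Spec (CommRingCat.of (A ⧸ I))) ((EtCoh.pull (ι I)).obj ((EtCoh.push f).obj G)) (n + 1)) :=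
    (bijective_Hpull_base I ((EtCoh.push f).obj G)
      (Colim.isTorsion_push f (AffineEfface.isTorsion_of_isLTorsion hG)) (n + 1)).2.subsingleton
  have h1 := (subsingleton_downstairs f (IsPullback.of_hasPullback f (ι I)) (univ f) G
    (AffineEfface.isTorsion_of_isLTorsion hG) (fun q hq => hGR f q hq) (n + 1)).1 h0
  exact @Subsingleton.elim (EtCoh.H (pullback f (ι I)) ((EtCoh.pull (pullback.fst f (ι I))).obj G) (n + 1)) h1 _ _

/-- The same, for the unit of the adjunction. -/
theorem bijective_unit_special (F : EtCoh.Ab X) (hF : EtCoh.IsTorsion F) (q : ℕ) :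
    Function.Bijective (Sheaf.H.map ((EtCoh.pullPushAdj (pullback.fst f (ι I))).unit.app F) q) := by
  haveI : IsClosedImmersion (ι I) := IsClosedImmersion.spec_of_surjective _ Ideal.Quotient.mk_surjective
  haveI := EtSite.preservesFiniteLimits_pull (pullback.fst f (ι I))
  have hP : Function.Bijective (EtLim.HofPush (pullback.fst f (ι I)) ((EtCoh.pull (pullback.fst f (ι I))).obj F) q) :=
    EtSite.bijective_HofPush _ _ (fun p hp =>
      EtSite.isZero_Rpush_of_propB _ (EtSite.propB_of_isIntegralHom _) _ p hp) q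
  have hc : (EtCore.Hpull (pullback.fst f (ι I)) F q : _ → _) =
      EtLim.HofPush (pullback.fst f (ι I)) ((EtCoh.pull (pullback.fst f (ι I))).obj F) q ∘
        Sheaf.H.map ((EtCoh.pullPushAdj (pullback.fst f (ι I))).unit.app F) q :=
    funext fun e => EtSite.Hpull_apply _ F q e
  have h := bijective_special I f q F hF
  rw [hc] at h
  exact (Function.Bijective.of_comp_iff' hP _).1 h

end Pair

section Couple

theorem image_eq_of_connected_fibres {Y Y' : Type*} [TopologicalSpace Y] [TopologicalSpace Y'] {q : Y → Y'}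
    (hc : ∀ y, _root_.IsPreconnected (q ⁻¹' {y})) {U : Set Y} (hU : IsClopen U) : q ⁻¹' (q '' U) = U := by
  refine Set.Subset.antisymm (fun x ⟨z, hz, hzx⟩ => ?_) (Set.subset_preimage_image q U)
  exact (hc (q x)).subset_isClopen hU ⟨z, hzx, hz⟩ rfl

/-- A henselian couple proper over an affine scheme comes from a henselian pair. -/
theorem exists_henselian_pair {A : Type u} [CommRing A] [IsNoetherianRing A] (I : Ideal A) {X : Scheme.{u}}
    (f : X ⟶ Spec (CommRingCat.of A)) [IsProper f]
    (hX : ∀ (Y : Scheme.{u}) (g : Y ⟶ X), IsFinite g →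
      ∀ V : Set ↥(pullback g (pullback.fst f (ι I))), IsClopen V →
        ∃! U : Set ↥Y, IsClopen U ∧ (pullback.fst g (pullback.fst f (ι I))).base ⁻¹' U = V) :
    ∃ (B : Type u) (_ : CommRing B) (J : Ideal B) (p : X ⟶ Spec (CommRingCat.of B))
      (b : Spec (CommRingCat.of (B ⧸ J)) ⟶ Spec (CommRingCat.of (A ⧸ I))),
      IsProper p ∧ HenselianRing B J ∧ IsPullback (pullback.fst p (ι J)) (pullback.snd p (ι J) ≫ b) f (ι I) := by
  haveI := Groth.Agent.S1297.result f
  haveI : IsAffine f.normalization := isAffine_of_isAffineHom f.fromNormalization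
  let B := Γ(f.normalization, ⊤)
  let p : X ⟶ Spec (CommRingCat.of B) := f.toNormalization ≫ f.normalization.isoSpec.hom
  obtain ⟨φ, hφ⟩ : ∃ φ : A →+* B, f.normalization.isoSpec.inv ≫ f.fromNormalization = Spec.map (CommRingCat.ofHom φ) :=
    ⟨(Spec.preimage (f.normalization.isoSpec.inv ≫ f.fromNormalization)).hom, (Spec.map_preimage _).symm⟩
  have hpf : p ≫ Spec.map (CommRingCat.ofHom φ) = f := by
    rw [← hφ]
    simp [p]
  haveI : IsProper p := by
    haveI : IsProper (p ≫ Spec.map (CommRingCat.ofHom φ)) := by rw [hpf]; infer_instance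
    exact IsProper.of_comp p (Spec.map (CommRingCat.ofHom φ))
  haveI : GeometricallyConnected f.toNormalization := (Groth.Agent.S0388.result f).1
  haveI : GeometricallyConnected p :=
    (MorphismProperty.cancel_right_of_respectsIso @GeometricallyConnected f.toNormalization _).2 inferInstance
  haveI : IsDominant p := inferInstanceAs (IsDominant (f.toNormalization ≫ f.normalization.isoSpec.hom))
  haveI : Surjective p := ⟨Set.range_eq_univ.1
    ((p.isClosedMap.isClosed_range.closure_eq).symm.trans p.denseRange.closure_eq)⟩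
  let J : Ideal B := I.map φ
  obtain ⟨b, hb⟩ := L02.CAlg.QFSlice.isPullback_Spec_quotient φ I J rfl
  have hsq : IsPullback (pullback.fst p (ι J)) (pullback.snd p (ι J) ≫ b) f (ι I) :=
    hpf ▸ (IsPullback.of_hasPullback p (ι J)).paste_vert hb
  refine ⟨B, inferInstance, J, p, b, ‹_›, ?_, hsq⟩
  rw [Groth.Agent.S17971.result]
  intro W w hw V hV
  let Y := pullback w p
  let a : Y ⟶ W := pullback.fst w p
  let g : Y ⟶ X := pullback.snd w p
  haveI := hw
  haveI : IsFinite g := inferInstance
  haveI : IsProper a := inferInstance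
  haveI : Surjective a := inferInstance
  haveI : GeometricallyConnected a := inferInstance
  haveI hca : ∀ y, _root_.IsPreconnected ((a : Y → W) ⁻¹' {y}) := fun y => by
    haveI : ConnectedSpace ↥(a.fiber y) := inferInstance
    exact a.range_fiberι y ▸ isPreconnected_range (a.fiberι y).continuous
  let i := pullback.fst f (ι I)
  let θ := hsq.isoPullback
  have hθ : θ.hom ≫ i = pullback.fst p (ι J) := hsq.isoPullback_hom_fst
  have hθ' : θ.inv ≫ pullback.fst p (ι J) = i := by rw [← hθ, Iso.inv_hom_id_assoc]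
  let m : pullback g i ⟶ pullback w (ι J) :=
    pullback.lift (pullback.fst g i ≫ a) (pullback.snd g i ≫ θ.inv ≫ pullback.snd p (ι J)) (by
      simp only [Category.assoc, a, g, pullback.condition]
      rw [← pullback.condition (f := p) (g := ι J), reassoc_of% hθ']
      exact (reassoc_of% (pullback.condition (f := g) (g := i))) p)
  haveI : IsClosedImmersion (ι J) := IsClosedImmersion.spec_of_surjective _ Ideal.Quotient.mk_surjective
  have hm : ∀ z' : ↥(pullback g i), pullback.fst w (ι J) (m z') = a (pullback.fst g i z') := fun z' => by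
    rw [← Scheme.Hom.comp_apply, ← Scheme.Hom.comp_apply, pullback.lift_fst]
  have hsurj : Function.Surjective m := fun z => by
    obtain ⟨y, hy⟩ := a.surjective (pullback.fst w (ι J) z)
    have h1 : g y ∈ Set.range (pullback.fst p (ι J)) := by
      rw [Scheme.Pullback.range_fst]
      refine ⟨pullback.snd w (ι J) z, ?_⟩
      have e1 := HenselProper.app_comm (pullback.condition (f := w) (g := ι J)) z
      have e2 := HenselProper.app_comm (pullback.condition (f := w) (g := p)) y
      exact e1.symm.trans ((congrArg w hy).symm.trans e2)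
    obtain ⟨z₀, hz₀⟩ := h1
    have h2 : y ∈ Set.range (pullback.fst g i) := by
      rw [Scheme.Pullback.range_fst]
      refine ⟨θ.hom z₀, ?_⟩
      rw [← Scheme.Hom.comp_apply, hθ, hz₀]
    obtain ⟨z', rfl⟩ := h2
    exact ⟨z', (pullback.fst w (ι J)).isClosedEmbedding.injective ((hm z').trans hy)⟩
  obtain ⟨U, ⟨hU, hUV⟩, huniq⟩ := hX Y g ‹_› (m ⁻¹' V) (hV.preimage m.continuous)
  have hUV' : ∀ z', pullback.fst g i z' ∈ U ↔ m z' ∈ V := fun z' => Set.ext_iff.1 hUV z'
  have hsat : (a : Y → W) ⁻¹' (a '' U) = U := image_eq_of_connected_fibres hca hU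
  have hcompl : ((a : Y → W) '' U)ᶜ = a '' Uᶜ := by
    ext x
    obtain ⟨y, rfl⟩ := a.surjective x
    constructor
    · exact fun h => ⟨y, fun hy => h ⟨y, hy, rfl⟩, rfl⟩
    · rintro ⟨y', hy', hyy⟩ ⟨y'', hy'', hyy'⟩
      exact hy' (hsat ▸ (show y' ∈ (a : Y → W) ⁻¹' (a '' U) from ⟨y'', hy'', hyy'.trans hyy.symm⟩))
  refine ⟨(a : Y → W) '' U, ⟨⟨a.isClosedMap _ hU.isClosed, ?_⟩, ?_⟩, ?_⟩
  · rw [← isClosed_compl_iff, hcompl]
    exact a.isClosedMap _ hU.compl.isClosed
  · ext z
    obtain ⟨z', rfl⟩ := hsurj z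
    show pullback.fst w (ι J) (m z') ∈ (a : Y → W) '' U ↔ _
    rw [hm, ← Set.mem_preimage, hsat, hUV']
  · rintro U'' ⟨hU'', hU''V⟩
    have := huniq ((a : Y → W) ⁻¹' U'') ⟨hU''.preimage a.continuous, by
      ext z'
      show a (pullback.fst g i z') ∈ U'' ↔ m z' ∈ V
      rw [← hm]
      exact Set.ext_iff.1 hU''V (m z')⟩
    rw [← this, Set.image_preimage_eq _ a.surjective]

/-- Transfer of bijectivity along an isomorphism of sources. -/
theorem bijective_map_unit_of_iso {X Z Z' : Scheme.{u}} (θ : Z ≅ Z') (k : Z' ⟶ X) [IsClosedImmersion k]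
    (i : Z ⟶ X) [IsClosedImmersion i] (w : θ.hom ≫ k = i) (F : EtCoh.Ab X) (q : ℕ)
    (h : Function.Bijective (Sheaf.H.map ((EtCoh.pullPushAdj k).unit.app F) q)) :
    Function.Bijective (Sheaf.H.map ((EtCoh.pullPushAdj i).unit.app F) q) := by
  haveI := EtSite.preservesFiniteLimits_pull i
  haveI := EtSite.preservesFiniteLimits_pull k
  haveI := EtSite.preservesFiniteLimits_pull θ.hom
  have hP : ∀ {W : Scheme.{u}} (j : W ⟶ X) [IsClosedImmersion j] [PreservesFiniteLimits (EtCoh.pull j)],
      Function.Bijective (EtLim.HofPush j ((EtCoh.pull j).obj F) q) := fun j _ _ =>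
    EtSite.bijective_HofPush j _ (fun p hp =>
      EtSite.isZero_Rpush_of_propB j (EtSite.propB_of_isIntegralHom j) _ p hp) q
  have hc : ∀ {W : Scheme.{u}} (j : W ⟶ X) [PreservesFiniteLimits (EtCoh.pull j)],
      (EtCore.Hpull j F q : _ → _) =
      EtLim.HofPush j ((EtCoh.pull j).obj F) q ∘ Sheaf.H.map ((EtCoh.pullPushAdj j).unit.app F) q :=
    fun j _ => funext fun e => EtSite.Hpull_apply j F q e
  have h1 : Function.Bijective (EtCore.Hpull k F q) := by rw [hc k]; exact (hP k).comp h
  haveI := isIso_gamma θ.hom k w F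
  have h2 : Function.Bijective ((EtCoh.HF Z q).map (LimCoh.gamma θ.hom k w F) ∘ EtCore.Hpull i F q) := by
    rw [show (EtCoh.HF Z q).map (LimCoh.gamma θ.hom k w F) ∘ EtCore.Hpull i F q =
      EtCore.Hpull θ.hom _ q ∘ EtCore.Hpull k F q from funext fun e => (LimCoh.Hpull_comp θ.hom k w q F e).symm]
    exact (Groth.Agent.S0642.result θ.hom _ q).comp h1
  have h3 := (Function.Bijective.of_comp_iff' (ConcreteCategory.bijective_of_isIso
    ((EtCoh.HF Z q).map (LimCoh.gamma θ.hom k w F))) _).1 h2
  rw [hc i] at h3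
  exact (Function.Bijective.of_comp_iff' (hP i) _).1 h3

/-- Cohomology of a proper henselian couple. -/
theorem bijective_couple {A : Type u} [CommRing A] [IsNoetherianRing A] (I : Ideal A) {X : Scheme.{u}}
    (f : X ⟶ Spec (CommRingCat.of A)) [IsProper f]
    (hX : ∀ (Y : Scheme.{u}) (g : Y ⟶ X), IsFinite g →
      ∀ V : Set ↥(pullback g (pullback.fst f (ι I))), IsClopen V →
        ∃! U : Set ↥Y, IsClopen U ∧ (pullback.fst g (pullback.fst f (ι I))).base ⁻¹' U = V)
    (F : EtCoh.Ab X) (hF : EtCoh.IsTorsion F) (q : ℕ) :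
    Function.Bijective (Sheaf.H.map ((EtCoh.pullPushAdj (pullback.fst f (ι I))).unit.app F) q) := by
  obtain ⟨B, _, J, p, b, _, _, hsq⟩ := exists_henselian_pair I f hX
  haveI : IsClosedImmersion (ι I) := IsClosedImmersion.spec_of_surjective _ Ideal.Quotient.mk_surjective
  haveI : IsClosedImmersion (ι J) := IsClosedImmersion.spec_of_surjective _ Ideal.Quotient.mk_surjective
  exact bijective_map_unit_of_iso hsq.isoPullback.symm (pullback.fst p (ι J)) _ hsq.isoPullback_inv_fst F q
    (bijective_unit_special J p F hF q)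

end Couple

end Groth.L27.PBC
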