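import Groth.Agent.L27.EtSite.PushStalk
import Mathlib.AlgebraicGeometry.Morphisms.Etale

/-! # Stalks of direct images where the morphism is an isomorphism -/

set_option autoImplicit false
set_option backward.isDefEq.respectTransparency.types false
set_option linter.style.haveILetI false
set_option linter.unusedSectionVars false

universe u

open CategoryTheory CategoryTheory.Limits AlgebraicGeometry Opposite

noncomputable section

namespace Groth.L27.IsoOver

open Groth.L27.EtSite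

variable {X Y : Scheme.{u}} (f : X ⟶ Y) (U₀ : Y.Opens) (hf : IsIso (f ∣_ U₀))

theorem app_eq {P Q S : Scheme.{u}} {a : P ⟶ Q} {b : Q ⟶ S} {d : P ⟶ S} (h : a ≫ b = d) (x : P) :
    b (a x) = d x := by
  rw [← Scheme.Hom.comp_apply, h]

include hf in
theorem hom_ext {T : Scheme.{u}} (a b : T ⟶ X) (ha : Set.range a ⊆ (f ⁻¹ᵁ U₀ : Set X))
    (hb : Set.range b ⊆ (f ⁻¹ᵁ U₀ : Set X)) (h : a ≫ f = b ≫ f) : a = b := by
  haveI := hf
  let a' := IsOpenImmersion.lift (f ⁻¹ᵁ U₀).ι a (by simpa using ha)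
  let b' := IsOpenImmersion.lift (f ⁻¹ᵁ U₀).ι b (by simpa using hb)
  have hab : a' = b' := by
    rw [← cancel_mono (f ∣_ U₀), ← cancel_mono U₀.ι, Category.assoc, Category.assoc, morphismRestrict_ι,
      IsOpenImmersion.lift_fac_assoc, IsOpenImmersion.lift_fac_assoc, h]
  rw [← IsOpenImmersion.lift_fac (f ⁻¹ᵁ U₀).ι a (by simpa using ha),
    ← IsOpenImmersion.lift_fac (f ⁻¹ᵁ U₀).ι b (by simpa using hb)]
  exact congrArg (· ≫ _) hab

variable {Ω : Type u} [Field Ω] [IsSepClosed Ω] (ξ : Spec (CommRingCat.of Ω) ⟶ X)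
  (hξ : ξ (default : Spec (CommRingCat.of Ω)) ∈ f ⁻¹ᵁ U₀)

include hf hξ in
theorem exists_nbhd_into (U : X.Etale) (x : (Scheme.pointSmallEtale ξ).fiber.obj U) :
    ∃ (V : Y.Etale) (y : (Scheme.pointSmallEtale ξ).fiber.obj ((EtCoh.bc f).obj V))
      (g : (EtCoh.bc f).obj V ⟶ U), (Scheme.pointSmallEtale ξ).fiber.map g y = x := by
  haveI := hf
  haveI : AlgebraicGeometry.Etale U.hom := U.prop
  let O : U.left.Opens := U.hom ⁻¹ᵁ (f ⁻¹ᵁ U₀)
  have hO : O.ι ≫ U.hom ≫ f = (U.hom ∣_ (f ⁻¹ᵁ U₀)) ≫ (f ∣_ U₀) ≫ U₀.ι := by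
    rw [morphismRestrict_ι, morphismRestrict_ι_assoc]
  haveI : AlgebraicGeometry.Etale (O.ι ≫ U.hom ≫ f) := by rw [hO]; infer_instance
  let V : Y.Etale := Scheme.Etale.mk (O.ι ≫ U.hom ≫ f)
  have hx : x.left (default : Spec (CommRingCat.of Ω)) ∈ O := by
    show U.hom (x.left (default : Spec (CommRingCat.of Ω))) ∈ f ⁻¹ᵁ U₀
    exact (app_eq (b := U.hom) (d := ξ) (Over.w x) _).symm ▸ hξ
  let x' : Spec (CommRingCat.of Ω) ⟶ (O : Scheme.{u}) := IsOpenImmersion.lift O.ι x.left (by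
    rintro _ ⟨t, rfl⟩
    rw [Subsingleton.elim (α := Spec (CommRingCat.of Ω)) t default]
    exact ⟨⟨_, hx⟩, rfl⟩)
  have hx' : x' ≫ O.ι = x.left := IsOpenImmersion.lift_fac _ _ _
  let p : pullback V.hom f ⟶ (O : Scheme.{u}) := pullback.fst V.hom f
  have hw : p ≫ O.ι ≫ U.hom = pullback.snd V.hom f := by
    refine hom_ext f U₀ hf _ _ ?_ ?_ ?_
    · rintro _ ⟨t, rfl⟩
      exact (p t).2
    · rintro _ ⟨t, rfl⟩
      show f (pullback.snd V.hom f t) ∈ U₀
      rw [← Scheme.Hom.comp_apply, ← pullback.condition, Scheme.Hom.comp_apply]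
      exact (p t).2
    · rw [Category.assoc, Category.assoc]
      exact pullback.condition
  let g : (EtCoh.bc f).obj V ⟶ U := MorphismProperty.Over.homMk (p ≫ O.ι) ((Category.assoc _ _ _).trans hw)
  let y : (Scheme.pointSmallEtale ξ).fiber.obj ((EtCoh.bc f).obj V) :=
    Over.homMk (pullback.lift x' ξ (by
      show x' ≫ O.ι ≫ U.hom ≫ f = ξ ≫ f
      exact (Category.assoc _ _ _).symm.trans ((congrArg (· ≫ U.hom ≫ f) hx').trans
        ((Category.assoc _ _ _).symm.trans (congrArg (· ≫ f) (Over.w x))))))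
      (pullback.lift_snd _ _ _)
  refine ⟨V, y, g, Over.OverMorphism.ext ?_⟩
  show pullback.lift x' ξ _ ≫ pullback.fst V.hom f ≫ O.ι = x.left
  exact (Category.assoc _ _ _).symm.trans ((congrArg (· ≫ O.ι) (pullback.lift_fst _ _ _)).trans hx')

include hf hξ in
theorem exists_shrink (V : Y.Etale)
    (E : ((EtCoh.bc f).obj V).left.Opens) (y : (Scheme.pointSmallEtale ξ).fiber.obj ((EtCoh.bc f).obj V))
    (hy : y.left.base (default : Spec (CommRingCat.of Ω)) ∈ E) :
    ∃ (V' : Y.Etale) (a : V' ⟶ V) (y' : (Scheme.pointSmallEtale ξ).fiber.obj ((EtCoh.bc f).obj V')),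
      (Scheme.pointSmallEtale ξ).fiber.map ((EtCoh.bc f).map a) y' = y ∧
        Set.range ((EtCoh.bc f).map a).left ⊆ E := by
  haveI := hf
  let p : ((EtCoh.bc f).obj V).left ⟶ V.left := pullback.fst V.hom f
  let W : V.left.Opens := V.hom ⁻¹ᵁ U₀
  haveI : IsIso (p ∣_ W) := by
    have h1 : IsPullback (p ∣_ W) ((p ⁻¹ᵁ W).ι ≫ pullback.snd V.hom f) (W.ι ≫ V.hom) f :=
      (isPullback_morphismRestrict p W).paste_vert (IsPullback.of_hasPullback V.hom f)
    have hl : Set.range ((p ⁻¹ᵁ W).ι ≫ pullback.snd V.hom f) ⊆ Set.range (f ⁻¹ᵁ U₀).ι := by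
      rintro _ ⟨t, rfl⟩
      rw [Scheme.Opens.range_ι]
      show f ((pullback.snd V.hom f) ((p ⁻¹ᵁ W).ι t)) ∈ U₀
      rw [← Scheme.Hom.comp_apply, ← pullback.condition, Scheme.Hom.comp_apply]
      exact t.2
    let l : (p ⁻¹ᵁ W : Scheme.{u}) ⟶ (f ⁻¹ᵁ U₀ : Scheme.{u}) := IsOpenImmersion.lift _ _ hl
    have hl' : l ≫ (f ⁻¹ᵁ U₀).ι = (p ⁻¹ᵁ W).ι ≫ pullback.snd V.hom f := IsOpenImmersion.lift_fac _ _ hl
    have h2 : IsPullback (p ∣_ W) l (V.hom ∣_ U₀) (f ∣_ U₀) := by
      refine IsPullback.of_bot (v₁₂ := (V.hom ∣_ U₀)) ?_ ?_ (isPullback_morphismRestrict f U₀)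
      · rw [hl']
        exact (morphismRestrict_ι V.hom U₀).symm ▸ h1
      · rw [← cancel_mono U₀.ι, Category.assoc, Category.assoc, morphismRestrict_ι, morphismRestrict_ι,
          reassoc_of% hl']
        exact h1.w
    exact h2.isIso_fst_of_isIso
  let O : V.left.Opens := W.ι ''ᵁ ((p ∣_ W) ''ᵁ ((p ⁻¹ᵁ W).ι ⁻¹ᵁ E))
  let V' : Y.Etale := Scheme.Etale.mk (O.ι ≫ V.hom)
  let a : V' ⟶ V := MorphismProperty.Over.homMk O.ι rfl
  haveI : IsOpenImmersion ((EtCoh.bc f).map a).left :=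
    MorphismProperty.of_isPullback (P := @IsOpenImmersion) (EtCoh.isPullback_bc_map f a).flip
      (show IsOpenImmersion a.left from inferInstanceAs (IsOpenImmersion O.ι))
  have hyW : y.left.base (default : Spec (CommRingCat.of Ω)) ∈ p ⁻¹ᵁ W := by
    show V.hom (p (y.left.base (default : Spec (CommRingCat.of Ω)))) ∈ U₀
    exact ((app_eq (pullback.condition (f := V.hom) (g := f)) _).trans
      ((Scheme.Hom.comp_apply _ _ _).trans (congrArg f (app_eq (b := pullback.snd V.hom f) (d := ξ) (Over.w y) _)))).symm ▸ hξ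
  have hO : p (y.left.base (default : Spec (CommRingCat.of Ω))) ∈ O :=
    ⟨(p ∣_ W) ⟨_, hyW⟩, ⟨⟨_, hyW⟩, hy, rfl⟩,
      (app_eq (morphismRestrict_ι p W) ⟨_, hyW⟩).trans (Scheme.Hom.comp_apply _ _ _)⟩
  obtain ⟨x', hx'⟩ := exists_point_bc f a (y.left.base (default : Spec (CommRingCat.of Ω))) ⟨_, hO⟩ rfl
  have hr : Set.range y.left ⊆ Set.range ((EtCoh.bc f).map a).left := by
    rintro _ ⟨t, rfl⟩
    exact ⟨x', hx'.trans (congrArg y.left.base (Subsingleton.elim (α := Spec (CommRingCat.of Ω)) _ _))⟩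
  let q : Spec (CommRingCat.of Ω) ⟶ ((EtCoh.bc f).obj V').left :=
    IsOpenImmersion.lift ((EtCoh.bc f).map a).left y.left hr
  have hq : q ≫ ((EtCoh.bc f).map a).left = y.left := IsOpenImmersion.lift_fac _ _ _
  refine ⟨V', a, Over.homMk q ?_, ?_, ?_⟩
  · exact (congrArg (_ ≫ ·) (MorphismProperty.Over.w ((EtCoh.bc f).map a)).symm).trans
      ((Category.assoc _ _ _).symm.trans
        ((congrArg (· ≫ ((EtCoh.bc f).obj V).hom) hq).trans (Over.w y)))
  · exact Over.OverMorphism.ext hq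
  · rintro _ ⟨z, rfl⟩
    have h1 : p (((EtCoh.bc f).map a).left z) = O.ι (pullback.fst V'.hom f z) :=
      (Scheme.Hom.comp_apply _ _ _).symm.trans ((congrArg (fun m : ((EtCoh.bc f).obj V').left ⟶ V.left => m z)
        (EtCoh.isPullback_bc_map f a).w).trans (Scheme.Hom.comp_apply _ _ _))
    obtain ⟨w, ⟨e, he, rfl⟩, hew⟩ := (pullback.fst V'.hom f z).2
    have hzW : ((EtCoh.bc f).map a).left z ∈ p ⁻¹ᵁ W := by
      show p (((EtCoh.bc f).map a).left z) ∈ W
      rw [h1, show O.ι (pullback.fst V'.hom f z) = W.ι ((p ∣_ W) e) from hew.symm]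
      exact ((p ∣_ W) e).2
    have : (⟨_, hzW⟩ : (p ⁻¹ᵁ W : Scheme.{u})) = e := by
      refine (p ∣_ W).isOpenEmbedding.injective (W.ι.isOpenEmbedding.injective ?_)
      rw [← Scheme.Hom.comp_apply, morphismRestrict_ι, Scheme.Hom.comp_apply]
      exact h1.trans hew.symm
    exact congrArg (fun t => (p ⁻¹ᵁ W).ι t ∈ E) this ▸ he

include hf hξ in
theorem exists_agree
    (U : X.Etale) (V : Y.Etale) (y : (Scheme.pointSmallEtale ξ).fiber.obj ((EtCoh.bc f).obj V))
    (g g' : (EtCoh.bc f).obj V ⟶ U)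
    (h : (Scheme.pointSmallEtale ξ).fiber.map g y = (Scheme.pointSmallEtale ξ).fiber.map g' y) :
    ∃ (V' : Y.Etale) (a : V' ⟶ V) (y' : (Scheme.pointSmallEtale ξ).fiber.obj ((EtCoh.bc f).obj V')),
      (Scheme.pointSmallEtale ξ).fiber.map ((EtCoh.bc f).map a) y' = y ∧
        (EtCoh.bc f).map a ≫ g = (EtCoh.bc f).map a ≫ g' := by
  haveI : AlgebraicGeometry.Etale U.hom := U.prop
  let l : ((EtCoh.bc f).obj V).left ⟶ pullback U.hom U.hom :=
    pullback.lift g.left g'.left ((MorphismProperty.Over.w g).trans (MorphismProperty.Over.w g').symm)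
  let Δ : U.left ⟶ pullback U.hom U.hom := pullback.diagonal U.hom
  haveI : IsOpenImmersion Δ := inferInstanceAs (IsOpenImmersion (pullback.diagonal U.hom))
  have h' : y.left ≫ g.left = y.left ≫ g'.left := congrArg (fun q => q.left) h
  have hl : y.left ≫ l = (y.left ≫ g.left) ≫ Δ := by
    apply pullback.hom_ext
    · exact ((Category.assoc _ _ _).trans (congrArg (y.left ≫ ·) (pullback.lift_fst _ _ _))).trans
        ((Category.assoc _ _ _).trans ((congrArg (_ ≫ ·) (pullback.diagonal_fst _)).trans (Category.comp_id _))).symm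
    · exact (((Category.assoc _ _ _).trans (congrArg (y.left ≫ ·) (pullback.lift_snd _ _ _))).trans h'.symm).trans
        ((Category.assoc _ _ _).trans ((congrArg (_ ≫ ·) (pullback.diagonal_snd _)).trans (Category.comp_id _))).symm
  obtain ⟨V', a, y', hy', hE⟩ := exists_shrink f U₀ hf ξ hξ V (l ⁻¹ᵁ Δ.opensRange) y
    ⟨(y.left ≫ g.left) (default : Spec (CommRingCat.of Ω)), ((Scheme.Hom.comp_apply _ _ _).symm.trans
      ((congrArg (fun m : Spec (CommRingCat.of Ω) ⟶ pullback U.hom U.hom => m (default : Spec (CommRingCat.of Ω))) hl.symm).trans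
        (Scheme.Hom.comp_apply _ _ _)))⟩
  refine ⟨V', a, y', hy', MorphismProperty.Over.Hom.ext ?_⟩
  let t : ((EtCoh.bc f).obj V').left ⟶ U.left :=
    IsOpenImmersion.lift Δ (((EtCoh.bc f).map a).left ≫ l) (by
      rintro _ ⟨z, rfl⟩
      exact hE ⟨z, rfl⟩)
  have ht : t ≫ Δ = ((EtCoh.bc f).map a).left ≫ l := IsOpenImmersion.lift_fac _ _ _
  show ((EtCoh.bc f).map a).left ≫ g.left = ((EtCoh.bc f).map a).left ≫ g'.left
  have e1 : ((EtCoh.bc f).map a).left ≫ g.left = t :=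
    ((congrArg (_ ≫ ·) (pullback.lift_fst _ _ _)).symm.trans ((Category.assoc _ _ _).symm.trans
      ((congrArg (· ≫ pullback.fst U.hom U.hom) ht.symm).trans ((Category.assoc _ _ _).trans
        ((congrArg (t ≫ ·) (pullback.diagonal_fst _)).trans (Category.comp_id _))))))
  have e2 : ((EtCoh.bc f).map a).left ≫ g'.left = t :=
    ((congrArg (_ ≫ ·) (pullback.lift_snd _ _ _)).symm.trans ((Category.assoc _ _ _).symm.trans
      ((congrArg (· ≫ pullback.snd U.hom U.hom) ht.symm).trans ((Category.assoc _ _ _).trans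
        ((congrArg (t ≫ ·) (pullback.diagonal_snd _)).trans (Category.comp_id _))))))
  exact e1.trans e2.symm

include hf hξ in
theorem isIso_stalkPush (F : EtCoh.Ab X) : IsIso (stalkPush f ξ F) := by
  have := (ConcreteCategory.isIso_iff_bijective _).2 (bijective_comapPushDesc (Scheme.pointSmallEtale ξ)
    (EtCoh.bc f) (EtCoh.coverPreserving_bc f) AddCommGrpCat.{u + 1} (exists_nbhd_into f U₀ hf ξ hξ)
    (exists_agree f U₀ hf ξ hξ) F.obj)
  exact IsIso.comp_isIso' inferInstance this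

include hf hξ in
/-- The unit is bijective on stalks where the morphism is an isomorphism. -/
theorem isIso_stalk_unit (G : EtCoh.Ab Y) :
    IsIso ((EtCoh.stalk (ξ ≫ f)).map ((EtCoh.pullPushAdj f).unit.app G)) := by
  haveI := isIso_stalkPush f U₀ hf ξ hξ ((EtCoh.pull f).obj G)
  haveI : IsIso ((EtCoh.stalk ξ).map ((EtCoh.pullPushAdj f).counit.app ((EtCoh.pull f).obj G))) := by
    rw [stalk_counit]
    exact IsIso.comp_isIso' inferInstance this
  haveI : IsIso ((EtCoh.stalk ξ).map ((EtCoh.pull f).map ((EtCoh.pullPushAdj f).unit.app G))) := by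
    have h := congrArg (EtCoh.stalk ξ).map ((EtCoh.pullPushAdj f).left_triangle_components G)
    rw [Functor.map_comp, CategoryTheory.Functor.map_id] at h
    exact (IsIso.eq_inv_of_inv_hom_id h) ▸ inferInstance
  exact (NatIso.isIso_map_iff (stalkPullIso f ξ) _).1 this

end Groth.L27.IsoOver

end
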