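import Groth.Agent.L27.PBC.Transfer
import Groth.Agent.L16.ProjSpace.Dim
import Groth.Agent.L16.ProjSpace.BaseChange
import Groth.Agent.L18.PowProjLine
import Groth.Agent.L19.IntegralHom
import Groth.Agent.S7409

/-! # Proper morphisms satisfy the comparison over strictly henselian bases -/

set_option autoImplicit false
set_option linter.style.haveILetI false
set_option linter.unusedSectionVars false
set_option backward.isDefEq.respectTransparency.types false

universe u

open CategoryTheory CategoryTheory.Limits AlgebraicGeometry Opposite TopologicalSpace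

noncomputable section

namespace Groth.L27.PBC

variable {X'' X' X X₁' X₁ : Scheme.{u}}

theorem Univ.baseChange {p : X' ⟶ X} (hp : Univ p) {a₁ : X₁' ⟶ X'} {p₁ : X₁' ⟶ X₁} {b₁ : X₁ ⟶ X}
    (sq : IsPullback a₁ p₁ p b₁) : Univ p₁ := by
  intro B _ _ _ Y a g b h _
  exact hp B Y (a ≫ a₁) g (b ≫ b₁) (h.paste_horiz sq)

/-- Base changes of a composite factor. -/
theorem exists_factor {p : X' ⟶ X} (f : X ⟶ X'') {B : Type u} [CommRing B] {Y : Scheme.{u}} {a : Y ⟶ X'}
    {g : Y ⟶ Spec (CommRingCat.of B)} {b : Spec (CommRingCat.of B) ⟶ X''} (sq : IsPullback a g (p ≫ f) b) :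
    ∃ h : Y ⟶ pullback f b, h ≫ pullback.snd f b = g ∧ IsPullback a h p (pullback.fst f b) := by
  let h : Y ⟶ pullback f b := pullback.lift (a ≫ p) g (by rw [Category.assoc]; exact sq.w)
  exact ⟨h, pullback.lift_snd _ _ _, IsPullback.of_bot (by rw [pullback.lift_snd]; exact sq)
    (pullback.lift_fst _ _ _).symm (IsPullback.of_hasPullback f b)⟩

theorem Univ.comp {p : X' ⟶ X} {f : X ⟶ X''} [IsProper p] [IsProper f] (hp : Univ p) (hf : Univ f) :
    Univ (p ≫ f) := by
  intro B _ _ _ Y a g b sq
  obtain ⟨h, rfl, sqh⟩ := exists_factor f sq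
  haveI : IsProper h := MorphismProperty.of_isPullback (P := @IsProper) sqh ‹IsProper p›
  haveI : IsProper (pullback.snd f b) := MorphismProperty.pullback_snd (P := @IsProper) _ _ ‹IsProper f›
  intro _
  exact isComp_comp h (pullback.snd f b) (hf B _ _ _ b (IsPullback.of_hasPullback f b)) (hp.baseChange sqh)

theorem Univ.of_surjective {p : X' ⟶ X} {f : X ⟶ X''} [IsProper p] [IsProper f] [Surjective p] (hp : Univ p)
    (hpf : Univ (p ≫ f)) : Univ f := by
  intro B _ _ _ Y a g b sq
  let sqh := IsPullback.of_hasPullback p a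
  haveI : IsProper g := MorphismProperty.of_isPullback (P := @IsProper) sq ‹IsProper f›
  haveI : IsProper (pullback.snd p a) := MorphismProperty.pullback_snd (P := @IsProper) _ _ ‹IsProper p›
  haveI : Surjective (pullback.snd p a) := MorphismProperty.pullback_snd (P := @Surjective) _ _ ‹Surjective p›
  intro _
  exact isComp_of_surjective (pullback.snd p a) g
    (hpf B _ _ _ b (sqh.paste_vert sq)) (hp.baseChange sqh)

theorem univ_of_dim {p : X' ⟶ X} [IsProper p]
    (h : ∀ (K : Type u) [Field K] (b : Spec (CommRingCat.of K) ⟶ X), topologicalKrullDim ↥(pullback p b) ≤ 1) :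
    Univ p := by
  intro B _ _ _ Y a g b sq
  haveI : IsProper g := MorphismProperty.of_isPullback (P := @IsProper) sq ‹IsProper p›
  intro _
  refine isComp_curve g ?_
  have sq' := (IsPullback.of_hasPullback g (clA B)).paste_horiz sq
  exact (IsHomeomorph.topologicalKrullDim_eq _ sq'.isoPullback.hom.homeomorph.isHomeomorph).trans_le (h _ _)

theorem univ_of_finite (p : X' ⟶ X) [IsFinite p] : Univ p :=
  univ_of_dim fun K _ b => by
    haveI : IsFinite (pullback.snd p b) := MorphismProperty.pullback_snd (P := @IsFinite) _ _ ‹IsFinite p›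
    refine (L19.topologicalKrullDim_le_of_isIntegralHom (pullback.snd p b)).trans ?_
    show topologicalKrullDim (PrimeSpectrum K) ≤ 1
    rw [PrimeSpectrum.topologicalKrullDim_eq_ringKrullDim, ringKrullDim_eq_zero_of_field]
    exact zero_le_one

theorem univ_of_isIso (p : X' ⟶ X) [IsIso p] : Univ p := univ_of_finite p

open CohB1 in
theorem univ_projLine (S : Scheme.{u}) : Univ (ProjSpaceOver.toBase 1 S) :=
  univ_of_dim fun K _ b => by
    have e := (L16.ProjSpace.isPullback_overMap 1 b).isoPullback
    refine (IsHomeomorph.topologicalKrullDim_eq _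
      ((L16.ProjSpace.isoOver 1 K ≪≫ e).hom.homeomorph.isHomeomorph)).ge.trans ?_
    rw [L16.ProjSpace.topologicalKrullDim_eq_of_field]
    exact le_of_eq Nat.cast_one

open CohB1 in
theorem univ_projSpace (S : Scheme.{u}) : ∀ n : ℕ, Univ (ProjSpaceOver.toBase n S)
  | 0 => by
    haveI := L18.PS.isIso_toSpec_zero (ULift.{u} ℤ)
    haveI : IsIso (ProjSpaceOver.toBase 0 S) :=
      inferInstanceAs (IsIso (pullback.snd (ProjSpace.toSpec 0 (ULift.{u} ℤ)) (specULiftZIsTerminal.from S)))
    exact univ_of_isIso _
  | n + 1 => by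
    obtain ⟨φ, hφf, hφs, hφ⟩ := L18.PS.exists_step S n
    haveI := hφf
    haveI := hφs
    refine Univ.of_surjective (univ_of_finite φ) ?_
    rw [hφ]
    exact Univ.comp ((univ_projLine S).baseChange (IsPullback.of_hasPullback _ _).flip) (univ_projSpace S n)

open CohB1 in
/-- Every proper morphism to an affine scheme satisfies the comparison universally. -/
theorem univ_affine {R : Type u} [CommRing R] (f : X ⟶ Spec (CommRingCat.of R)) [IsProper f] : Univ f := by
  obtain ⟨n, Y, π, j, hj, hjf, hπ, hπs⟩ := Groth.Agent.S7409.result f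
  haveI := hπ
  haveI := hπs
  haveI := hj
  haveI : IsProper (j ≫ ProjSpaceOver.toBase n _) := hjf ▸ inferInstance
  haveI : IsProper j := IsProper.of_comp j (ProjSpaceOver.toBase n _)
  haveI : IsClosedImmersion j := IsClosedImmersion.of_isPreimmersion j j.isClosedMap.isClosed_range
  let k : Y ⟶ pullback f (ProjSpaceOver.toBase n _) := pullback.lift π j hjf.symm
  haveI : IsClosedImmersion k := by
    haveI : IsClosedImmersion (k ≫ pullback.snd _ _) := by rw [pullback.lift_snd]; infer_instance
    exact IsClosedImmersion.of_comp k (pullback.snd _ _)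
  have hπu : Univ π := by
    rw [← pullback.lift_fst π j hjf.symm]
    exact Univ.comp (univ_of_finite k) ((univ_projSpace _ n).baseChange (IsPullback.of_hasPullback _ _).flip)
  refine Univ.of_surjective hπu ?_
  rw [← hjf]
  exact Univ.comp (univ_of_finite j) (univ_projSpace _ n)

/-- Cohomology of a proper scheme over a strictly henselian local ring is that of the closed fibre. -/
theorem isComp {A : Type u} [CommRing A] [HenselianLocalRing A] [IsSepClosed (IsLocalRing.ResidueField A)]
    (f : X ⟶ Spec (CommRingCat.of A)) [IsProper f] : IsComp f :=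
  fun {_} => univ_affine f A X (𝟙 X) f (𝟙 _) (IsPullback.of_horiz_isIso ⟨by rw [Category.id_comp, Category.comp_id]⟩)

/-- Every proper morphism satisfies the comparison universally. -/
theorem univ (p : X' ⟶ X) [IsProper p] : Univ p := by
  intro B _ _ _ Y a g b sq
  haveI : IsProper g := MorphismProperty.of_isPullback (P := @IsProper) sq ‹IsProper p›
  intro _
  exact isComp g

end Groth.L27.PBC
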