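import Groth.Agent.L27.PBC.ShriekAcyclic
import Groth.Agent.L27.PBC.AcycTranspose
import Groth.Agent.L27.PBC.TorRes
import Groth.Agent.L27.CompTransfer.Torsion
import Groth.Agent.L27.ExtZero.ShriekExact

/-! # Higher direct images commute with direct images with proper support -/

set_option autoImplicit false
set_option linter.style.haveILetI false
set_option linter.unusedSectionVars false
set_option backward.isDefEq.respectTransparency false
set_option backward.defeqAttrib.useBackward true
set_option backward.isDefEq.respectTransparency.types false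

universe u

open CategoryTheory CategoryTheory.Limits AlgebraicGeometry Opposite HomologicalComplex

noncomputable section

namespace Groth.L27.PBC

/-- Acyclic resolutions compute right derived functors. -/
theorem nonempty_homology_iso_rightDerived {A B : Type*} [Category A] [Abelian A] [HasInjectiveResolutions A]
    [EnoughInjectives A] [Category B] [Abelian B] (Φ : A ⥤ B) [Φ.Additive] [PreservesFiniteLimits Φ] (X : A)
    (T : CochainComplex A ℕ) (ιT : (CochainComplex.single₀ A).obj X ⟶ T) [QuasiIso ιT]
    (h : ∀ n, L17.GrothSS.RAcyclic Φ (T.X n)) (q : ℕ) :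
    Nonempty (((Φ.mapHomologicalComplex _).obj T).homology q ≅ (Φ.rightDerived q).obj X) := by
  let I := injectiveResolution X
  let c : T ⟶ I.cocomplex := RDer.descToInjectives (𝟙 X) T ιT I.cocomplex I.ι
  have hc : ιT.f 0 ≫ c.f 0 = I.ι.f 0 := (RDer.ι_descToInjectives_f_zero _ _ _ _ _).trans (Category.id_comp _)
  haveI : QuasiIso c := by
    have e : ιT ≫ c = I.ι := (CochainComplex.fromSingle₀Equiv _ _).injective (Subtype.ext hc)
    haveI : QuasiIso (ιT ≫ c) := by rw [e]; infer_instance
    exact quasiIso_of_comp_left ιT c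
  haveI := isIso_homology_map Φ c h (fun n => haveI := I.injective n; rAcyclic_of_injective Φ _) q
  exact ⟨asIso ((homologyFunctor B _ q).map ((Φ.mapHomologicalComplex _).map c)) ≪≫
    (I.isoRightDerivedObj Φ q).symm⟩

/-- Right derived functors through a commutative square with exact horizontal functors. -/
theorem nonempty_rightDerived_square {C' C D' D : Type*} [Category C'] [Abelian C'] [HasInjectiveResolutions C']
    [EnoughInjectives C'] [Category C] [Abelian C] [HasInjectiveResolutions C] [EnoughInjectives C]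
    [Category D'] [Abelian D'] [Category D] [Abelian D]
    (P' : C' ⥤ D') [P'.Additive] [PreservesFiniteLimits P'] (P : C ⥤ D) [P.Additive] [PreservesFiniteLimits P]
    (A : C' ⥤ C) [A.Additive] [PreservesFiniteLimits A] [PreservesFiniteColimits A]
    (G : D' ⥤ D) [G.Additive] [PreservesFiniteLimits G] [PreservesFiniteColimits G]
    (e : A ⋙ P ≅ P' ⋙ G) (X : C') (T : CochainComplex C' ℕ) (ιT : (CochainComplex.single₀ C').obj X ⟶ T)
    [QuasiIso ιT] (h' : ∀ n, L17.GrothSS.RAcyclic P' (T.X n)) (h : ∀ n, L17.GrothSS.RAcyclic P (A.obj (T.X n)))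
    (q : ℕ) : Nonempty (G.obj ((P'.rightDerived q).obj X) ≅ (P.rightDerived q).obj (A.obj X)) := by
  haveI : A.PreservesHomology := inferInstance
  haveI : G.PreservesHomology := inferInstance
  let aug := RDer.mapAug A ιT
  haveI : QuasiIso aug := by
    haveI := HomologicalComplex.quasiIso_map_of_preservesHomology ιT A
    dsimp only [aug, RDer.mapAug]
    infer_instance
  obtain ⟨a⟩ := nonempty_homology_iso_rightDerived P' X T ιT h' q
  obtain ⟨b⟩ := nonempty_homology_iso_rightDerived P (A.obj X) ((A.mapHomologicalComplex _).obj T) aug h q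
  let K := (P'.mapHomologicalComplex (ComplexShape.up ℕ)).obj T
  let θ : (P.mapHomologicalComplex _).obj ((A.mapHomologicalComplex _).obj T) ≅
      (G.mapHomologicalComplex _).obj K :=
    HomologicalComplex.Hom.isoOfComponents (fun n => e.app (T.X n))
      (fun i j _ => (e.hom.naturality (T.d i j)).symm)
  exact ⟨G.mapIso a.symm ≪≫ ((K.sc q).mapHomologyIso G).symm ≪≫
    ((homologyFunctor D _ q).mapIso θ).symm ≪≫ b⟩

theorem nonempty_lowerShriek_Rpush {X Y X' Y' : Scheme.{u}} (f : X ⟶ Y) (g : Y' ⟶ Y) (f' : X' ⟶ Y')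
    (g' : X' ⟶ X) (w : g' ≫ f = f' ≫ g) [IsProper f] [IsProper f'] [IsSeparated g] [LocallyOfFiniteType g]
    [LocallyQuasiFinite g] [IsSeparated g'] [LocallyOfFiniteType g'] [LocallyQuasiFinite g']
    (F : EtCoh.Ab X') (hF : EtCoh.IsTorsion F) (q : ℕ) :
    Nonempty ((EtShriek.lowerShriek g).obj ((EtCoh.Rpush f' q).obj F) ≅
      (EtCoh.Rpush f q).obj ((EtShriek.lowerShriek g').obj F)) := by
  haveI : PreservesFiniteLimits (EtCoh.push f) := by
    haveI : PreservesLimitsOfSize.{0, 0} (EtCoh.push f) := (EtCoh.pullPushAdj f).rightAdjoint_preservesLimits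
    exact PreservesLimitsOfSize.preservesFiniteLimits _
  haveI : PreservesFiniteLimits (EtCoh.push f') := by
    haveI : PreservesLimitsOfSize.{0, 0} (EtCoh.push f') := (EtCoh.pullPushAdj f').rightAdjoint_preservesLimits
    exact PreservesLimitsOfSize.preservesFiniteLimits _
  haveI := Groth.L27.Lqf.isLeftAdjoint_lowerShriek g
  haveI := Groth.L27.Lqf.isLeftAdjoint_lowerShriek g'
  haveI := Groth.L27.Supp.preservesFiniteLimits_lowerShriek g
  haveI := Groth.L27.Supp.preservesFiniteLimits_lowerShriek g'
  haveI : (EtShriek.lowerShriek g).Additive := Functor.additive_of_preserves_binary_products _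
  haveI : (EtShriek.lowerShriek g').Additive := Functor.additive_of_preserves_binary_products _
  let e : EtShriek.lowerShriek g' ⋙ EtCoh.push f ≅ EtCoh.push f' ⋙ EtShriek.lowerShriek g :=
    Functor.isoWhiskerLeft _ (Groth.L27.Supp.shriekPushIso f).symm ≪≫ (Groth.L27.Supp.compIso g' f).symm ≪≫
      Groth.L27.Supp.shriekCongr w ≪≫ Groth.L27.Supp.compIso f' g ≪≫
      Functor.isoWhiskerRight (Groth.L27.Supp.shriekPushIso f') _
  let I := injectiveResolution F
  haveI := quasiIso_torAug hF I
  have hT : ∀ n, EtCoh.IsTorsion ((torCx I).X n) := fun n =>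
    AffineEfface.isTorsion_of_isLTorsion (CompTransfer.isLTorsion_tor Set.univ _)
  have hac : ∀ n, L17.GrothSS.RAcyclic (EtCoh.push f') ((torCx I).X n) := fun n r hr => by
    haveI := I.injective n
    exact CompTransfer.isZero_Rpush_of_acyc f' _ (CompTransfer.acyc_tor Set.univ (I.cocomplex.X n)) r hr
  exact nonempty_rightDerived_square (EtCoh.push f') (EtCoh.push f) (EtShriek.lowerShriek g')
    (EtShriek.lowerShriek g) e F (torCx I) (torAug hF I) hac
    (fun n r hr => isZero_Rpush_shriek_acyclic f g f' g' w _ (hT n) r (hac n r hr)) q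

end Groth.L27.PBC
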