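import Groth.Agent.L27.PBC.ModUnbdd
import Groth.Agent.L27.RShriek.Coprod
import Groth.Agent.L17.IndRpush.BrownTransfer
import Groth.Agent.L29.DCoh.Gen.RpushTri

/-! # Proper direct images of modules preserve direct sums and are left adjoints -/

universe v u

open CategoryTheory CategoryTheory.Limits AlgebraicGeometry Opposite CategoryTheory.Abelian CochainComplex
open Groth.L10.EtCoprod (Acy)

attribute [local instance] HasDerivedCategory.standard

set_option autoImplicit false
set_option backward.defeqAttrib.useBackward true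
set_option backward.isDefEq.respectTransparency false
set_option backward.isDefEq.respectTransparency.types false
set_option linter.style.haveILetI false
set_option linter.unusedSectionVars false
set_option maxHeartbeats 800000
set_option synthInstance.maxHeartbeats 100000

noncomputable section

namespace Groth.L27.PBC.ModU

variable {X S : Scheme.{u}} {Λ : Type (u + 1)} [CommRing Λ] (f : X ⟶ S)

/-- Underlying sheaves of injective modules have no higher cohomology. -/
theorem acy_forget (I : EtModW.Mod Λ X) [Injective I] : Acy X ((EtModD.forgetToAb Λ X).obj I) := fun W _ n =>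
  L10.ModCmp.subsingleton_H_of_acyc (L10.ModCmp.goodA X) (Colim.rep W) n _ (L10.ModCmp.acycA_forget I)

/-- Sheaves without higher cohomology are acyclic for direct images. -/
theorem rAcyclic_of_acy [QuasiCompact f] [QuasiSeparated f] {F : EtCoh.Ab X} (hF : Acy X F) :
    L17.GrothSS.RAcyclic (EtCoh.push f) F := fun q hq => by
  let R := injectiveResolution F
  let L := (HomologicalComplex.single (EtCoh.Ab X) (ComplexShape.up ℤ) 0).obj F
  haveI : CochainComplex.IsStrictlyGE L 0 := (CochainComplex.isStrictlyGE_iff _ _).2 fun i hi =>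
    HomologicalComplex.isZero_single_obj_X _ 0 F i (ne_of_lt hi)
  have hL : ∀ i, Acy X (L.X i) := fun i => by
    by_cases hi : i = 0
    · subst hi
      exact (Acy X).prop_of_iso (HomologicalComplex.singleObjXSelf (ComplexShape.up ℤ) 0 F).symm hF
    · refine fun W _ n => subsingleton_of_forall_eq 0 fun x => ?_
      rw [← Ext.comp_mk₀_id x, (HomologicalComplex.isZero_single_obj_X (ComplexShape.up ℤ) 0 F i hi).eq_of_src (𝟙 _) 0,
        Ext.mk₀_zero, Ext.comp_zero]
  have hq' : QuasiIso (((EtCoh.push f).mapHomologicalComplex (ComplexShape.up ℤ)).map R.ι') :=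
    RShriek.quasiIso_push_bddBelow f R.ι' 0 hL fun i => L10.EtCoprod.acy_injective _
  refine IsZero.of_iso ?_ (L17.GrothSS.homologyMapCochainIso (EtCoh.push f) R q).symm
  haveI : IsIso (HomologicalComplex.homologyMap
      (((EtCoh.push f).mapHomologicalComplex (ComplexShape.up ℤ)).map R.ι') (q : ℤ)) :=
    (quasiIsoAt_iff_isIso_homologyMap _ (q : ℤ)).1 (hq'.quasiIsoAt (q : ℤ))
  refine IsZero.of_iso ?_ (asIso (HomologicalComplex.homologyMap
    (((EtCoh.push f).mapHomologicalComplex (ComplexShape.up ℤ)).map R.ι') (q : ℤ))).symm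
  exact (HomologicalComplex.ExactAt.isZero_homology (HomologicalComplex.exactAt_single_obj (ComplexShape.up ℤ) 0
    ((EtCoh.push f).obj F) (q : ℤ) (by omega))).of_iso (HomologicalComplex.homologyMapIso
      ((HomologicalComplex.singleMapHomologicalComplex (EtCoh.push f) (ComplexShape.up ℤ) 0).app F) _)

instance preservesCoproducts_forget (ι : Type (u + 1)) :
    PreservesColimitsOfShape (Discrete ι) (EtModD.forgetToAb Λ X) :=
  haveI := (ModPull.forgetAdj Λ X).isLeftAdjoint
  inferInstance

/-- Direct sums of injective modules are acyclic. -/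
theorem acyc_coproduct [QuasiCompact f] [QuasiSeparated f] {ι : Type (u + 1)} (c : ι → EtModW.Mod Λ X)
    [∀ i, Injective (c i)] : Acyc Λ f (∐ c) :=
  rAcyclic_of_acy f ((Acy X).prop_of_iso (PreservesCoproduct.iso (EtModD.forgetToAb Λ X) c).symm
    (L10.EtCoprod.acy_coproduct _ fun i => acy_forget (c i)))

theorem preservesCoproducts_pushMod [QuasiCompact f] [QuasiSeparated f] (ι : Type (u + 1)) :
    PreservesColimitsOfShape (Discrete ι) (EtModW.push Λ f) := by
  haveI := L10.EtCoprod.preservesCoproducts_push f ι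
  haveI : PreservesColimitsOfShape (Discrete ι) (EtModW.push Λ f ⋙ EtModD.forgetToAb Λ S) :=
    inferInstanceAs (PreservesColimitsOfShape (Discrete ι) (EtModD.forgetToAb Λ X ⋙ EtCoh.push f))
  haveI : ReflectsColimitsOfShape (Discrete ι) (EtModD.forgetToAb Λ S) :=
    reflectsColimitsOfShape_of_reflectsIsomorphisms
  exact preservesColimitsOfShape_of_reflects_of_preserves (EtModW.push Λ f) (EtModD.forgetToAb Λ S)

/-- Unbounded derived proper direct images of modules over torsion rings preserve direct sums. -/
theorem preservesCoproducts_RpushModD [IsProper f] [EtBC.HasRpushMod Λ f] {n : ℕ} (hn : 0 < n) (hΛ : (n : Λ) = 0)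
    (ι : Type (u + 1)) : PreservesColimitsOfShape (Discrete ι) (EtBC.RpushModD Λ f) := by
  haveI := preservesCoproducts_pushMod (Λ := Λ) f ι
  refine ⟨fun {K} => ?_⟩
  suffices h : PreservesColimit (Discrete.functor fun i => K.obj ⟨i⟩) (EtBC.RpushModD Λ f) by
    haveI : PreservesColimit (Discrete.functor (K.obj ∘ Discrete.mk)) (EtBC.RpushModD Λ f) := h
    exact preservesColimit_of_iso_diagram _ (Discrete.natIsoFunctor (F := K)).symm
  choose I s hI hs hinj using fun i => L10.KInjTransfer.exists_resolution.{u + 1}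
    (DerivedCategory.Qh.objPreimage (K.obj ⟨i⟩)).as
  let e : ∀ i, RShriek.Qo (I i) ≅ K.obj ⟨i⟩ := fun i =>
    haveI : IsIso (DerivedCategory.Qh.map ((HomotopyCategory.quotient _ _).map (s i))) :=
      Localization.inverts DerivedCategory.Qh (HomotopyCategory.quasiIso _ (ComplexShape.up ℤ)) _
        ((HomotopyCategory.quotient_map_mem_quasiIso_iff (s i)).2 ((HomologicalComplex.mem_quasiIso_iff _).2 (hs i)))
    (asIso (DerivedCategory.Qh.map ((HomotopyCategory.quotient _ _).map (s i)))).symm ≪≫
      DerivedCategory.Qh.objObjPreimageIso (K.obj ⟨i⟩)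
  haveI : ∀ i, IsIso ((U (Λ := Λ) f).app ((HomotopyCategory.quotient _ _).obj (I i))) := fun i =>
    haveI := hI i; L10.KInjDerived.isIso_app_quotient _ (I i)
  haveI : IsIso ((U (Λ := Λ) f).app ((HomotopyCategory.quotient _ _).obj (∐ I))) := by
    refine isIso_unit f hn hΛ (∐ I) fun m => ?_
    haveI : ∀ i, Injective ((I i).X m) := fun i => hinj i m
    exact fun q hq => (acyc_coproduct f (fun i => (I i).X m) q hq).of_iso ((EtCoh.Rpush f q).mapIso
      ((EtModD.forgetToAb Λ X).mapIso (PreservesCoproduct.iso (HomologicalComplex.eval _ (ComplexShape.up ℤ) m) I)))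
  exact RShriek.preservesColimit_of_unit (EtModW.push Λ f) (EtBC.RpushModD Λ f) (U (Λ := Λ) f)
    (fun i => K.obj ⟨i⟩) I e

/-- Unbounded derived proper direct images of modules over torsion rings are left adjoints. -/
theorem isLeftAdjoint_RpushModD [IsProper f] [EtBC.HasRpushMod Λ f] {n : ℕ} (hn : 0 < n) (hΛ : (n : Λ) = 0) :
    (EtBC.RpushModD Λ f).IsLeftAdjoint := by
  haveI : ∀ κ : Type (u + 1), PreservesColimitsOfShape (Discrete κ) (EtBC.RpushModD Λ f) :=
    preservesCoproducts_RpushModD f hn hΛ
  letI := L29.DC.RDTri.commShift (U (Λ := Λ) f)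
  haveI := L29.DC.RDTri.isTriangulated (U (Λ := Λ) f)
  haveI := L17.IndRpush.BrownTransfer.locallySmall (A := EtModW.Mod Λ S)
  exact L17.IndRpush.BrownTransfer.isLeftAdjoint (EtBC.RpushModD Λ f)

end Groth.L27.PBC.ModU
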