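import Groth.Agent.L27.PBC.ProperCd
import Groth.Agent.L27.PBC.ShriekRpush
import Groth.Agent.L27.PBC.ModBcMap
import Groth.Agent.L10.CdDim.Acyclic
import Groth.Agent.L06.FibreDimLocConst

/-! # Proper direct images of modules over torsion rings have pointwise finite dimension -/

set_option autoImplicit false
set_option backward.defeqAttrib.useBackward true
set_option backward.isDefEq.respectTransparency false
set_option backward.isDefEq.respectTransparency.types false
set_option linter.style.haveILetI false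
set_option linter.unusedSectionVars false

universe u

open CategoryTheory CategoryTheory.Limits AlgebraicGeometry Opposite

noncomputable section

namespace Groth.L27.PBC.ModU

variable {X S : Scheme.{u}} {Λ : Type (u + 1)} [CommRing Λ]

/-- Modules over a ring of positive characteristic are torsion. -/
theorem isTorsion_forget {n : ℕ} (hn : 0 < n) (hΛ : (n : Λ) = 0) (M : EtModW.Mod Λ X) :
    EtCoh.IsTorsion ((EtModD.forgetToAb Λ X).obj M) := fun U s x => by
  refine ⟨U, 𝟙 U, ⟨x, rfl⟩, isOfFinAddOrder_iff_nsmul_eq_zero.2 ⟨n, hn, ?_⟩⟩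
  generalize (((EtModD.forgetToAb Λ X).obj M).obj.map (𝟙 U).op) s = y
  change ↥(M.obj.obj (op U)) at y
  show n • y = 0
  rw [← Nat.cast_smul_eq_nsmul Λ n y, hΛ]
  exact zero_smul _ y

variable (Λ) in
/-- Modules whose underlying abelian sheaves are acyclic for the direct image. -/
def Acyc (f : X ⟶ S) : ObjectProperty (EtModW.Mod Λ X) := fun M =>
  L17.GrothSS.RAcyclic (EtCoh.push f) ((EtModD.forgetToAb Λ X).obj M)

theorem acyc_injective (f : X ⟶ S) [QuasiCompact f] [QuasiSeparated f] (I : EtModW.Mod Λ X) [Injective I] :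
    Acyc Λ f I := fun q hq =>
  CompTransfer.isZero_Rpush_of_acyc f _ (fun K L p _ _ hp => L10.ModCmp.acycA_forget I K L p trivial trivial hp) q hq

section Stalk

variable (f : X ⟶ S) (Ω : Type u) [Field Ω] [IsSepClosed Ω] (ξ : Spec (CommRingCat.of Ω) ⟶ S)

/-- Stalks of direct images, on modules. -/
abbrev Φ : EtModW.Mod Λ X ⥤ AddCommGrpCat.{u + 1} :=
  EtModD.forgetToAb Λ X ⋙ EtCoh.push f ⋙ EtCoh.stalk ξ

instance additive_stalk : (EtCoh.stalk ξ).Additive := Functor.additive_of_preserves_binary_products _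

instance : (Φ (Λ := Λ) f Ω ξ).Additive := inferInstance

instance preservesFiniteLimits_push : PreservesFiniteLimits (EtCoh.push f) :=
  haveI : PreservesLimitsOfSize.{0, 0} (EtCoh.push f) := (EtCoh.pullPushAdj f).rightAdjoint_preservesLimits
  PreservesLimitsOfSize.preservesFiniteLimits _

instance : PreservesFiniteLimits (Φ (Λ := Λ) f Ω ξ) :=
  haveI : PreservesFiniteLimits (EtCoh.stalk ξ) := inferInstance
  comp_preservesFiniteLimits _ _

variable [QuasiCompact f] [QuasiSeparated f]

/-- Derived stalks of direct images of modules are those of abelian sheaves. -/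
theorem nonempty_rightDerived_Φ (M : EtModW.Mod Λ X) (q : ℕ) :
    Nonempty (((Φ f Ω ξ).rightDerived q).obj M ≅
      (EtCoh.stalk ξ).obj ((EtCoh.Rpush f q).obj ((EtModD.forgetToAb Λ X).obj M))) := by
  let I := injectiveResolution M
  let U := EtModD.forgetToAb Λ X
  haveI : U.PreservesHomology := inferInstance
  let aug := RDer.mapAug U I.ι
  haveI : QuasiIso aug := by
    haveI := HomologicalComplex.quasiIso_map_of_preservesHomology I.ι U
    dsimp only [aug, RDer.mapAug]
    infer_instance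
  obtain ⟨a⟩ := nonempty_homology_iso_rightDerived (EtCoh.push f) (U.obj M)
    ((U.mapHomologicalComplex _).obj I.cocomplex) aug
    (fun n => haveI := I.injective n; acyc_injective f (I.cocomplex.X n)) q
  exact ⟨I.isoRightDerivedObj (Φ f Ω ξ) q ≪≫
    ((((EtCoh.push f).mapHomologicalComplex _).obj ((U.mapHomologicalComplex _).obj I.cocomplex)).sc q).mapHomologyIso
      (EtCoh.stalk ξ) ≪≫ (EtCoh.stalk ξ).mapIso a⟩

theorem facyc_Φ {M : EtModW.Mod Λ X} (hM : Acyc Λ f M) : L10.CdDim.Facyc (Φ f Ω ξ) M := fun q hq => by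
  obtain ⟨e⟩ := nonempty_rightDerived_Φ f Ω ξ M q
  exact ((EtCoh.stalk ξ).map_isZero (hM q hq)).of_iso e

/-- Stalkwise, the dimension is finite. -/
theorem exists_bound_Φ [IsProper f] {n : ℕ} (hn : 0 < n) (hΛ : (n : Λ) = 0) :
    ∃ N : ℕ, ∀ (i : ℕ) (M : EtModW.Mod Λ X), N < i → IsZero (((Φ f Ω ξ).rightDerived i).obj M) := by
  obtain ⟨d, hd⟩ := L06.FibreDimLocConst.exists_bound f (ξ (IsLocalRing.closedPoint Ω))
  refine ⟨2 * d, fun i M hi => ?_⟩
  obtain ⟨e⟩ := nonempty_rightDerived_Φ f Ω ξ M i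
  obtain ⟨e'⟩ := nonempty_stalk_iso Ω f ξ _ (isTorsion_forget hn hΛ M) i
  haveI : IsProper (pullback.snd f ξ) := MorphismProperty.pullback_snd (P := @IsProper) _ _ inferInstance
  haveI := subsingleton_H_proper (pullback.snd f ξ) d (topologicalKrullDim_pullback_le_at f d ξ hd)
    ((EtCoh.pull (pullback.fst f ξ)).obj ((EtModD.forgetToAb Λ X).obj M))
    (L28.CurveCd.isTorsion_pull _ (isTorsion_forget hn hΛ M)) i hi
  exact (AddCommGrpCat.isZero_of_subsingleton _).of_iso (e ≪≫ e')

end Stalk

variable (f : X ⟶ S) [IsProper f] {n : ℕ} (hn : 0 < n) (hΛ : (n : Λ) = 0)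

include hn hΛ in
/-- Direct images preserve quasi-isomorphisms of unbounded complexes of acyclic modules. -/
theorem quasiIso_push {K L : CochainComplex (EtModW.Mod Λ X) ℤ} (φ : K ⟶ L) [QuasiIso φ]
    (hK : ∀ i, Acyc Λ f (K.X i)) (hL : ∀ i, Acyc Λ f (L.X i)) :
    QuasiIso (((EtModW.push Λ f).mapHomologicalComplex (ComplexShape.up ℤ)).map φ) := by
  let P := ((EtCoh.push f).mapHomologicalComplex (ComplexShape.up ℤ)).map
    (((EtModD.forgetToAb Λ X).mapHomologicalComplex (ComplexShape.up ℤ)).map φ)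
  suffices QuasiIso P by
    have key : QuasiIso (((EtModD.forgetToAb Λ S).mapHomologicalComplex _).map
      (((EtModW.push Λ f).mapHomologicalComplex (ComplexShape.up ℤ)).map φ)) := this
    exact (HomologicalComplex.quasiIso_map_iff_of_preservesHomology _ _).1 key
  refine ⟨fun i => (quasiIsoAt_iff_isIso_homologyMap P i).2 ?_⟩
  have hst : ∀ (Ω : Type u) [Field Ω] [IsSepClosed Ω] (ξ : Spec (CommRingCat.of Ω) ⟶ S),
      IsIso ((EtCoh.stalk ξ).map (HomologicalComplex.homologyMap P i)) := fun Ω _ _ ξ => ?_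
  · haveI : Mono (HomologicalComplex.homologyMap P i) :=
      (EtSite.mono_iff_stalks _).2 fun Ω _ _ ξ => haveI := hst Ω ξ; (ConcreteCategory.bijective_of_isIso _).1
    haveI : Epi (HomologicalComplex.homologyMap P i) :=
      (EtSite.epi_iff_stalks _).2 fun Ω _ _ ξ => haveI := hst Ω ξ; (ConcreteCategory.bijective_of_isIso _).2
    exact isIso_of_mono_of_epi _
  obtain ⟨N, hN⟩ := exists_bound_Φ f Ω ξ hn hΛ
  have hq := L10.CdDim.quasiIso_map (Φ f Ω ξ) hN φ (fun i => facyc_Φ f Ω ξ (hK i)) (fun i => facyc_Φ f Ω ξ (hL i))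
  haveI : (EtCoh.stalk ξ).PreservesHomology := inferInstance
  have h : QuasiIso (((EtCoh.stalk ξ).mapHomologicalComplex (ComplexShape.up ℤ)).map P) := hq
  haveI : IsIso (HomologicalComplex.homologyMap (((EtCoh.stalk ξ).mapHomologicalComplex _).map P) i) :=
    (quasiIsoAt_iff_isIso_homologyMap _ i).1 (h.quasiIsoAt i)
  exact (NatIso.isIso_map_iff (ShortComplex.homologyFunctorIso (EtCoh.stalk ξ))
    ((HomologicalComplex.shortComplexFunctor (EtCoh.Ab S) (ComplexShape.up ℤ) i).map P)).1 this

end Groth.L27.PBC.ModU
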