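import Groth.Agent.L27.PBC.ProperCd
import Groth.Agent.L27.ExtZero.ToShriek

/-! # The top degree direct image with proper support -/

set_option autoImplicit false
set_option linter.style.haveILetI false
set_option linter.unusedSectionVars false
set_option backward.isDefEq.respectTransparency.types false

universe w v u v' u'

open CategoryTheory CategoryTheory.Limits CategoryTheory.Pretriangulated AlgebraicGeometry Opposite

noncomputable section

namespace Groth.L27.PBC

section LES

open Groth.L17.GrothSS Groth.L00.RDerLES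

set_option backward.isDefEq.respectTransparency false

variable {C : Type u} [Category.{v} C] [Abelian C] [HasDerivedCategory.{w} C] [EnoughInjectives C]
  [HasInjectiveResolutions C] {D : Type u'} [Category.{v'} D] [Abelian D] (S : C ⥤ D) [S.Additive]
  {T : ShortComplex C} (hT : T.ShortExact)

include hT in
/-- `R^{n+1} X₁ ⟶ R^{n+1} X₂` is a monomorphism when `R^n X₃ = 0`. -/
theorem mono_map_f (n : ℕ) (h : IsZero ((S.rightDerived n).obj T.X₃)) :
    Mono ((S.rightDerived (n + 1)).map T.f) := by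
  obtain ⟨δ, hd⟩ := exists_plusTriangle hT
  have hm := ((HomotopyCategory.homologyFunctor D (.up ℤ) 0).homologySequence_exact₁ _
    ((RK S).map_distinguished _ hd) (n : ℤ) ((n + 1 : ℕ) : ℤ) (by omega)).mono_g
    ((h.of_iso (hhSingleZeroIso S T.X₃ n)).eq_of_src _ _)
  have h' : (hhSingleZeroIso S T.X₁ (n + 1)).inv ≫ (HH S ((n + 1 : ℕ) : ℤ)).map
      ((DerivedCategory.Plus.singleFunctor C 0).map T.f) ≫ (hhSingleZeroIso S T.X₂ (n + 1)).hom =
        (S.rightDerived (n + 1)).map T.f := by
    rw [hhSingleZeroIso_naturality, Iso.inv_hom_id_assoc]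
  rw [← h']
  have : Mono ((HH S ((n + 1 : ℕ) : ℤ)).map ((DerivedCategory.Plus.singleFunctor C 0).map T.f)) := hm
  infer_instance

end LES

theorem le_of_lt_succ' {x : WithBot ℕ∞} {d : ℕ} (h : x < ((d + 1 : ℕ) : WithBot ℕ∞)) : x ≤ d := by
  induction x with
  | bot => exact bot_le
  | coe a =>
    have h' : a < ((d + 1 : ℕ) : ℕ∞) := WithBot.coe_lt_coe.1 h
    induction a with
    | top => exact absurd h' not_top_lt
    | coe m => exact_mod_cast Nat.lt_succ_iff.1 (ENat.natCast_lt_natCast.1 h')

/-- Removing a closed subscheme with fibres of smaller dimension does not change the top degree. -/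
theorem isIso_topShriek {X S U Z P : Scheme.{u}} [CompactSpace ↥X] [QuasiSeparatedSpace ↥S] (jc : X ⟶ P)
    [IsOpenImmersion jc] (p : P ⟶ S) [IsProper p] (d : ℕ)
    (hdim : ∀ s : S, topologicalKrullDim ↥((jc ≫ p).fiber s) ≤ d)
    (j : U ⟶ X) [IsOpenImmersion j] (i : Z ⟶ X) [IsClosedImmersion i]
    (hij : Set.range j.base = (Set.range i.base)ᶜ)
    (hZ : ∀ s : S, topologicalKrullDim ↥((i ≫ jc ≫ p).fiber s) < d)
    (F : EtCoh.Ab X) (hF : EtCoh.IsTorsion F) :
    IsIso ((EtCoh.Rpush p (2 * d)).map ((EtShriek.extZero jc).map ((EtShriek.extZeroAdj j).counit.app F))) := by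
  haveI := HasDerivedCategory.standard (EtCoh.Ab P)
  haveI : PreservesFiniteLimits (EtCoh.push p) := by
    haveI : PreservesLimitsOfSize.{0, 0} (EtCoh.push p) := (EtCoh.pullPushAdj p).rightAdjoint_preservesLimits
    exact PreservesLimitsOfSize.preservesFiniteLimits _
  haveI := ExtZero.jCont jc
  haveI := ExtZero.jCont j
  haveI := Supp.preservesFiniteLimits_lowerShriek jc
  haveI : PreservesFiniteLimits (EtShriek.extZero jc) :=
    preservesFiniteLimits_of_natIso (ExtZero.shriekIso jc).symm
  obtain ⟨w, hE⟩ := ExtZero.exists_shortExact_recollement j i hij F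
  have hE' := hE.map_of_exact (EtShriek.extZero jc)
  let G := (EtCoh.pull i).obj F
  have hG : EtCoh.IsTorsion G := L28.CurveCd.isTorsion_pull i hF
  let e : (EtShriek.extZero jc).obj ((EtCoh.push i).obj G) ≅ (EtShriek.lowerShriek (i ≫ jc)).obj G :=
    (ExtZero.shriekIso jc).app _ ≪≫ (EtShriek.lowerShriek jc).mapIso ((Supp.shriekPushIso i).app G).symm ≪≫
      ((Supp.compIso i jc).app G).symm
  rcases d with _ | d
  · have hempty : IsEmpty Z := ⟨fun z => by
      have h := hZ ((i ≫ jc ≫ p) z)
      haveI : Nonempty ↥((i ≫ jc ≫ p).fiber ((i ≫ jc ≫ p) z)) := ⟨(i ≫ jc ≫ p).asFiber z⟩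
      rw [Nat.cast_zero] at h
      haveI : Nonempty (TopologicalSpace.IrreducibleCloseds ↥((i ≫ jc ≫ p).fiber ((i ≫ jc ≫ p) z))) :=
        ⟨⟨closure {Classical.arbitrary _}, isIrreducible_singleton.closure, isClosed_closure⟩⟩
      exact absurd (Order.krullDim_nonneg (α := TopologicalSpace.IrreducibleCloseds _)) (not_le.2 h)⟩
    have hG0 : IsZero G := (EtSite.isZero_iff_stalks G).2 fun Ω _ _ ξ => isEmptyElim (ξ default)
    haveI := (ShortComplex.ShortExact.isIso_f_iff hE').2
      ((EtShriek.extZero jc).map_isZero ((EtCoh.push i).map_isZero hG0))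
    exact inferInstanceAs (IsIso ((EtCoh.Rpush p _).map
      ((ShortComplex.mk _ _ w).map (EtShriek.extZero jc)).f))
  · haveI : QuasiCompact jc := by
      haveI : QuasiSeparatedSpace P := quasiSeparatedSpace_of_quasiSeparated p
      infer_instance
    haveI : LocallyOfFiniteType (i ≫ jc) := inferInstance
    have hz : ∀ q, 2 * d < q → IsZero ((EtCoh.Rpush p q).obj ((EtShriek.extZero jc).obj ((EtCoh.push i).obj G))) :=
      fun q hq => (isZero_Rpush_shriek_dim' (i ≫ jc) p
        (fun Ω _ _ ξ => MorphismProperty.pullback_snd (P := @QuasiCompact) _ _ inferInstance) d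
        (fun s => le_of_lt_succ' ((congrArg (fun φ : Z ⟶ S => topologicalKrullDim ↥(Scheme.Hom.fiber φ s)) (Category.assoc i jc p)).trans_lt (hZ s))) G hG q hq).of_iso
        ((EtCoh.Rpush p q).mapIso e)
    haveI : Mono ((EtCoh.Rpush p (2 * d + 1 + 1)).map ((ShortComplex.mk _ _ w).map (EtShriek.extZero jc)).f) :=
      mono_map_f (EtCoh.push p) hE' (2 * d + 1) (hz _ (by omega))
    haveI := L00.RDerLES.additive (EtCoh.push p) (2 * d + 1 + 1)
    haveI : Epi ((EtCoh.Rpush p (2 * d + 1 + 1)).map ((ShortComplex.mk _ _ w).map (EtShriek.extZero jc)).f) :=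
      (L00.RDerLES.exact₂ (EtCoh.push p) hE' (2 * d + 1 + 1)).epi_f ((hz _ (by omega)).eq_of_tgt _ _)
    exact isIso_of_mono_of_epi
      ((EtCoh.Rpush p (2 * d + 1 + 1)).map ((ShortComplex.mk _ _ w).map (EtShriek.extZero jc)).f)

end Groth.L27.PBC
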