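import Groth.Agent.L27.PBC.TorRes
import Mathlib.Algebra.Homology.HomologySequence
import Mathlib.Algebra.Homology.QuasiIso
import Mathlib.Algebra.Homology.HomologicalComplexAbelian
import Mathlib.Algebra.Homology.ShortComplex.Ab

/-! # Torsion parts of injective complexes with torsion homology -/

set_option autoImplicit false
set_option linter.style.haveILetI false
set_option linter.unusedSectionVars false
set_option backward.isDefEq.respectTransparency.types false

universe u

open CategoryTheory CategoryTheory.Limits AlgebraicGeometry Opposite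

noncomputable section

namespace Groth.L27.PBC

open Groth.L27.CompTransfer

section

variable {C : Type*} [Category C] [Abelian C] {K L : CochainComplex C ℤ} (f : K ⟶ L) [Mono f]

theorem quasiIso_of_exactAt_cokernel (h : ∀ n, (cokernel f).ExactAt n) : QuasiIso f := by
  let S : ShortComplex (CochainComplex C ℤ) := ShortComplex.mk f (cokernel.π f) (cokernel.condition _)
  have hS : S.ShortExact := { exact := ShortComplex.exact_of_g_is_cokernel _ (cokernelIsCokernel _) }
  refine ⟨fun n => ?_⟩
  rw [quasiIsoAt_iff_isIso_homologyMap]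
  have h3 : ∀ m, IsZero (S.X₃.homology m) := fun m =>
    (HomologicalComplex.exactAt_iff_isZero_homology _ m).1 (h m)
  haveI : Epi (HomologicalComplex.homologyMap S.f n) :=
    (hS.homology_exact₂ n).epi_f ((h3 n).eq_of_tgt _ _)
  haveI : Mono (HomologicalComplex.homologyMap S.f n) :=
    (hS.homology_exact₁ (n - 1) n (by simp)).mono_g ((h3 (n - 1)).eq_of_src _ _)
  exact isIso_of_mono_of_epi (HomologicalComplex.homologyMap S.f n)

theorem exact_eval_cokernel (i : ℤ) :
    (ShortComplex.mk (f.f i) ((cokernel.π f).f i)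
      (by rw [← HomologicalComplex.comp_f, cokernel.condition]; rfl)).Exact :=
  (ShortComplex.exact_of_g_is_cokernel (ShortComplex.mk f (cokernel.π f) (cokernel.condition _))
    (cokernelIsCokernel _)).map (HomologicalComplex.eval _ _ i)

theorem epi_eval_cokernel (i : ℤ) : Epi ((cokernel.π f).f i) :=
  (inferInstance : Epi ((HomologicalComplex.eval C _ i).map (cokernel.π f)))

end

variable {X : Scheme.{u}} (I : CochainComplex (EtCoh.Ab X) ℤ)

/-- The torsion part of a complex. -/
abbrev torC : CochainComplex (EtCoh.Ab X) ℤ := ((torFun X).mapHomologicalComplex _).obj I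

/-- The inclusion of the torsion part. -/
def torCι : torC I ⟶ I where
  f n := torι Set.univ (I.X n)
  comm' i j _ := (torMap_ι (I.d i j)).symm

instance (n : ℤ) : Mono ((torCι I).f n) := mono_torι (I.X n)

instance : Mono (torCι I) := HomologicalComplex.mono_of_mono_f _ fun n => inferInstance

theorem quasiIso_torCι [∀ n, Injective (I.X n)] (hH : ∀ n, EtAcyc.IsLTorsion Set.univ (I.homology n)) :
    QuasiIso (torCι I) := by
  refine quasiIso_of_exactAt_cokernel (torCι I) ?_
  let S : ShortComplex (CochainComplex (EtCoh.Ab X) ℤ) :=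
    ShortComplex.mk (torCι I) (cokernel.π (torCι I)) (cokernel.condition _)
  change ∀ n, S.X₃.ExactAt n
  intro n
  rw [HomologicalComplex.exactAt_iff' _ (n - 1) n (n + 1) (by simp) (by simp), EtSite.exact_iff_stalks]
  intro Ω _ _ ξ
  let G := EtCoh.stalk ξ
  rw [ShortComplex.ab_exact_iff]
  intro x hx
  change (G.obj (S.X₃.X n) : Type (u + 1)) at x
  change G.map (S.X₃.d n (n + 1)) x = 0 at hx
  have hπ : ∀ i, Function.Surjective (G.map (S.g.f i)) := fun i =>
    (EtSite.epi_iff_stalks _).1 (epi_eval_cokernel (torCι I) i) Ω ξ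
  have hker : ∀ i (z : G.obj (I.X i)), G.map (S.g.f i) z = 0 ↔ ∃ m : ℕ, 0 < m ∧ m • z = 0 := fun i z => by
    constructor
    · intro hz
      obtain ⟨t, rfl⟩ := (ShortComplex.ab_exact_iff _).1
        ((EtSite.exact_iff_stalks _).1 (exact_eval_cokernel (torCι I) i) Ω ξ) z hz
      obtain ⟨m, hm, hmt⟩ := stalk_torsion ξ (isLTorsion_tor Set.univ (I.X i)) t
      exact ⟨m, hm, (map_nsmul (G.map (torι Set.univ (I.X i))).hom m t).symm.trans
        ((congrArg _ hmt).trans (map_zero _))⟩
    · rintro ⟨m, hm, hmz⟩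
      obtain ⟨t, rfl⟩ := exists_stalk_torι ξ (I.X i) z hm hmz
      show G.map (S.g.f i) (G.map (S.f.f i) t) = 0
      rw [← ConcreteCategory.comp_apply, ← G.map_comp, ← HomologicalComplex.comp_f, S.zero,
        HomologicalComplex.zero_f, G.map_zero]
      rfl
  have hd : ∀ i j (z : G.obj (I.X i)),
      G.map (S.X₃.d i j) (G.map (S.g.f i) z) = G.map (S.g.f j) (G.map (I.d i j) z) := fun i j z => by
    rw [← ConcreteCategory.comp_apply, ← ConcreteCategory.comp_apply, ← G.map_comp, ← G.map_comp, S.g.comm]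
  obtain ⟨z, rfl⟩ := hπ n x
  obtain ⟨m, hm, hmdz⟩ := (hker (n + 1) _).1 ((hd n (n + 1) z).symm.trans hx)
  have hmz : G.map (I.d n (n + 1)) (m • z) = 0 := (map_nsmul (G.map (I.d n (n + 1))).hom m z).trans hmdz
  -- the class of `m • z` is torsion
  let T := (I.sc' (n - 1) n (n + 1)).map G
  let e : T.homology ≅ G.obj (I.homology n) :=
    ((I.sc' (n - 1) n (n + 1)).mapHomologyIso G) ≪≫ G.mapIso
      ((I.homologyIsoSc' (n - 1) n (n + 1) (by simp) (by simp)).symm)
  obtain ⟨c, hc⟩ : ∃ c : T.cycles, T.iCycles c = m • z := by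
    exact ⟨_, T.abCyclesIso_inv_apply_iCycles ⟨m • z, hmz⟩⟩
  obtain ⟨k, hk, hkc⟩ := stalk_torsion ξ (hH n) (e.hom (T.homologyπ c))
  have hkc' : T.homologyπ (k • c) = 0 := by
    refine (ConcreteCategory.bijective_of_isIso e.hom).1 ?_
    rw [map_zero, map_nsmul, map_nsmul, hkc]
  obtain ⟨w, hw⟩ := (ShortComplex.ab_exact_iff (ShortComplex.mk _ _ T.toCycles_comp_homologyπ)).1
    (ShortComplex.exact_of_g_is_cokernel _ T.homologyIsCokernel) (k • c) hkc'
  change (G.obj (I.X (n - 1)) : Type (u + 1)) at w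
  change T.toCycles w = k • c at hw
  have hdw : G.map (I.d (n - 1) n) w = (k * m) • z := by
    have := congr($(T.toCycles_i) w)
    rw [ConcreteCategory.comp_apply, hw, map_nsmul, hc] at this
    exact this.symm.trans (mul_nsmul' z k m).symm
  obtain ⟨w', rfl⟩ := exists_stalk_div ξ (I.X (n - 1)) w (Nat.mul_pos hk hm)
  refine ⟨G.map (S.g.f (n - 1)) w', ?_⟩
  show G.map (S.X₃.d (n - 1) n) (G.map (S.g.f (n - 1)) w') = G.map (S.g.f n) z
  rw [hd]
  refine (sub_eq_zero.1 ?_).symm
  rw [← map_sub]
  refine (hker n _).2 ⟨k * m, Nat.mul_pos hk hm, ?_⟩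
  rw [nsmul_sub, ← hdw]
  exact sub_eq_zero.2 (map_nsmul (G.map (I.d (n - 1) n)).hom (k * m) w')

end Groth.L27.PBC
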