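import Groth.Agent.L27.PBC.CurveComp
import Groth.Agent.L27.PBC.GeomPoint
import Groth.Agent.L27.BigSets.ProperBC
import Groth.Agent.L27.EtSite.PushStalk
import Groth.Agent.L27.HenselClosed.Main
import Groth.Agent.S6186

/-! # The comparison along composites and proper surjective morphisms -/

set_option autoImplicit false
set_option linter.style.haveILetI false
set_option linter.unusedSectionVars false
set_option backward.isDefEq.respectTransparency.types false

universe u

open CategoryTheory CategoryTheory.Limits AlgebraicGeometry Opposite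

noncomputable section

namespace Groth.L27.PBC

open Groth.L27.LimCoh

/-- All base changes to strictly henselian local rings satisfy the comparison. -/
def Univ {X' X : Scheme.{u}} (p : X' ⟶ X) : Prop :=
  ∀ (B : Type u) [CommRing B] [HenselianLocalRing B] [IsSepClosed (IsLocalRing.ResidueField B)] (Y : Scheme.{u})
    (a : Y ⟶ X') (g : Y ⟶ Spec (CommRingCat.of B)) (b : Spec (CommRingCat.of B) ⟶ X),
    IsPullback a g p b → IsComp g

section Sub

variable {W W' W'' : Scheme.{u}}

theorem subsingleton_of_iso_iff {F G : EtCoh.Ab W} (e : F ≅ G) (q : ℕ) :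
    Subsingleton (EtCoh.H W F q) ↔ Subsingleton (EtCoh.H W G q) :=
  ⟨L28.CurveCd.subsingleton_H_of_iso e q, L28.CurveCd.subsingleton_H_of_iso e.symm q⟩

theorem isIso_gamma (h : W ⟶ W') (k : W' ⟶ W'') {k' : W ⟶ W''} (w : h ≫ k = k') (G : EtCoh.Ab W'') :
    IsIso (gamma h k w G) := by
  rw [← CompTransfer.inv_eq_gamma h k k' w G]; infer_instance

theorem subsingleton_pull_comp (h : W ⟶ W') (k : W' ⟶ W'') {k' : W ⟶ W''} (w : h ≫ k = k') (G : EtCoh.Ab W'') (q : ℕ) :
    Subsingleton (EtCoh.H W ((EtCoh.pull h).obj ((EtCoh.pull k).obj G)) q) ↔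
      Subsingleton (EtCoh.H W ((EtCoh.pull k').obj G) q) := by
  haveI := isIso_gamma h k w G
  exact (subsingleton_of_iso_iff (asIso (gamma h k w G)) q).symm

theorem subsingleton_of_bijective (h : W ⟶ W') (k : W' ⟶ W'') {k' : W ⟶ W''} (w : h ≫ k = k')
    [PreservesFiniteLimits (EtCoh.pull h)] (G : EtCoh.Ab W'') (q : ℕ)
    (hb : Function.Bijective (EtCore.Hpull h ((EtCoh.pull k).obj G) q)) :
    Subsingleton (EtCoh.H W' ((EtCoh.pull k).obj G) q) ↔ Subsingleton (EtCoh.H W ((EtCoh.pull k').obj G) q) :=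
  (Equiv.ofBijective _ hb).subsingleton_congr.trans (subsingleton_pull_comp h k w G q)

theorem subsingleton_of_schemeIso (θ : W ≅ W') (k : W' ⟶ W'') {k' : W ⟶ W''} (w : θ.hom ≫ k = k')
    (G : EtCoh.Ab W'') (q : ℕ) :
    Subsingleton (EtCoh.H W' ((EtCoh.pull k).obj G) q) ↔ Subsingleton (EtCoh.H W ((EtCoh.pull k').obj G) q) := by
  haveI := EtSite.preservesFiniteLimits_pull θ.hom
  exact subsingleton_of_bijective θ.hom k w G q (Groth.Agent.S0642.result θ.hom _ q)

end Sub

variable {X' X : Scheme.{u}} (p : X' ⟶ X)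

/-- Vanishing over a strictly henselian point can be read on the closed fibre. -/
theorem subsingleton_iff_closedFibre (hp : Univ p) (G : EtCoh.Ab X') (hG : EtCoh.IsTorsion G)
    {B : Type u} [CommRing B] [HenselianLocalRing B] [IsSepClosed (IsLocalRing.ResidueField B)] {Y : Scheme.{u}}
    (a : Y ⟶ X') (g : Y ⟶ Spec (CommRingCat.of B)) (b : Spec (CommRingCat.of B) ⟶ X) (sq : IsPullback a g p b)
    (q : ℕ) :
    Subsingleton (EtCoh.H Y ((EtCoh.pull a).obj G) q) ↔
      Subsingleton (EtCoh.H (pullback p (clA B ≫ b)) ((EtCoh.pull (pullback.fst p (clA B ≫ b))).obj G) q) := by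
  let k := pullback.fst g (clA B)
  haveI := EtSite.preservesFiniteLimits_pull k
  let sq' : IsPullback (k ≫ a) (pullback.snd g (clA B)) p (clA B ≫ b) :=
    (IsPullback.of_hasPullback g (clA B)).paste_horiz sq
  refine (subsingleton_of_bijective k a rfl G q ((hp B Y a g b sq) q _ (L28.CurveCd.isTorsion_pull a hG))).trans ?_
  exact (subsingleton_of_schemeIso sq'.isoPullback (pullback.fst p (clA B ≫ b)) sq'.isoPullback_hom_fst G q).symm

variable {X₀ X'₀ : Scheme.{u}} {i : X₀ ⟶ X} {i' : X'₀ ⟶ X'} {p₀ : X'₀ ⟶ X₀}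

/-- Higher direct images vanish on a closed subscheme when they vanish on the whole. -/
theorem isZero_Rpush_closed [IsProper p] [IsClosedImmersion i] (sq : IsPullback i' p₀ p i) (hp : Univ p)
    (G : EtCoh.Ab X') (hG : EtCoh.IsTorsion G) (q : ℕ) (hR : IsZero ((EtCoh.Rpush p q).obj G)) :
    IsZero ((EtCoh.Rpush p₀ q).obj ((EtCoh.pull i').obj G)) := by
  haveI : IsProper p₀ := MorphismProperty.of_isPullback (P := @IsProper) sq ‹IsProper p›
  refine EtSite.isZero_of_stalks _ fun x => ?_
  obtain ⟨R, _, _, _, _, hR'⟩ := Groth.Agent.S0537.result (X₀.presheaf.stalk x)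
  haveI := hR'.henselian
  haveI : IsSepClosed (IsLocalRing.ResidueField R) := hR'.isSepClosure.sep_closed
  obtain ⟨B, _, _, _, _, hB'⟩ := Groth.Agent.S0537.result (X.presheaf.stalk (i x))
  haveI := hB'.henselian
  haveI : IsSepClosed (IsLocalRing.ResidueField B) := hB'.isSepClosure.sep_closed
  refine ⟨IsLocalRing.ResidueField R, inferInstance, inferInstance, Hens2.geomPt X₀ x R, geomPt_default X₀ x R, ?_⟩
  let jB := Hens2.specOf X (i x) B
  let jR := Hens2.specOf X₀ x R
  obtain ⟨nB⟩ := Groth.Agent.S6186.result p (i x) B q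
  obtain ⟨nR⟩ := Groth.Agent.S6186.result p₀ x R q
  -- the geometric fibre over the point of `X`
  haveI h1 : Subsingleton ((EtCoh.HF (pullback p jB) q).obj ((EtCoh.pull (pullback.fst p jB)).obj G)) :=
    AddCommGrpCat.subsingleton_of_isZero
      (IsZero.of_iso ((EtCoh.stalk (Hens2.geomPt X (i x) B)).map_isZero hR) (nB.app G).symm)
  have h2 := (subsingleton_iff_closedFibre p hp G hG _ _ jB (IsPullback.of_hasPullback p jB) q).1 h1
  obtain ⟨e, he⟩ := exists_geomPt_iso i x B R
  have sq₃ : IsPullback (pullback.fst p (Hens2.geomPt X₀ x R ≫ i))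
      (pullback.snd p (Hens2.geomPt X₀ x R ≫ i) ≫ e.hom) p (Hens2.geomPt X (i x) B) :=
    (IsPullback.of_hasPullback p (Hens2.geomPt X₀ x R ≫ i)).of_iso (Iso.refl _) (Iso.refl _) e (Iso.refl _)
      (by simp) (by simp) (by simp) (by simp [he])
  have h3 : Subsingleton (EtCoh.H (pullback p (clA R ≫ jR ≫ i))
      ((EtCoh.pull (pullback.fst p (clA R ≫ jR ≫ i))).obj G) q) := by
    have h4 := (subsingleton_of_schemeIso sq₃.isoPullback (pullback.fst p (Hens2.geomPt X (i x) B))
      sq₃.isoPullback_hom_fst G q).1 h2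
    rw [← Category.assoc]
    exact h4
  -- transport to the closed subscheme
  have sqR : IsPullback (pullback.fst p₀ jR ≫ i') (pullback.snd p₀ jR) p (jR ≫ i) :=
    (IsPullback.of_hasPullback p₀ jR).paste_horiz sq
  have h5 := (subsingleton_iff_closedFibre p hp G hG _ _ _ sqR q).2 h3
  haveI h6 : Subsingleton ((EtCoh.HF (pullback p₀ jR) q).obj
      ((EtCoh.pull (pullback.fst p₀ jR)).obj ((EtCoh.pull i').obj G))) :=
    (subsingleton_pull_comp (pullback.fst p₀ jR) i' rfl G q).2 h5
  exact IsZero.of_iso (AddCommGrpCat.isZero_of_subsingleton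
    ((EtCoh.HF (pullback p₀ jR) q).obj ((EtCoh.pull (pullback.fst p₀ jR)).obj ((EtCoh.pull i').obj G))))
    (nR.app ((EtCoh.pull i').obj G))

/-- Cohomology downstairs of an acyclic sheaf and of its direct image. -/
theorem subsingleton_downstairs [IsProper p] [IsClosedImmersion i] (sq : IsPullback i' p₀ p i) (hp : Univ p)
    (G : EtCoh.Ab X') (hG : EtCoh.IsTorsion G) (hR : ∀ q : ℕ, 0 < q → IsZero ((EtCoh.Rpush p q).obj G)) (q : ℕ) :
    Subsingleton (EtCoh.H X₀ ((EtCoh.pull i).obj ((EtCoh.push p).obj G)) q) ↔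
      Subsingleton (EtCoh.H X'₀ ((EtCoh.pull i').obj G) q) := by
  haveI : IsProper p₀ := MorphismProperty.of_isPullback (P := @IsProper) sq ‹IsProper p›
  haveI := EtSite.preservesFiniteLimits_pull p₀
  haveI := BigSets.isIso_baseChange0 sq G
  refine (subsingleton_of_iso_iff (asIso (EtCoh.baseChange0 p i p₀ i' sq.w G)) q).trans ?_
  exact (Equiv.ofBijective _ ((CompTransfer.edge p₀ q ((EtCoh.pull i').obj G) fun r h1 _ =>
    isZero_Rpush_closed p sq hp G hG r (hR r h1)).1 q le_rfl)).subsingleton_congr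

variable {A : Type u} [CommRing A] [HenselianLocalRing A] [IsSepClosed (IsLocalRing.ResidueField A)] (f : X ⟶ Spec (CommRingCat.of A))

theorem isPullback_closedFibres :
    IsPullback (pullback.fst (p ≫ f) (clA A))
      (pullback.lift (pullback.fst (p ≫ f) (clA A) ≫ p) (pullback.snd (p ≫ f) (clA A))
        (by rw [Category.assoc]; exact pullback.condition)) p (pullback.fst f (clA A)) :=
  IsPullback.of_bot (by rw [pullback.lift_snd]; exact IsPullback.of_hasPullback (p ≫ f) (clA A))
    (pullback.lift_fst _ _ _).symm (IsPullback.of_hasPullback f (clA A))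

/-- The comparison passes to composites. -/
theorem isComp_comp [IsProper f] [IsProper p] (hf : IsComp f) (hp : Univ p) : IsComp (p ≫ f) := by
  intro _
  haveI : CompactSpace X' := QuasiCompact.compactSpace_of_compactSpace (p ≫ f)
  haveI : QuasiSeparatedSpace X' := quasiSeparatedSpace_of_quasiSeparated (p ≫ f)
  haveI := EtSite.preservesFiniteLimits_pull (pullback.fst f (clA A))
  haveI := EtSite.preservesFiniteLimits_pull p
  haveI : IsClosedImmersion (pullback.fst f (clA A)) := MorphismProperty.pullback_fst (P := @IsClosedImmersion) _ _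
    (IsClosedImmersion.spec_of_surjective _ IsLocalRing.residue_surjective)
  refine bijective_of_effacement _ (fun F _ => bijective_zero_cl (p ≫ f) F) fun n F hF ξ => ?_
  obtain ⟨G, φ, _, hG, hGv, hGR⟩ :=
    CompTransfer.exists_torsion_effacement Set.univ F (AffineEfface.isLTorsion_univ hF)
  refine ⟨G, φ, ‹_›, AffineEfface.isTorsion_of_isLTorsion hG, ?_⟩
  haveI := hGv n
  haveI : Subsingleton (EtCoh.H X ((EtCoh.push p).obj G) (n + 1)) :=
    (EtSite.bijective_HofPush p G (fun q hq => hGR p q hq) (n + 1)).1.subsingleton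
  have h0 : Subsingleton (EtCoh.H (pullback f (clA A)) ((EtCoh.pull (pullback.fst f (clA A))).obj ((EtCoh.push p).obj G)) (n + 1)) :=
    (hf (n + 1) _ (AffineEfface.isTorsion_of_isLTorsion (CompTransfer.isLTorsion_push Set.univ p hG))).2.subsingleton
  have h1 := (subsingleton_downstairs p (isPullback_closedFibres p f) hp G (AffineEfface.isTorsion_of_isLTorsion hG)
    (fun q hq => hGR p q hq) (n + 1)).1 h0
  exact @Subsingleton.elim (EtCoh.H (pullback (p ≫ f) (clA A)) ((EtCoh.pull (pullback.fst (p ≫ f) (clA A))).obj G) (n + 1)) h1 _ _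

/-- The comparison descends along proper surjective morphisms. -/
theorem isComp_of_surjective [IsProper f] [IsProper p] [Surjective p] (hf : IsComp (p ≫ f)) (hp : Univ p) :
    IsComp f := by
  intro _
  haveI : CompactSpace X := QuasiCompact.compactSpace_of_compactSpace f
  haveI : QuasiSeparatedSpace X := quasiSeparatedSpace_of_quasiSeparated f
  haveI : CompactSpace X' := QuasiCompact.compactSpace_of_compactSpace (p ≫ f)
  haveI : QuasiSeparatedSpace X' := quasiSeparatedSpace_of_quasiSeparated (p ≫ f)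
  haveI := EtSite.preservesFiniteLimits_pull (pullback.fst (p ≫ f) (clA A))
  haveI := EtSite.preservesFiniteLimits_pull p
  haveI : IsClosedImmersion (pullback.fst f (clA A)) := MorphismProperty.pullback_fst (P := @IsClosedImmersion) _ _
    (IsClosedImmersion.spec_of_surjective _ IsLocalRing.residue_surjective)
  refine bijective_of_effacement _ (fun F _ => bijective_zero_cl f F) fun n F hF ξ => ?_
  obtain ⟨G, φ, _, hG, hGv, hGR⟩ :=
    CompTransfer.exists_torsion_effacement Set.univ ((EtCoh.pull p).obj F)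
      (AffineEfface.isLTorsion_univ (L28.CurveCd.isTorsion_pull p hF))
  haveI := HenselClosed.mono_unit p F
  haveI : (EtCoh.push p).PreservesMonomorphisms :=
    Functor.preservesMonomorphisms_of_adjunction (EtCoh.pullPushAdj p)
  refine ⟨(EtCoh.push p).obj G, (EtCoh.pullPushAdj p).unit.app F ≫ (EtCoh.push p).map φ, mono_comp _ _,
    AffineEfface.isTorsion_of_isLTorsion (CompTransfer.isLTorsion_push Set.univ p hG), ?_⟩
  haveI := hGv n
  have h1 : Subsingleton (EtCoh.H (pullback (p ≫ f) (clA A)) ((EtCoh.pull (pullback.fst (p ≫ f) (clA A))).obj G) (n + 1)) :=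
    (hf (n + 1) _ (AffineEfface.isTorsion_of_isLTorsion hG)).2.subsingleton
  have h0 := (subsingleton_downstairs p (isPullback_closedFibres p f) hp G (AffineEfface.isTorsion_of_isLTorsion hG)
    (fun q hq => hGR p q hq) (n + 1)).2 h1
  exact @Subsingleton.elim (EtCoh.H (pullback f (clA A)) ((EtCoh.pull (pullback.fst f (clA A))).obj ((EtCoh.push p).obj G)) (n + 1)) h0 _ _

end Groth.L27.PBC
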